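import Cfsg.Agent.Omega.OM.SwapV.Q.Max
import Cfsg.Agent.Omega.OM.SwapL.Plug
import Cfsg.Agent.Omega.OM.SWQ.HThree

/-!
# (Om) for `q ≥ 4` over an abstract `V`: the frame at the stages `n ≥ 0`

* `LnQ S V Q n L W Z C A q` : `FrL` over `BL S n`, `lev S n ≤ Q`, `S` permutes the triples `(W i, C i, Z i)`, coordinates
  per block;
* `LnQ.gr` : it is a ground frame `Gr` (`K = lev S (n+1)`, `B = BL S n`, `Z_J = ZL S n`).
-/

set_option autoImplicit false
set_option linter.unusedSectionVars false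

namespace Cfsg.Agent.Omega.OM.SwapV.Q

open Subgroup Cfsg Cfsg.Agent.ZN.ChoiceBase Cfsg.Agent.ZN.ChoiceSit
open Cfsg.Agent.ZN (jj zj bau zc zl o2)
open Cfsg.Agent.MinSimple.MinParabolic (IsMinPar)
open Cfsg.Agent.MinSimple.VModule (oddGen oddGen_le)
open Cfsg.Agent.Omega.NO3S.Level (lev Lev lev_isLev BO nxt)
open Cfsg.Agent.Omega.OM.LevD (LB K0)
open Cfsg.Agent.Omega.OM.Lev.Uni (FrL)
open Cfsg.Agent.Omega.OM.Swap.Fam (Fm BF fm_AA fm_best)
open Cfsg.Agent.Omega.OM.SwapL (ZL BL lb wc norm_lev Stg zc_elab)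

universe u

variable {G : Type u} [Group G] [Finite G]

/-- The frame at stage `n` over an abstract module `V`, any `q`. -/
structure LnQ {ι : Type} (S : Sylow 2 G) (V Q : Subgroup G) (n : ℕ) (L W Z C A : ι → Subgroup G) (q : ℕ) : Prop where
  fr : FrL (BL (S : Subgroup G) n) Q V (zc (lev (S : Subgroup G) n)) (ZL (S : Subgroup G) n) L W Z C A q
  levQ : lev (S : Subgroup G) n ≤ Q
  char2 : IsCharacteristicTwoType G
  low : V ≤ o2 (centralizer (zc (S : Subgroup G) : Set G))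
  noff : ∀ T : Subgroup G, IsPGroup 2 T → BL (S : Subgroup G) n ≤ T → ∀ f : G, cj f V ≤ T → V ≤ cj f T →
    ∀ x ∈ V, ∀ y ∈ V, x * (f * y * f⁻¹) = f * y * f⁻¹ * x
  perm : ∀ s ∈ (S : Subgroup G), ∀ i j, cj s (Z i) = Z j → cj s (W i) = W j ∧ cj s (C i) = C j
  co : ∀ i, ∃ (F : Type) (_ : Field F) (_ : Finite F) (_ : CharP F 2), Nat.card F = q ∧
    ∃ e : G → F × F, Cor F (S : Subgroup G) (BL (S : Subgroup G) n) L W Z i e

section line

variable {ι : Type} {S : Sylow 2 G} {V Q : Subgroup G} {n : ℕ} {L W Z C A : ι → Subgroup G} {q : ℕ}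

/-- members of lower levels centralise `V` -/
theorem LnQ.comm_V (h : LnQ S V Q n L W Z C A q) {a v : G} (ha : a ∈ lev (S : Subgroup G) n)
    (hv : v ∈ V) : a * v = v * a := h.fr.cQ (h.levQ ha) hv

theorem LnQ.V_le_X (h : LnQ S V Q n L W Z C A q) {s : ℕ} (hs : s ≤ n) : V ≤ zc (lev (S : Subgroup G) s) :=
  h.fr.VX.trans ((lev_isLev (S : Subgroup G) s).zc_le_zc (NO3S.Level.lev_mono _ hs)
    (NO3S.Level.lev_le (S : Subgroup G) n))

theorem pair_nK {K B V ZJ X T F : Subgroup G} (hl : LB S K B ZJ) (hp : PairV B V ZJ X T F)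
    (hZM : normalizer (ZJ : Set G) ≤ X) : ¬ K ≤ o2 F := fun hle =>
  hp.nM ((le_normalizer_o2 F).trans ((hl.nrm _ (isPGroup_o2 F) hle).trans hZM))

theorem pair_minPar {K B V ZJ X T F : Subgroup G} (hl : LB S K B ZJ) (hp : PairV B V ZJ X T F)
    (hZM : normalizer (ZJ : Set G) ≤ X) : IsMinPar T F := by
  refine ⟨hp.syl.1, fun hle => ?_, F ⊓ X, lt_of_le_of_ne inf_le_left fun e => hp.nM (inf_eq_left.1 e),
    fun K hTK hKF => le_inf hKF.le (hp.min K hTK hKF)⟩
  apply pair_nK hl hp hZM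
  exact (hl.KB.trans hp.BT).trans (le_o2 hp.syl.2.1 hp.syl.1 hle)

/-- the stage of a pair -/
theorem pair_stage {X T F : Subgroup G} (hp : PairV (BL (S : Subgroup G) n) V (ZL (S : Subgroup G) n) X T F)
    (hZM : normalizer (ZL (S : Subgroup G) n : Set G) ≤ X) :
    ¬ jj (S : Subgroup G) ≤ o2 F ∨ ∃ s, Stg S n T F s := by
  classical
  have hnK := pair_nK (lb S n) hp hZM
  by_cases h0 : jj (S : Subgroup G) ≤ o2 F
  · right
    have hex : ∃ m, ¬ lev (S : Subgroup G) m ≤ o2 F := ⟨n + 1, hnK⟩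
    obtain ⟨m, hm, hmin⟩ : ∃ m, ¬ lev (S : Subgroup G) m ≤ o2 F ∧ ∀ k, k < m → lev (S : Subgroup G) k ≤ o2 F :=
      ⟨Nat.find hex, Nat.find_spec hex, fun k hk => by
        by_contra hcon
        exact Nat.find_min hex hk hcon⟩
    have hmn : m ≤ n + 1 := by
      by_contra hcon
      exact hnK (hmin (n + 1) (by omega))
    obtain ⟨s, rfl⟩ : ∃ s, m = s + 1 := by
      refine ⟨m - 1, ?_⟩
      have : m ≠ 0 := by
        rintro rfl
        exact hm h0
      omega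
    exact ⟨s, by omega, hmin s (by omega), hm⟩
  · exact Or.inl h0

/-- The family of offenders. -/
theorem LnQ.fam [Finite ι] (h : LnQ S V Q n L W Z C A q) {X T F : Subgroup G}
    (hp : PairV (BL (S : Subgroup G) n) V (ZL (S : Subgroup G) n) X T F)
    (hD : centralizer (ZL (S : Subgroup G) n : Set G) ≤ X) (hTM : T ≤ X)
    (hZM : normalizer (ZL (S : Subgroup G) n : Set G) ≤ X) :
    ∃ 𝓐 : Set (Subgroup G),
      (∀ Λ : Subgroup G, IsElementaryAbelian 2 Λ → Λ ≤ F → F ≤ normalizer (Λ : Set G) →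
        Λ ≤ NoFF.Basic.V V F → Fm F Λ 𝓐) ∧
      (∃ E ∈ 𝓐, E ≤ T ∧ ¬ E ≤ o2 F) ∧
      ∀ E ∈ 𝓐, E ≤ T → E ≤ BL (S : Subgroup G) n ∧
        ((∀ a ∈ E, ∀ v ∈ V, a * v = v * a) ∨
          OM.Lev.Uni.Best (zc (lev (S : Subgroup G) n)) E) := by
  have hT2 := hp.syl.2.1
  have hKT : lev (S : Subgroup G) (n + 1) ≤ T := (lb S n).KB.trans hp.BT
  have h0T : jj (S : Subgroup G) ≤ T :=
    (NO3S.Level.lev_mono (S : Subgroup G) (Nat.zero_le (n + 1))).trans hKT
  rcases pair_stage hp hZM with hJ | ⟨s, hs, hlow, hnle⟩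
  · -- stage `-1`
    have hjT : jj T = jj (S : Subgroup G) := MinSimple.EmptyTI.jj_eq S hT2 h0T
    refine ⟨AA F, fun Λ hΛ hΛF hn _ => fm_AA hΛ hΛF hn, ?_, fun X hX hXT => ?_⟩
    · by_contra hcon
      push Not at hcon
      apply hJ
      rw [← hjT, Cfsg.Agent.ZN.ChoiceBase.jj_eq]
      exact sSup_le fun X hX => hcon X (Swap.AA_of_syl hp.syl hX) hX.2.1
    · have h1 : X ≤ lev (S : Subgroup G) 0 := by
        have := le_jj (Swap.AA_of_le hX hXT hp.syl.1)
        rwa [hjT] at this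
      have h2 : X ≤ lev (S : Subgroup G) n := h1.trans (NO3S.Level.lev_mono _ (Nat.zero_le n))
      exact ⟨(h2.trans (NO3S.Level.lev_mono _ (Nat.le_succ n))).trans (lb S n).KB,
        Or.inl fun a ha v hv => h.comm_V (h2 ha) hv⟩
  · -- stage `s`
    have hX := zc_elab (lev (S : Subgroup G) s)
    have hFN : F ≤ normalizer (zc (lev (S : Subgroup G) s) : Set G) :=
      (le_normalizer_o2 F).trans ((LB.lev S s).nrm _ (isPGroup_o2 F) hlow)
    have hlev : ∀ j, j ≤ n + 1 → lev T j = lev (S : Subgroup G) j := LevD.lev_eq S hT2 hKT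
    have hVX := h.V_le_X hs
    refine ⟨BF F (zc (lev (S : Subgroup G) s)), fun Λ hΛ hΛF hn hle => fm_best hX hFN ?_ hn, ?_, fun X hXA hXT => ?_⟩
    · refine hle.trans (NoFF.Basic.V_le fun f hf => ?_)
      have h1 := cj_mono f hVX
      rwa [cj_eq_of_mem_normalizer (hFN hf)] at h1
    · by_contra hcon
      push Not at hcon
      apply hnle
      rw [← hlev (s + 1) (by omega)]
      have e : lev T (s + 1) = nxt T (lev T s) := rfl
      rw [e, hlev s (by omega)]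
      have : Fact (Nat.Prime 2) := ⟨Nat.prime_two⟩
      have hNn : F ≤ normalizer ((F ⊓ centralizer (zc (lev (S : Subgroup G) s) : Set G) : Subgroup G) : Set G) := by
        intro f hf
        rw [mem_normalizer_iff_cj, cj_inf, cj_centralizer, cj_eq_of_mem_normalizer (hFN hf),
          cj_eq_of_mem_normalizer (le_normalizer hf)]
      refine sup_le ?_ (sSup_le fun X hX' => hcon X ⟨hX'.1.trans hp.syl.1, hT2.to_le hX'.1, hX'.2⟩ hX'.1)
      rcases (pair_minPar (lb S n) hp hZM).sup_eq_or_inf_le (p := 2) hT2 (syl_not_dvd hp.syl)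
        (N := F ⊓ centralizer (zc (lev (S : Subgroup G) s) : Set G)) inf_le_left hNn with h1 | h1
      · exfalso
        apply hp.nM
        rw [← h1]
        refine sup_le ((inf_le_right.trans (centralizer_le ?_)).trans hD) hTM
        exact_mod_cast h.fr.ZJV.trans hVX
      · refine le_trans (fun x hx => ?_) h1
        exact ⟨hx.1, hp.syl.1 hx.1, hx.2⟩
    · have h1 : X ≤ lev (S : Subgroup G) (s + 1) := by
        rw [← hlev (s + 1) (by omega)]
        have e : lev T (s + 1) = nxt T (lev T s) := rfl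
        rw [e, hlev s (by omega)]
        exact NO3S.Level.BO.le_nxt ⟨hXT, hXA.2.2⟩
      refine ⟨(h1.trans (NO3S.Level.lev_mono _ (by omega))).trans (lb S n).KB, ?_⟩
      rcases hs.lt_or_eq with hlt | rfl
      · left
        intro a ha v hv
        exact h.comm_V (NO3S.Level.lev_mono (S : Subgroup G) (by omega : s + 1 ≤ n) (h1 ha)) hv
      · right
        exact fun F' h1 h2 => hXA.2.2.max F' h2 h1

/-- `Z_J ≤ ⟨Z i⟩` -/
theorem ZJ_le_sup [Finite ι] {B Q V X ZJ : Subgroup G} {L W Z C A : ι → Subgroup G} {q : ℕ}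
    (h : FrL B Q V X ZJ L W Z C A q) : ZJ ≤ ⨆ i, Z i := by
  classical
  have := Fintype.ofFinite ι
  intro x hx
  have h2 : x ∈ ⨆ i ∈ (Finset.univ : Finset ι), Z i := by
    refine SWQ.ModQ.W_inf_ZJ h _ x ?_ hx
    have h3 : x ∈ V := h.ZJV hx
    rw [h.V_eq] at h3
    have e : (⨆ i ∈ (Finset.univ : Finset ι), W i) = ⨆ i, W i := by simp
    rw [e]
    exact h3
  have e : (⨆ i ∈ (Finset.univ : Finset ι), Z i) = ⨆ i, Z i := by simp
  rwa [e] at h2

/-- **The frame at stage `n` is a ground frame.** -/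
theorem LnQ.gr [Finite ι] (h : LnQ S V Q n L W Z C A q) :
    Gr S (lev (S : Subgroup G) (n + 1)) (BL (S : Subgroup G) n) V (ZL (S : Subgroup G) n) L W Z C A (fun _ => q) where
  lb := lb S n
  wc := wc S n
  char2 := h.char2
  VB := h.fr.VQ.trans h.fr.QB
  el := h.fr.el
  ZJV := h.fr.ZJV
  WV := h.fr.WV
  ZW := fun i => (h.fr.blk i).ZV
  Zle := h.fr.Z_le
  cardZ := h.fr.cardZ
  cardW := fun i => by rw [(h.fr.blk i).card, h.fr.cardZ i]
  dir := h.fr.dir
  C0 := h.fr.C0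
  WjC := h.fr.WjC
  sup := ZJ_le_sup h.fr
  BL := fun i => (h.fr.blk i).BL
  LC := h.fr.LC
  AB := h.fr.AB
  AC := h.fr.AC
  root := fun i v hv hvZ z hz => SWQ.ModQ.root h.fr hv hvZ hz
  conjZ := fun r x hx => SWQ.ModQ.conj_ZJ h.fr r hx
  norm := fun g hg => by
    have h1 := h.fr.norm_of hg (NO3S.Level.normalizer_le_zc _ (norm_lev S (by omega) hg))
    exact ⟨h1.1, fun i => by obtain ⟨j, hj, -⟩ := h1.2 i; exact ⟨j, hj⟩⟩
  perm := h.perm
  low := h.low
  noff := h.noff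
  fixPt := fun _ _ hY => inf_le_right.trans (LevD.fixPt S hY.syl ((lb S n).KB.trans hY.BT) hY.min hY.nK hY.cz)
  fam := fun X T F hp hD hTM hZM => by
    obtain ⟨𝓐, h1, h2, h3⟩ := h.fam hp hD hTM hZM
    refine ⟨𝓐, h1, h2, fun E hE hET => ⟨(h3 E hE hET).1, fun i => ?_⟩⟩
    obtain ⟨hEB, h4 | h4⟩ := h3 E hE hET
    · exact Or.inl fun a ha x hx => h4 a ha x (h.fr.WV i hx)
    · exact SWQ.HThree.h2 h.fr hEB h4 i
  co := h.co

end line

end Cfsg.Agent.Omega.OM.SwapV.Q
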