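import Cfsg.Agent.Omega.OM.SwapV.Q.Main
import Cfsg.Agent.Omega.OM.SwapV.Core

/-!
# (Om) for `q ≥ 4` over an abstract `V`, inside `C_G(Z₁)`, `1 ≠ Z₁ ≤ Ω₁Z(S)`

The pair `(T, F)` is chosen inside `C_G(C₀)`, `Z₁ ≤ C₀ ≤ Z_J` maximal with `C_G(C₀) ≰ X` (helper334 #23847 (0)):
`C_{Z_J}(T) = C₀`, `C_G(Y) ≤ X` for `C₀ < Y ≤ Z_J`. So `BM` is needed only inside `C_G(Z₁)`.

* `Gr.fus` : fusion in `Z_J`; `Gr.exists_conj`; `Gr.tv`;
* `exists_pairH`, `SelC`, `exists_selC`;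
* `SelC.ti`, `SelC.phi_univ` : CASE I;
* **`Gr.cz_leC'`**, **`Gr.cz_leC`** : `C_G(Ω₁Z(S)) ≤ X`.
-/

set_option autoImplicit false
set_option linter.unusedSectionVars false
set_option linter.unusedTactic false
set_option linter.unreachableTactic false

namespace Cfsg.Agent.Omega.OM.SwapV.Q

open Subgroup Cfsg Cfsg.Agent.ZN.ChoiceBase Cfsg.Agent.ZN.ChoiceSit
open Cfsg.Agent.ZN (jj zj bau zc zl o2)
open Cfsg.Agent.MinSimple.MinParabolic (IsMinPar)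
open Cfsg.Agent.MinSimple.VModule (oddGen oddGen_le)
open Cfsg.Agent.Omega.OM.LevD (LB K0)
open Cfsg.Agent.Omega.OM.WeakCl (WC)
open Cfsg.Agent.Omega.OM.FourF (Act)
open Cfsg.Agent.Omega.OM.Swap.Fam (Fm)
open Cfsg.Agent.Omega.OM.SWQ (exists_fix cost_blocks)
open Cfsg.Agent.Omega.OM.SwapV (BMH)
open scoped commutatorElement

universe u

variable {G : Type u} [Group G] [Finite G]

open scoped Pointwise in
omit [Finite G] in
theorem mem_sup_cmC {R U : Subgroup G} (hc : ∀ r ∈ R, ∀ v ∈ U, r * v = v * r) {y : G} (hy : y ∈ R ⊔ U) :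
    ∃ r ∈ R, ∃ v ∈ U, r * v = y := by
  have h : R ≤ normalizer (U : Set G) := fun a ha => (Subgroup.centralizer_le_normalizer _)
    (mem_centralizer_iff.2 fun b hb => (hc a ha b hb).symm)
  have h1 : y ∈ (R : Set G) * (U : Set G) := by
    rw [← coe_mul_of_left_le_normalizer_right R U h]
    exact hy
  obtain ⟨r, hr, b, hb, e⟩ := Set.mem_mul.1 h1
  exact ⟨r, hr, b, hb, e⟩

variable {ι : Type} [Finite ι] {S : Sylow 2 G} {K B V ZJ : Subgroup G} {L W Z C A : ι → Subgroup G} {q : ι → ℕ}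

namespace Gr

variable (h : Gr S K B V ZJ L W Z C A q)
include h

/-- `Ω₁Z(S) ≤ Z_J` -/
theorem zc_le (hzB : zc B ≤ ZJ) : zc (S : Subgroup G) ≤ ZJ := by
  intro y hy
  obtain ⟨h7, h8, h9⟩ := mem_zc.1 hy
  have hyB : y ∈ B := by
    rw [h.lb.eqB]
    exact ⟨h7, mem_centralizer_iff.2 fun x hx => h9 x (h.lb.BS (h.lb.ZB hx))⟩
  exact hzB (mem_zc.2 ⟨hyB, h8, fun b hb => h9 b (h.lb.BS hb)⟩)

/-- **fusion in `Z_J`**: an element of `Z_J` which is fused into `Z i` lies in some `Z j`. -/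
theorem fus {i : ι} {x g : G} (hx : x ∈ ZJ) (hg : g⁻¹ * x * g ∈ Z i) : ∃ j, x ∈ Z j := by
  set Q : Subgroup G := centralizer ({x} : Set G) with hQ
  have hB : B ≤ Q := fun b hb => mem_centralizer_singleton_iff.2 (h.cB hb hx)
  have hB' : cj g B ≤ Q := by
    intro c hc
    rw [mem_cj] at hc
    rw [hQ, mem_centralizer_singleton_iff]
    have h3 := h.cB hc (h.Zle i hg)
    have h4 := congrArg (fun t => g * t * g⁻¹) h3
    have e1 : g * (g⁻¹ * c * g * (g⁻¹ * x * g)) * g⁻¹ = c * x := by group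
    have e2 : g * (g⁻¹ * x * g * (g⁻¹ * c * g)) * g⁻¹ = x * c := by group
    rw [← e1, ← e2]
    exact h4
  obtain ⟨R, hR, hBR⟩ := exists_syl h.lb.Bp hB
  obtain ⟨R', hR', hBR'⟩ := exists_syl (isPGroup_cj g h.lb.Bp) hB'
  obtain ⟨c, hc, e⟩ := syl_conj hR' hR
  have h6 : cj (c * g) B = B := by
    have h7 : cj (c * g) B ≤ R := by
      rw [← cj_cj, ← e]
      exact cj_mono _ hBR'
    exact h.wc R hR.2.1 hBR (c * g) h7
  obtain ⟨j, hj⟩ := (h.norm _ (mem_normalizer_iff_cj.2 h6)).2 i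
  refine ⟨j, ?_⟩
  rw [← hj]
  refine ⟨_, hg, ?_⟩
  change c * g * (g⁻¹ * x * g) * (c * g)⁻¹ = x
  have e1 : c * g * (g⁻¹ * x * g) * (c * g)⁻¹ = c * x * c⁻¹ := by group
  rw [e1, mem_centralizer_singleton_iff.1 hc]
  group

/-- an element of `W i` is conjugate into `Z i` by an element which normalises `W i` and centralises the `W j`. -/
theorem exists_one (i : ι) {w : G} (hw : w ∈ W i) : ∃ g, cj g (W i) = W i ∧ g * w * g⁻¹ ∈ Z i ∧
    ∀ j, j ≠ i → ∀ v ∈ W j, g * v = v * g := by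
  obtain ⟨E, _, _, _, -, e, c⟩ := h.co i
  by_cases hb : (e w).2 = 0
  · refine ⟨1, cj_one _, ?_, fun j _ v _ => by rw [one_mul, mul_one]⟩
    rw [one_mul, inv_one, mul_one]
    exact (c.memZ w).2 ⟨hw, hb⟩
  obtain ⟨g, -, hgN, hg, hgc⟩ := c.sl 0 (-1) 1 (-((e w).1 * ((e w).2)⁻¹)) (by ring)
  refine ⟨g, mem_normalizer_iff_cj.1 hgN, (c.memZ _).2 ⟨(mem_normalizer_iff.1 hgN w).1 hw, ?_⟩, hgc⟩
  rw [hg w hw]
  change 1 * (e w).1 + -((e w).1 * ((e w).2)⁻¹) * (e w).2 = 0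
  rw [neg_mul, mul_assoc, inv_mul_cancel₀ hb]
  ring

/-- every element of `⨆ W i` is conjugate into `⨆ Z i` by an element which normalises all `W j` -/
theorem exists_conj {r : Set ι} {y : G} (hy : y ∈ ⨆ i ∈ r, W i) :
    ∃ g, (∀ j, cj g (W j) = W j) ∧ g * y * g⁻¹ ∈ ZJ := by
  classical
  have := Fintype.ofFinite ι
  have key : ∀ s : Finset ι, ∀ y ∈ (⨆ i ∈ s, W i : Subgroup G), ∃ g, (∀ j, cj g (W j) = W j) ∧
      (∀ j, j ∉ s → ∀ v ∈ W j, g * v = v * g) ∧ g * y * g⁻¹ ∈ (⨆ i ∈ s, Z i : Subgroup G) := by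
    intro s
    induction s using Finset.induction_on with
    | empty =>
      intro y hy
      refine ⟨1, fun j => cj_one _, fun j _ v _ => by rw [one_mul, mul_one], ?_⟩
      rw [one_mul, inv_one, mul_one]
      simpa using hy
    | insert i s hi ih =>
      intro y hy
      rw [Finset.iSup_insert] at hy
      rw [Finset.iSup_insert]
      have hsV : (⨆ i ∈ s, W i : Subgroup G) ≤ V := iSup₂_le fun i _ => h.WV i
      have hZW : (⨆ i ∈ s, Z i : Subgroup G) ≤ ⨆ i ∈ s, W i := iSup₂_mono fun i _ => h.ZW i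
      obtain ⟨w, hw, v, hv, e⟩ := mem_sup_cmC (fun a ha b hb => h.Vc (h.WV i ha) (hsV hb)) hy
      obtain ⟨g, hg1, hg2, hg3⟩ := ih v hv
      obtain ⟨l, hl1, hl2, hl3⟩ := h.exists_one i hw
      have hlv : l * v * l⁻¹ = v := by
        have h1 : (⨆ i ∈ s, W i : Subgroup G) ≤ centralizer ({l} : Set G) := by
          refine iSup₂_le fun j hj x hx => mem_centralizer_singleton_iff.2 ?_
          exact (hl3 j (fun e => hi (e ▸ hj)) x hx).symm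
        have h2 := mem_centralizer_singleton_iff.1 (h1 hv)
        rw [← h2, mul_inv_cancel_right]
      have hlW : ∀ j, cj l (W j) = W j := by
        intro j
        by_cases hj : j = i
        · rw [hj]; exact hl1
        · refine cj_eq_of_mem_normalizer (centralizer_le_normalizer _ (mem_centralizer_iff.2 fun x hx => ?_))
          exact (hl3 j hj x hx).symm
      have hgZ : g * (l * w * l⁻¹) * g⁻¹ = l * w * l⁻¹ := by
        rw [hg2 i hi _ (h.ZW i hl2), mul_inv_cancel_right]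
      refine ⟨g * l, fun j => by rw [← cj_cj, hlW, hg1], fun j hj x hx => ?_, ?_⟩
      · rw [Finset.mem_insert, not_or] at hj
        rw [mul_assoc, hl3 j hj.1 x hx, ← mul_assoc, hg2 j hj.2 x hx, mul_assoc]
      · have e1 : g * l * y * (g * l)⁻¹ = (g * (l * w * l⁻¹) * g⁻¹) * (g * (l * v * l⁻¹) * g⁻¹) := by
          rw [← e]; group
        rw [e1, hgZ, hlv]
        exact mul_mem (mem_sup_left hl2) (mem_sup_right hg3)
  obtain ⟨g, hg1, -, hg3⟩ := key Finset.univ y (by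
    have h1 : (⨆ i ∈ r, W i : Subgroup G) ≤ ⨆ i ∈ (Finset.univ : Finset ι), W i :=
      iSup₂_le fun i _ => le_iSup₂_of_le i (Finset.mem_univ i) le_rfl
    exact h1 hy)
  exact ⟨g, hg1, (iSup₂_le fun i _ => h.Zle i : (⨆ i ∈ (Finset.univ : Finset ι), Z i : Subgroup G) ≤ ZJ) hg3⟩

/-- (TV) -/
theorem tv (hq : ∀ i, 1 < q i) {O : Subgroup G} {j : ι} (hO : ∀ a ∈ A j, ∀ o ∈ O, a * o * a⁻¹ ∈ O) {o : G}
    (ho : o ∈ O) (hmv : cj o⁻¹ (W j) ≤ C j) {v z : G} (hv : v ∈ W j) (hvZ : v ∉ Z j) (hz : z ∈ Z j) :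
    ∃ u ∈ O, u * v * u⁻¹ = z * v := by
  obtain ⟨a, ha, e⟩ := h.root j v hv hvZ z hz
  have he : o * a⁻¹ * o⁻¹ * a ∈ O := by
    have h1 := hO a⁻¹ (inv_mem ha) o⁻¹ (inv_mem ho)
    rw [inv_inv] at h1
    have h2 := mul_mem ho h1
    have e1 : o * (a⁻¹ * o⁻¹ * a) = o * a⁻¹ * o⁻¹ * a := by group
    rwa [e1] at h2
  have hav : a * v * a⁻¹ ∈ W j := h.BW hq j a (h.AB j ha) v hv
  have h1 : a * (o⁻¹ * (a * v * a⁻¹) * o) = o⁻¹ * (a * v * a⁻¹) * o * a := by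
    refine h.AC j a ha _ (hmv ?_)
    refine ⟨a * v * a⁻¹, hav, ?_⟩
    show o⁻¹ * (a * v * a⁻¹) * o⁻¹⁻¹ = o⁻¹ * (a * v * a⁻¹) * o
    rw [inv_inv]
  refine ⟨o * a⁻¹ * o⁻¹ * a, he, ?_⟩
  have e1 : o * a⁻¹ * o⁻¹ * a * v * (o * a⁻¹ * o⁻¹ * a)⁻¹ =
      o * (a⁻¹ * (o⁻¹ * (a * v * a⁻¹) * o * a)) * o⁻¹ := by group
  rw [e1, ← h1, ← e]; group

end Gr

/-- **Existence of pairs**, `BM` only inside `H`; `F` has characteristic 2. -/
theorem exists_pairH (h : Gr S K B V ZJ L W Z C A q) {X H : Subgroup G} (hBM : BMH K B X H)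
    (hD : centralizer (ZJ : Set G) ≤ X) (hN : normalizer (B : Set G) ≤ X)
    (hB : B ≤ H) (hc : H ⊓ centralizer (o2 H : Set G) ≤ o2 H) (hM : ¬ H ≤ X) :
    ∃ T F : Subgroup G, PairV B V ZJ X T F ∧ F ≤ H := by
  have : Fact (Nat.Prime 2) := ⟨Nat.prime_two⟩
  obtain ⟨T₀, hT₀, hBT₀⟩ := exists_syl h.lb.Bp hB
  have hsylY : ∀ Y : Subgroup G, IsMinPar T₀ Y → Y ≤ H → Syl T₀ Y := fun Y hY hYH =>
    ⟨hY.le, hT₀.2.1, fun Q hQ h2 hTQ => hT₀.2.2 Q (hQ.trans hYH) h2 hTQ⟩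
  have hcY' : ∀ Y : Subgroup G, IsMinPar T₀ Y → Y ≤ H → Y ⊓ centralizer (o2 Y : Set G) ≤ o2 Y := by
    intro Y hY hYH
    have h4 : o2 H ≤ o2 Y :=
      le_o2 (isPGroup_o2 H) ((o2_le_syl hT₀).trans hY.le) (hYH.trans (le_normalizer_o2 H))
    rintro x ⟨hx, hxc⟩
    exact h4 (hc ⟨hYH hx, centralizer_le (by exact_mod_cast h4) hxc⟩)
  have hg := h.genM hD hN hT₀ hBT₀ hc
    fun Y hY hYH => hBM T₀ Y (hsylY Y hY hYH) hBT₀ hY hYH (hcY' Y hY hYH)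
  -- the minimal parabolic `Y`
  obtain ⟨Y, ⟨hYm, hYH, hYK, hYc, -⟩, hYM⟩ : ∃ Y : Subgroup G, (IsMinPar T₀ Y ∧ Y ≤ H ∧
      ¬ K ≤ o2 Y ∧ Y ≤ centralizer (zc T₀ : Set G) ∧ ¬ o2 Y ≤ B) ∧ ¬ Y ≤ X := by
    by_contra hcon
    push Not at hcon
    exact hM (hg.trans (sup_le inf_le_right (iSup_le fun Y => hcon Y.1 Y.2)))
  have hTM : T₀ ≤ X := (h.lb.two_le hT₀.2.1 hBT₀).trans hN
  have hTY : Syl T₀ Y := hsylY Y hYm hYH
  have hcY := hcY' Y hYm hYH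
  have hVY : V ≤ o2 Y := V_le_o2 h hT₀.2.1 hBT₀ hYm.le hYc
  -- `Y₁ = O²(Y) O₂(Y) B`
  set Y₁ : Subgroup G := oddGen Y ⊔ (o2 Y ⊔ B) with hY₁
  have hY₁Y : Y₁ ≤ Y := sup_le (oddGen_le Y) (sup_le (o2_le Y) (hBT₀.trans hYm.le))
  have hOB : IsPGroup 2 (o2 Y ⊔ B : Subgroup G) :=
    hT₀.2.1.to_le (sup_le (o2_le_syl hTY) hBT₀)
  obtain ⟨T, hT, hOT⟩ := exists_syl hOB (le_sup_right : o2 Y ⊔ B ≤ Y₁)
  have hY₁M : ¬ Y₁ ≤ X := by
    intro hle
    apply hYM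
    rw [← Dich.oddGen_sup_syl hTY]
    exact sup_le (le_sup_left.trans hle) hTM
  obtain ⟨F, hF⟩ := (Set.toFinite {K : Subgroup G | T ≤ K ∧ K ≤ Y₁ ∧ ¬ K ≤ X}).exists_minimal
    ⟨Y₁, hT.1, le_rfl, hY₁M⟩
  obtain ⟨hTF, hFY₁, hFM⟩ := hF.prop
  have hFY : F ≤ Y := hFY₁.trans hY₁Y
  have hsyl : Syl T F := ⟨hTF, hT.2.1, fun Q hQ h2 hle => hT.2.2 Q (hQ.trans hFY₁) h2 hle⟩
  have hBT : B ≤ T := le_sup_right.trans hOT
  have hOF : o2 Y ≤ o2 F :=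
    le_o2 (isPGroup_o2 Y) ((le_sup_left.trans hOT).trans hTF) (hFY.trans (le_normalizer_o2 Y))
  have hmin : ∀ K : Subgroup G, T ≤ K → K < F → K ≤ X := by
    intro K' hTK hKF
    by_contra hKM
    exact hKF.not_ge (hF.le_of_le ⟨hTK, hKF.le.trans hFY₁, hKM⟩ hKF.le)
  have hVO : V ≤ o2 F := hVY.trans hOF
  have hcF : F ⊓ centralizer (o2 F : Set G) ≤ o2 F := by
    rintro x ⟨hx, hxc⟩
    exact hOF (hcY ⟨hFY hx, centralizer_le (by exact_mod_cast hOF) hxc⟩)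
  have hfx : ZJ ⊓ centralizer (o2 F : Set G) ≤ centralizer (F : Set G) := by
    rintro z ⟨hz, hzc⟩
    have hzB : z ∈ B := h.lb.ZB hz
    have hzO : ∀ y ∈ o2 Y, y * z = z * y := fun y hy => mem_centralizer_iff.1 hzc y (hOF hy)
    have hz1 : z ∈ zc (o2 Y) := by
      refine mem_zc.2 ⟨hcY ⟨hYm.le (hBT₀ hzB), mem_centralizer_iff.2 hzO⟩, h.lb.sq z hz, hzO⟩
    have hz2 : z ∈ centralizer (oddGen Y : Set G) :=
      h.fixPt T₀ Y ⟨hTY, hBT₀, hYm, hcY, hYK, hYc⟩ ⟨hz, hz1⟩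
    have hle : Y₁ ≤ centralizer ({z} : Set G) := by
      refine sup_le (fun y hy => ?_) (sup_le (fun y hy => ?_) fun y hy => ?_) <;>
        rw [mem_centralizer_singleton_iff]
      · exact mem_centralizer_iff.1 hz2 y hy
      · exact hzO y hy
      · exact (mem_centralizer_iff.1 (h.lb.Bc hy) z hz).symm
    rw [mem_centralizer_iff]
    intro y hy
    exact mem_centralizer_singleton_iff.1 (hle (hFY₁ hy))
  refine ⟨T, F, ?_, hFY.trans hYH⟩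
  constructor <;> first | exact hsyl | exact hBT | exact hFM | exact hmin | exact hVO | exact hfx | exact hcF

/-- The chosen pair. -/
structure SelC (S : Sylow 2 G) (B V ZJ X T F : Subgroup G) : Prop where
  pair : PairV B V ZJ X T F
  TS : T ≤ (S : Subgroup G)
  cen : ∀ Y : Subgroup G, Y ≤ ZJ → ZJ ⊓ centralizer (T : Set G) < Y → centralizer (Y : Set G) ≤ X

/-- **The choice of the pair.** -/
theorem exists_selC (h : Gr S K B V ZJ L W Z C A q) {X Z₁ : Subgroup G} (hZ : Z₁ ≤ zc (S : Subgroup G))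
    (hZ1 : Z₁ ≠ ⊥) (hZJ : Z₁ ≤ ZJ) (hBM : BMH K B X (centralizer (Z₁ : Set G)))
    (hD : centralizer (ZJ : Set G) ≤ X) (hN : normalizer (B : Set G) ≤ X)
    (hM : ¬ centralizer (Z₁ : Set G) ≤ X) :
    ∃ T F : Subgroup G, SelC S B V ZJ X T F ∧ F ≤ centralizer (Z₁ : Set G) := by
  classical
  have hJ2 : IsPGroup 2 ZJ := h.lb.Bp.to_le h.lb.ZB
  have hcS : ∀ z ∈ Z₁, ∀ s ∈ (S : Subgroup G), s * z = z * s := fun z hz => (mem_zc.1 (hZ hz)).2.2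
  obtain ⟨C₀, hC⟩ := (Set.toFinite {Y : Subgroup G | Y ≤ ZJ ∧ Z₁ ≤ Y ∧ ¬ centralizer (Y : Set G) ≤ X}).exists_maximal
    ⟨Z₁, hZJ, le_rfl, hM⟩
  obtain ⟨h1, h2, h3⟩ := hC.prop
  have hmax : ∀ Y : Subgroup G, Y ≤ ZJ → C₀ < Y → centralizer (Y : Set G) ≤ X := by
    intro Y hY hlt
    by_contra hcon
    exact hlt.not_ge (hC.le_of_ge ⟨hY, h2.trans hlt.le, hcon⟩ hlt.le)
  have hC1 : C₀ ≠ ⊥ := fun e => hZ1 (le_bot_iff.1 (e ▸ h2))
  have hle : centralizer (C₀ : Set G) ≤ centralizer (Z₁ : Set G) := centralizer_le (by exact_mod_cast h2)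
  have hBH : B ≤ centralizer (C₀ : Set G) := h.lb.Bc.trans (centralizer_le (by exact_mod_cast h1))
  obtain ⟨T, F, hp, hFC⟩ := exists_pairH h (fun T' Y hT hB' hY hYH => hBM T' Y hT hB' hY (hYH.trans hle)) hD hN hBH
    (Swap.char2_cent h.char2 (hJ2.to_le h1) hC1) h3
  -- `C_{Z_J}(T) = C₀`
  have hTC : ZJ ⊓ centralizer (T : Set G) = C₀ := by
    have h4 : C₀ ≤ ZJ ⊓ centralizer (T : Set G) := le_inf h1 (le_centralizer_iff.1 (hp.syl.1.trans hFC))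
    by_contra hne
    apply hp.nM
    refine le_trans ?_ (hmax _ inf_le_left (lt_of_le_of_ne h4 (Ne.symm hne)))
    rw [le_centralizer_iff]
    exact fun x hx => hp.fix ⟨hx.1, centralizer_le (by exact_mod_cast o2_le_syl hp.syl) hx.2⟩
  -- conjugate into `S`
  have hsyl : Syl (S : Subgroup G) (normalizer (B : Set G)) :=
    ZN.CaseTwo.syl_of_sylow S (h.lb.two_le S.isPGroup' h.lb.BS)
  obtain ⟨T₁, hT₁, hTT₁⟩ := exists_syl hp.syl.2.1 (h.lb.two_le hp.syl.2.1 hp.BT)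
  obtain ⟨m, hm, hmS⟩ := syl_conj hT₁ hsyl
  have hTS : cj m T ≤ (S : Subgroup G) := by
    rw [← hmS]
    exact cj_mono m hTT₁
  have hJ := cj_eq_of_mem_normalizer (h.lb.norm_B_le hm)
  have hJ' := cj_eq_of_mem_normalizer (h.lb.norm_B_le (inv_mem hm))
  have hX : cj m X = X := cj_eq_of_mem_normalizer (le_normalizer (hN hm))
  have hTC' : ZJ ⊓ centralizer ((cj m T : Subgroup G) : Set G) = cj m C₀ := by
    rw [← hTC, cj_inf, cj_centralizer, hJ]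
  refine ⟨cj m T, cj m F, ⟨pair_cj h hN hp hm, hTS, fun Y hY hlt => ?_⟩, ?_⟩
  · rw [hTC'] at hlt
    have h4 := hmax (cj m⁻¹ Y) (by
      have := cj_mono m⁻¹ hY
      rwa [hJ'] at this) (lt_of_le_of_ne (by
        have := cj_mono m⁻¹ hlt.le
        rwa [cj_inv_cj] at this) fun e => hlt.ne (by rw [e, cj_cj_inv]))
    have h5 := cj_mono m h4
    rwa [hX, cj_centralizer, cj_cj_inv] at h5
  · have h4 := cj_mono m hFC
    rw [cj_centralizer, ← hTC'] at h4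
    refine h4.trans (centralizer_le ?_)
    exact_mod_cast le_inf hZJ fun z hz => mem_centralizer_iff.2 fun t ht => hcS z hz t (hTS ht)

namespace SelC

variable {X T F : Subgroup G}

theorem OT (s : SelC S B V ZJ X T F) : o2 F ≤ T := o2_le_syl s.pair.syl

/-- `F` centralises `C₀`. -/
theorem FC (s : SelC S B V ZJ X T F) : F ≤ centralizer ((ZJ ⊓ centralizer (T : Set G) : Subgroup G) : Set G) := by
  rw [le_centralizer_iff]
  exact fun x hx => s.pair.fix ⟨hx.1, centralizer_le (by exact_mod_cast s.OT) hx.2⟩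

section

variable (h : Gr S K B V ZJ L W Z C A q) (s : SelC S B V ZJ X T F) (hN : normalizer (B : Set G) ≤ X)
include h s hN

/-- **(b)** -/
theorem mem_of_conj {f x : G} (hf : f ∈ F) (hx : x ∈ ZJ)
    (hx0 : x ∉ centralizer (T : Set G)) (hfx : f * x * f⁻¹ ∈ ZJ) : f ∈ X := by
  have hSM : (S : Subgroup G) ≤ X := h.S_norm.trans hN
  have h1 : centralizer ((ZJ ⊓ centralizer (T : Set G) ⊔ zpowers x : Subgroup G) : Set G) ≤ X := by
    refine s.cen _ (sup_le inf_le_left (by rw [zpowers_le]; exact hx)) ?_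
    refine lt_of_le_of_ne le_sup_left fun e => hx0 ?_
    have h2 : x ∈ ZJ ⊓ centralizer (T : Set G) := by
      rw [e]
      exact mem_sup_right (mem_zpowers x)
    exact h2.2
  have h2 : cj f⁻¹ B ≤ X := by
    refine le_trans ?_ h1
    rw [le_centralizer_iff]
    refine sup_le (fun y hy => ?_) ?_
    · rw [mem_centralizer_iff]
      intro c hc
      rw [SetLike.mem_coe, mem_cj, inv_inv] at hc
      have h3 := h.cB hc hy.1
      have h4 := mem_centralizer_iff.1 (s.FC hf) y hy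
      have e1 : c * y = f⁻¹ * (f * c * f⁻¹ * (f * y)) := by group
      rw [e1, ← h4]
      have e2 : f⁻¹ * (f * c * f⁻¹ * (y * f)) = f⁻¹ * (f * c * f⁻¹ * y) * f := by group
      rw [e2, h3]
      have e3 : f⁻¹ * (y * (f * c * f⁻¹)) * f = f⁻¹ * (y * f) * c := by group
      rw [e3, h4]
      group
    · rw [zpowers_le, mem_centralizer_iff]
      intro c hc
      rw [SetLike.mem_coe, mem_cj, inv_inv] at hc
      have h3 := h.cB hc hfx
      have h4 := congrArg (fun t => f⁻¹ * t * f) h3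
      have e1 : f⁻¹ * (f * c * f⁻¹ * (f * x * f⁻¹)) * f = c * x := by group
      have e2 : f⁻¹ * (f * x * f⁻¹ * (f * c * f⁻¹)) * f = x * c := by group
      rw [← e1, ← e2]
      exact h4
  have h3 := inv_mem (mem_of_cj_B_le h.lb h.wc hSM hN h2)
  rwa [inv_inv] at h3

omit s hN in
theorem Z_one {i j : ι} (hij : i ≠ j) {x : G} (hi : x ∈ Z i) (hj : x ∈ Z j) : x = 1 := by
  by_contra h1
  exact hij (h.Z_inj hi hj h1)

omit hN in
theorem not_C {r : Set ι} (hmv : ∀ i ∈ r, ∃ o ∈ o2 F, ∃ j, j ≠ i ∧ cj o (Z i) = Z j) {i : ι} (hi : i ∈ r) {x : G}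
    (hx : x ∈ Z i) (hx1 : x ≠ 1) : x ∉ centralizer (T : Set G) := by
  intro hc
  obtain ⟨o, ho, j, hj, e⟩ := hmv i hi
  have h1 : o * x * o⁻¹ = x := by
    rw [mem_centralizer_iff.1 hc o (s.OT ho)]; group
  have h2 : x ∈ Z j := by
    rw [← e]
    exact ⟨x, hx, h1⟩
  exact hx1 (Z_one h hj h2 hx)

/-- (b) for `x ∈ Z i` -/
theorem mem_of_Z {r : Set ι} (hmv : ∀ i ∈ r, ∃ o ∈ o2 F, ∃ j, j ≠ i ∧ cj o (Z i) = Z j) {i : ι} (hi : i ∈ r)
    {f x : G} (hf : f ∈ F) (hx : x ∈ Z i) (hx1 : x ≠ 1) (hfx : f * x * f⁻¹ ∈ ZJ) : f ∈ X :=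
  mem_of_conj h s hN hf (h.Zle i hx) (not_C h s hmv hi hx hx1) hfx

/-- **(TI)** -/
theorem ti (hq : ∀ i, 1 < q i) {r : Set ι} (hrT : ∀ t ∈ T, ∀ i j, cj t (Z i) = Z j → i ∈ r → j ∈ r)
    (hrc : ∀ i ∈ r, ∀ j ∈ r, q i = q j)
    (hmv : ∀ i ∈ r, ∃ o ∈ o2 F, ∃ j, j ≠ i ∧ cj o (Z i) = Z j) {i : ι} (hi : i ∈ r) {x : G} (hx : x ∈ W i)
    (hx1 : x ≠ 1) {f : G} (hf : f ∈ F) (hxf : x ∈ cj f (⨆ j ∈ r, W j)) : f ∈ X := by
  have hTS := s.TS
  have hTF : T ≤ F := s.pair.syl.1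
  have hOF : ∀ a ∈ F, ∀ o ∈ o2 F, a * o * a⁻¹ ∈ o2 F := fun a ha o ho =>
    (mem_normalizer_iff.1 (le_normalizer_o2 F ha) o).1 ho
  have hAF : ∀ j, A j ≤ F := fun j => (h.AB j).trans (s.pair.BT.trans hTF)
  -- `T` normalises `U`
  have hTU : ∀ t ∈ T, cj t (⨆ j ∈ r, W j) ≤ ⨆ j ∈ r, W j := by
    intro t ht
    rw [cj_le_iff]
    refine iSup₂_le fun j hj => ?_
    obtain ⟨l, hl1, hl2, -⟩ := h.exists_perm (hTS ht) j
    rw [← cj_le_iff, hl2]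
    exact le_iSup₂_of_le l (hrT t ht j _ hl1 hj) le_rfl
  -- (TV)
  have hTV : ∀ j ∈ r, ∀ v ∈ W j, v ∉ Z j → ∀ z ∈ Z j, ∃ u ∈ o2 F, u * v * u⁻¹ = z * v := by
    intro j hj v hv hvZ z hz
    obtain ⟨o, ho, k, hk, e⟩ := hmv j hj
    refine h.tv hq (O := o2 F) (fun a ha o ho => hOF a (hAF j ha) o ho) (inv_mem ho) ?_ hv hvZ hz
    rw [inv_inv, h.W_cj (hTS (s.OT ho)) e]
    exact h.WjC j k (Ne.symm hk)
  -- some `z ∈ Z i` in `U ^ f`
  obtain ⟨z, hz, hz1, hzf⟩ : ∃ z ∈ Z i, z ≠ 1 ∧ z ∈ cj f (⨆ j ∈ r, W j) := by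
    by_cases hxZ : x ∈ Z i
    · exact ⟨x, hxZ, hx1, hxf⟩
    obtain ⟨z, hz, hz1⟩ := h.exists_ne hq i
    obtain ⟨u, hu, e⟩ := hTV i hi x hx hxZ z hz
    refine ⟨z, hz, hz1, ?_⟩
    have h2 : u * x * u⁻¹ ∈ cj f (⨆ j ∈ r, W j) := by
      rw [mem_cj] at hxf ⊢
      have hu' : f⁻¹ * u * f ∈ T := s.OT (by
        have := hOF f⁻¹ (inv_mem hf) u hu
        rwa [inv_inv] at this)
      have h3 := hTU _ hu' ⟨_, hxf, rfl⟩
      change f⁻¹ * u * f * (f⁻¹ * x * f) * (f⁻¹ * u * f)⁻¹ ∈ _ at h3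
      have e1 : f⁻¹ * u * f * (f⁻¹ * x * f) * (f⁻¹ * u * f)⁻¹ = f⁻¹ * (u * x * u⁻¹) * f := by group
      rwa [e1] at h3
    rw [e] at h2
    exact (Subgroup.mul_mem_cancel_right _ hxf).1 h2
  -- `y = z ^ (f⁻¹) ∈ U`
  obtain ⟨y, hy, rfl⟩ := hzf
  change f * y * f⁻¹ ∈ Z i at hz
  change f * y * f⁻¹ ≠ 1 at hz1
  have hy1 : y ≠ 1 := by
    rintro rfl
    exact hz1 (by group)
  obtain ⟨m, hm, hmy⟩ := h.exists_conj hy
  obtain ⟨j, hj⟩ := h.fus (i := i) (x := m * y * m⁻¹) (g := m * f⁻¹) hmy (by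
    have e1 : (m * f⁻¹)⁻¹ * (m * y * m⁻¹) * (m * f⁻¹) = f * y * f⁻¹ := by group
    rwa [e1])
  have hyW : y ∈ W j := by
    have h2 := h.ZW j hj
    rw [← hm j] at h2
    rw [mem_cj] at h2
    have e1 : m⁻¹ * (m * y * m⁻¹) * m = y := by group
    rwa [e1] at h2
  have hjr : j ∈ r := by
    by_contra hcon
    apply hy1
    have h2 : (⨆ i ∈ r, W i) ≤ C j := iSup₂_le fun i hi => h.WjC j i fun e => hcon (e ▸ hi)
    have h3 : y ∈ W j ⊓ C j := ⟨hyW, h2 hy⟩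
    rwa [h.dir, mem_bot] at h3
  -- `y ∈ Z j`
  have hyZ : y ∈ Z j := by
    by_contra hyZ
    have key : ∀ ζ ∈ Z j, f * ζ * f⁻¹ ∈ Z i := by
      intro ζ hζ
      by_cases hζ1 : ζ = 1
      · rw [hζ1]; simp
      obtain ⟨u, hu, e⟩ := hTV j hjr y hyW hyZ ζ hζ
      have hu' : f * u * f⁻¹ ∈ T := s.OT (hOF f hf u hu)
      obtain ⟨k, hk1, -, -⟩ := h.exists_perm (hTS hu') i
      have h2 : f * u * f⁻¹ * (f * y * f⁻¹) * (f * u * f⁻¹)⁻¹ ∈ Z k := by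
        rw [← hk1]
        exact ⟨_, hz, rfl⟩
      have e1 : f * u * f⁻¹ * (f * y * f⁻¹) * (f * u * f⁻¹)⁻¹ = (f * ζ * f⁻¹) * (f * y * f⁻¹) := by
        have e2 : f * u * f⁻¹ * (f * y * f⁻¹) * (f * u * f⁻¹)⁻¹ = f * (u * y * u⁻¹) * f⁻¹ := by group
        rw [e2, e]; group
      rw [e1] at h2
      by_cases hk : k = i
      · rw [hk] at h2
        exact (Subgroup.mul_mem_cancel_right _ hz).1 h2
      exfalso
      -- two components
      have h3 : f * ζ * f⁻¹ ∈ ZJ := by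
        have h4 := mul_mem (h.Zle _ h2) (inv_mem (h.Zle _ hz))
        rwa [mul_inv_cancel_right] at h4
      obtain ⟨l, hl⟩ := h.fus (i := j) (x := f * ζ * f⁻¹) (g := f) h3 (by
        have e3 : f⁻¹ * (f * ζ * f⁻¹) * f = ζ := by group
        rwa [e3])
      have h6 : (f * ζ * f⁻¹) * (f * y * f⁻¹) ≠ 1 := by
        rw [← e1]
        intro e3
        exact hz1 (conj_eq_one_iff.1 e3)
      by_cases hli : l = i
      · subst hli
        exact h6 (Z_one h hk h2 (mul_mem hl hz))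
      · -- the `i`-component of `ζ^f · z`
        have h7 : f * y * f⁻¹ ∈ C i := by
          have h8 : (f * ζ * f⁻¹) * (f * y * f⁻¹) ∈ C i := h.WjC i _ (Ne.symm hk) (h.ZW _ h2)
          have h9 : f * ζ * f⁻¹ ∈ C i := h.WjC i _ (Ne.symm hli) (h.ZW _ hl)
          exact (Subgroup.mul_mem_cancel_left _ h9).1 h8
        have h8 : f * y * f⁻¹ ∈ W i ⊓ C i := ⟨h.ZW i hz, h7⟩
        rw [h.dir, mem_bot] at h8
        exact hz1 h8
    have h2 : cj f (Z j) = Z i := by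
      refine Subgroup.eq_of_le_of_card_ge ?_ (by rw [card_cj, h.cardZ, h.cardZ, hrc i hi j hjr])
      rintro _ ⟨ζ, hζ, rfl⟩
      exact key ζ hζ
    rw [← h2] at hz
    obtain ⟨ζ, hζ, e⟩ := hz
    apply hyZ
    have e1 : f * ζ * f⁻¹ = f * y * f⁻¹ := e
    have e2 : ζ = y := by
      have := congrArg (fun t => f⁻¹ * t * f) e1
      simpa [mul_assoc] using this
    rwa [← e2]
  exact mem_of_Z h s hN hmv hjr hf hyZ hy1 (h.Zle i hz)

/-- **CASE I.** -/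
theorem phi_univ (hK : ∀ i, 4 ≤ q i) (hD : centralizer (ZJ : Set G) ≤ X) : ∀ i, i ∈ Phi Z T := by
  classical
  have hq : ∀ i, 1 < q i := fun i => by have := hK i; omega
  by_contra hcon
  push Not at hcon
  obtain ⟨i₀, hi₀⟩ := hcon
  have hp := s.pair
  have hZM : normalizer (ZJ : Set G) ≤ X := h.lb.norm_zj_le.trans (sup_le hD hN)
  have hSM : (S : Subgroup G) ≤ X := h.S_norm.trans hN
  have hTM : T ≤ X := s.TS.trans hSM
  have hO : o2 F ≤ T := o2_le_syl hp.syl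
  have hTF : T ≤ F := hp.syl.1
  obtain ⟨𝓐, hfam, hnJ, hA⟩ := h.fam X T F hp hD hTM hZM
  -- the orbit
  set r : Set ι := {j | ∃ o ∈ o2 F, cj o (Z i₀) = Z j} with hr
  have hi₀r : i₀ ∈ r := ⟨1, one_mem _, cj_one _⟩
  have hrO : ∀ o ∈ o2 F, ∀ i j, cj o (Z i) = Z j → (i ∈ r ↔ j ∈ r) := by
    intro o ho i j e
    constructor
    · rintro ⟨o', ho', e'⟩
      exact ⟨o * o', mul_mem ho ho', SwapL.cj_mul_eq e' e⟩
    · rintro ⟨o', ho', e'⟩
      exact ⟨o⁻¹ * o', mul_mem (inv_mem ho) ho', SwapL.cj_mul_eq e' (SwapL.cj_inv_eq e)⟩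
  have hrc' : ∀ i ∈ r, q i = q i₀ := by
    rintro i ⟨o, ho, e⟩
    rw [← h.cardZ, ← h.cardZ, ← e, card_cj]
  have hrc : ∀ i ∈ r, ∀ j ∈ r, q i = q j := fun i hi j hj => (hrc' i hi).trans (hrc' j hj).symm
  -- an element of `Z_J` with support `r` centralised by `F`
  obtain ⟨x, hxr, hx1, hxO⟩ : ∃ x ∈ (⨆ j ∈ r, Z j : Subgroup G), x ≠ 1 ∧ x ∈ centralizer (o2 F : Set G) := by
    refine exists_fix (isPGroup_o2 F) ?_ ?_ ?_
    · exact (h.lb.Bp.to_le h.lb.ZB).to_le (iSup₂_le fun j _ => h.Zle j)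
    · intro e
      have h1 : Z i₀ ≤ ⊥ := by
        rw [← e]
        exact le_iSup₂_of_le i₀ hi₀r le_rfl
      exact h.Z_ne_bot hq i₀ (le_bot_iff.1 h1)
    · intro o ho
      rw [mem_normalizer_iff_cj]
      refine Subgroup.eq_of_le_of_card_ge ?_ (by rw [card_cj])
      rw [cj_le_iff]
      refine iSup₂_le fun j hj => ?_
      obtain ⟨l, hl⟩ := (h.norm o (h.S_norm (s.TS (hO ho)))).2 j
      rw [← cj_le_iff, hl]
      exact le_iSup₂_of_le l ((hrO o ho j l hl).1 hj) le_rfl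
  have hxJ : x ∈ ZJ := (iSup₂_le fun j _ => h.Zle j : (⨆ j ∈ r, Z j : Subgroup G) ≤ ZJ) hxr
  have hxF : ∀ f ∈ F, f * x = x * f := fun f hf =>
    mem_centralizer_iff.1 (hp.fix ⟨hxJ, hxO⟩) f hf
  have hxfix : ∀ f ∈ F, f * x * f⁻¹ = x := fun f hf => by rw [hxF f hf]; group
  have hxs : ∀ i, x ∈ C i ↔ i ∉ r := by
    have h1 : ∀ i, i ∉ r → x ∈ C i := by
      intro i hi
      have h2 : (⨆ j ∈ r, Z j : Subgroup G) ≤ C i :=
        iSup₂_le fun j hj => (h.ZW j).trans (h.WjC i j fun e => hi (e ▸ hj))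
      exact h2 hxr
    obtain ⟨j₁, hj₁⟩ : ∃ j, x ∉ C j := by
      by_contra hcon
      push Not at hcon
      exact hx1 (h.C0 x (h.ZJV hxJ) hcon)
    have hj₁r : j₁ ∈ r := by
      by_contra h2
      exact hj₁ (h1 j₁ h2)
    intro i
    refine ⟨fun h2 hi => ?_, h1 i⟩
    obtain ⟨o, ho, e⟩ := hi
    obtain ⟨o', ho', e'⟩ := hj₁r
    have ho'' : o' * o⁻¹ ∈ o2 F := mul_mem ho' (inv_mem ho)
    have e2 : cj (o' * o⁻¹) (Z i) = Z j₁ := SwapL.cj_mul_eq (SwapL.cj_inv_eq e) e'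
    have h3 := (h.supp (s.TS (hO ho'')) e2 x).2 h2
    rw [hxfix _ (hTF (hO ho''))] at h3
    exact hj₁ h3
  -- `T` stabilises `r`
  have hrT : ∀ t ∈ T, ∀ i j, cj t (Z i) = Z j → i ∈ r → j ∈ r := by
    intro t ht i j e hi
    by_contra hj
    have h1 := (h.supp (s.TS ht) e x).1
    rw [hxfix t (hTF ht)] at h1
    exact (hxs i).1 (h1 ((hxs j).2 hj)) hi
  -- an element of `O₂(F)` moves `i₀`
  obtain ⟨j₀, hj₀r, hij₀⟩ : ∃ j₀ ∈ r, i₀ ≠ j₀ := by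
    have h1 : ∃ t ∈ T, cj t (Z i₀) ≠ Z i₀ := by
      by_contra hcon
      push Not at hcon
      exact hi₀ hcon
    obtain ⟨t, ht, hne⟩ := h1
    obtain ⟨j, hj⟩ := (h.norm t (h.S_norm (s.TS ht))).2 i₀
    exact ⟨j, hrT t ht i₀ j hj hi₀r, fun e => hne (by rw [hj, ← e])⟩
  -- every index in `r` is moved by `O₂(F)`
  have hmv : ∀ i ∈ r, ∃ o ∈ o2 F, ∃ j, j ≠ i ∧ cj o (Z i) = Z j := by
    rintro i ⟨o, ho, e⟩
    by_cases h1 : i₀ = i
    · subst h1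
      obtain ⟨o', ho', e'⟩ := hj₀r
      exact ⟨o', ho', j₀, hij₀.symm, e'⟩
    · exact ⟨o⁻¹, inv_mem ho, i₀, h1, SwapL.cj_inv_eq e⟩
  have hTI : ∀ i ∈ r, ∀ x ∈ W i, x ≠ 1 → ∀ f ∈ F, x ∈ cj f (⨆ j ∈ r, W j) → f ∈ X :=
    fun i hi x hx hx1 f hf hxf => ti h s hN hq hrT hrc hmv hi hx hx1 hf hxf
  have hWU : ∀ i ∈ r, W i ≤ ⨆ j ∈ r, W j := fun i hi => le_iSup₂_of_le i hi le_rfl
  have hNW : ∀ i ∈ r, ∀ x ∈ W i, x ≠ 1 → ∀ f ∈ F, f * x = x * f → f ∈ X := by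
    intro i hi x hx hx1 f hf hfx
    refine hTI i hi x hx hx1 f hf ?_
    rw [mem_cj]
    have e : f⁻¹ * x * f = x := by rw [mul_assoc, ← hfx]; group
    rw [e]
    exact hWU i hi hx
  -- the situation
  have hWV : ∀ i, W i ≤ V := h.WV
  have hsup : (⨆ j : r, W j) = ⨆ j ∈ r, W j := iSup_subtype' (f := fun j (_ : j ∈ r) => W j) |>.symm
  have hUV : (⨆ j : r, W j) ≤ V := iSup_le fun j => hWV j
  have hVel := elab_V h hp
  have hLV : NoFF.Basic.V (⨆ j : r, W j) F ≤ NoFF.Basic.V V F :=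
    NoFF.Basic.V_le fun f hf => (cj_mono f hUV).trans (NoFF.Basic.Z_le_V hf)
  have hΛ : IsElementaryAbelian 2 (NoFF.Basic.V (⨆ j : r, W j) F) := Swap.elab_mono hVel hLV
  have hUF : (⨆ j : r, W j) ≤ F := hUV.trans (hp.VO.trans (o2_le F))
  have hTperm : ∀ t ∈ T, ∀ i : r, ∃ j : r, cj t (W i) = W j := by
    rintro t ht ⟨i, hi⟩
    obtain ⟨j, hj1, hj2, -⟩ := h.exists_perm (s.TS ht) i
    exact ⟨⟨j, hrT t ht i _ hj1 hi⟩, hj2⟩
  have hOne : Swap.Fam.One F T (F ⊓ X) 𝓐 (⨆ j : r, W j) (fun j : r => W j) (fun j : r => Z j) :=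
    { syl := hp.syl
      TF₀ := le_inf hTF hTM
      F₀F := lt_of_le_of_ne inf_le_left fun e => hp.nM (inf_eq_left.1 e)
      max := fun K hTK hKF => le_inf hKF.le (hp.min K hTK hKF)
      fam := hfam _ hΛ (NoFF.Basic.V_le fun f hf => by
        have := cj_mono f hUF
        rwa [cj_eq_of_mem_normalizer (le_normalizer hf)] at this) OmThm.XD.X_le_normalizer_W hLV
      nJ := hnJ
      ne := ⟨⟨i₀, hi₀r⟩⟩
      UO := hUV.trans hp.VO
      TU := fun t ht => by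
        rw [mem_normalizer_iff_cj]
        refine Subgroup.eq_of_le_of_card_ge ?_ (by rw [card_cj])
        rw [cj_le_iff]
        refine iSup_le fun j => ?_
        obtain ⟨l, hl⟩ := hTperm t ht j
        rw [← cj_le_iff, hl]
        exact le_iSup (fun j : r => W j) l
      comm := Swap.elab_comm hΛ
      sq := Swap.elab_sq hΛ
      sup := rfl
      H1 := fun i f hf hfz => by
        obtain ⟨z, hz, hz1⟩ := h.exists_ne hq (i : ι)
        exact ⟨hf, hNW i i.2 z (h.ZW i hz) hz1 f hf (hfz z hz)⟩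
      H2 := fun E hE hET i => (hA E hE hET).2 i
      H3 := fun i => by
        obtain ⟨o, ho, j, hj, e⟩ := hmv i i.2
        have h1 := h.h3 hq (O := o2 F) (j := (i : ι)) (fun a ha o ho => ?_) (inv_mem ho) ?_ (h.BW hq i)
        · exact h1.trans (commutator_mono (le_iSup (fun j : r => W j) i) le_rfl)
        · have h2 : a ∈ F := hTF (hp.BT (h.AB i ha))
          exact (mem_normalizer_iff.1 (le_normalizer_o2 F h2) o).1 ho
        · rw [inv_inv, h.W_cj (s.TS (hO ho)) e]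
          exact h.WjC i j hj.symm
      H4 := by
        rintro f ⟨hf, hfU⟩
        obtain ⟨z, hz, hz1⟩ := h.exists_ne hq i₀
        refine ⟨hf, hTI i₀ hi₀r z (h.ZW i₀ hz) hz1 f hf ?_⟩
        rw [← hsup, mem_normalizer_iff_cj.1 hfU, hsup]
        exact hWU i₀ hi₀r (h.ZW i₀ hz) }
  have h16 : ∀ i : r, 16 ≤ Nat.card (W (i : ι)) := fun i => by
    rw [h.cardW]
    exact Nat.mul_le_mul (hK i) (hK i)
  have hcost := cost_blocks (T := T) (U := ⨆ j : r, W j) (V := fun j : r => W j) rfl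
    (fun x hx y hy => h.Vc (hUV hx) (hUV hy))
    (fun x hx => h.V2 (hUV hx)) ?_ hTperm h16
  · refine hOne.false_of_count ?_ hcost
    rintro x - ⟨hx1, i, hxi⟩ f hf hfx
    exact ⟨hf, hNW i i.2 x hxi hx1 f hf hfx⟩
  · rintro ⟨i, hi⟩ x hx hx'
    have h1 : (⨆ j : r, ⨆ _ : j ≠ ⟨i, hi⟩, W (j : ι)) ≤ C i := by
      refine iSup_le fun j => iSup_le fun hj => ?_
      exact h.WjC i j fun e => hj (Subtype.ext e.symm)
    have h2 : x ∈ W i ⊓ C i := mem_inf.2 ⟨hx, h1 hx'⟩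
    rwa [h.dir i, mem_bot] at h2

/-- the chosen pair of `Max.lean` -/
theorem sel (hK : ∀ i, 4 ≤ q i) (hD : centralizer (ZJ : Set G) ≤ X) : Sel S B V ZJ Z X T F :=
  ⟨s.pair, s.TS, fun _ _ _ hj => by
    obtain ⟨j, hj, -⟩ := hj
    exact absurd (phi_univ h s hN hK hD j) hj, fun _ => s.cen⟩

end

end SelC

/-- **(Om), `q ≥ 4`, inside `C_G(Z₁)`, `1 ≠ Z₁ ≤ Ω₁Z(S)`.** -/
theorem Gr.cz_leC' (h : Gr S K B V ZJ L W Z C A q) (hq : ∀ i, 4 ≤ q i)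
    (h4 : ∀ i j, q i = 4 → q j = 4) {X Z₁ : Subgroup G} (hZ : Z₁ ≤ zc (S : Subgroup G)) (hZ1 : Z₁ ≠ ⊥)
    (hZJ : Z₁ ≤ ZJ) (hBM : BMH K B X (centralizer (Z₁ : Set G))) (hL : ∀ i, L i ≤ X)
    (hD : centralizer (ZJ : Set G) ≤ X) (hN : normalizer (B : Set G) ≤ X) : centralizer (Z₁ : Set G) ≤ X := by
  by_contra hM
  obtain ⟨T, F, s', -⟩ := exists_selC h hZ hZ1 hZJ hBM hD hN hM
  have hall := SelC.phi_univ h s' hN hq hD
  have s := SelC.sel h s' hN hq hD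
  by_cases h0 : ∃ i, q i = 4
  · obtain ⟨i, hi⟩ := h0
    exact caseFour h s hL hD hN hall fun j => h4 i j hi
  · push Not at h0
    have h1 := caseTwo h hq s hL hD hN hall
    have hp := s.pair
    have hO : o2 F ≤ T := o2_le_syl hp.syl
    apply hp.nM
    have h2 : ZJ ≤ centralizer (F : Set G) := by
      intro z hz
      refine hp.fix ⟨hz, centralizer_le (by exact_mod_cast hO) ?_⟩
      exact (iSup_le fun i => h1 i (h0 i)) (h.sup hz)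
    exact (le_centralizer_iff.1 h2).trans hD

/-- **(Om), `q ≥ 4`, inside `C_G(Ω₁Z(S))`.** -/
theorem Gr.cz_leC (h : Gr S K B V ZJ L W Z C A q) (hq : ∀ i, 4 ≤ q i)
    (h4 : ∀ i j, q i = 4 → q j = 4) {X : Subgroup G} (hS1 : (S : Subgroup G) ≠ ⊥)
    (hzB : zc B ≤ ZJ) (hBM : BMH K B X (centralizer (zc (S : Subgroup G) : Set G))) (hL : ∀ i, L i ≤ X)
    (hD : centralizer (ZJ : Set G) ≤ X) (hN : normalizer (B : Set G) ≤ X) :
    centralizer (zc (S : Subgroup G) : Set G) ≤ X :=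
  h.cz_leC' hq h4 le_rfl (zc_ne_bot S.isPGroup' hS1) (h.zc_le hzB) hBM hL hD hN

end Cfsg.Agent.Omega.OM.SwapV.Q
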