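import Cfsg.Agent.Omega.OM.SwapV.Q.Max
import Cfsg.Agent.Omega.OM.SwapV.Q.NegMod
import Cfsg.Agent.Omega.OM.SwapV.NegPair

/-!
# (Om) for `q ≥ 4` over an abstract `V`: the frame at the stage `-1`

* `NegQ S V Q L W Z C A q` : `Uni.Fr` over `B = bau S`, `Z_J = zj S`, `V ≤ O₂(C_G(Z))`, `V` and `V^f` commute, `S` permutes
  the triples `(W i, C i, Z i)`, coordinates per block;
* `NegQ.gr` : it is a ground frame `Gr` (`K = J(S)`, `B = bau S`, `Z_J = zj S`).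
-/

set_option autoImplicit false
set_option linter.unusedSectionVars false

namespace Cfsg.Agent.Omega.OM.SwapV.Q

open Subgroup Cfsg Cfsg.Agent.ZN.ChoiceBase Cfsg.Agent.ZN.ChoiceSit
open Cfsg.Agent.ZN (jj zj bau zc zl o2)
open Cfsg.Agent.MinSimple.MinParabolic (IsMinPar)
open Cfsg.Agent.MinSimple.VModule (oddGen oddGen_le)
open Cfsg.Agent.Omega.OM.LevD (LB K0)
open Cfsg.Agent.Omega.OM.Uni (Fr FB)
open Cfsg.Agent.Omega.OM.Swap.Fam (Fm BF fm_AA fm_best)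

universe u

variable {G : Type u} [Group G] [Finite G]

/-- The frame at stage `-1` over an abstract module `V`, any `q`. -/
structure NegQ {ι : Type} (S : Sylow 2 G) (V Q : Subgroup G) (L W Z C A : ι → Subgroup G) (q : ℕ) : Prop where
  fr : Fr (bau (S : Subgroup G)) Q V (zj (S : Subgroup G)) L W Z C A q (mm (S : Subgroup G))
  char2 : IsCharacteristicTwoType G
  low : V ≤ o2 (centralizer (zc (S : Subgroup G) : Set G))
  noff : ∀ T : Subgroup G, IsPGroup 2 T → bau (S : Subgroup G) ≤ T → ∀ f : G, cj f V ≤ T → V ≤ cj f T →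
    ∀ x ∈ V, ∀ y ∈ V, x * (f * y * f⁻¹) = f * y * f⁻¹ * x
  perm : ∀ s ∈ (S : Subgroup G), ∀ i j, cj s (Z i) = Z j → cj s (W i) = W j ∧ cj s (C i) = C j
  co : ∀ i, ∃ (F : Type) (_ : Field F) (_ : Finite F) (_ : CharP F 2), Nat.card F = q ∧
    ∃ e : G → F × F, Cor F (S : Subgroup G) (bau (S : Subgroup G)) L W Z i e

section line

variable {ι : Type} {S : Sylow 2 G} {V Q : Subgroup G} {L W Z C A : ι → Subgroup G} {q : ℕ}

/-- **(U1)** -/
theorem NegQ.norm [Finite ι] (h : NegQ S V Q L W Z C A q) {g : G}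
    (hg : g ∈ normalizer (bau (S : Subgroup G) : Set G)) :
    cj g V = V ∧ ∀ i, ∃ j, cj g (Z i) = Z j ∧ cj g (W i) ≤ W j ⊔ zj (S : Subgroup G) := by
  have hgB := cj_eq_of_mem_normalizer hg
  have hVB : V ≤ bau (S : Subgroup G) := h.fr.VQ.trans h.fr.QB
  refine h.fr.norm_of hg fun w hw v hv => ?_
  obtain ⟨y, hy, rfl⟩ := hw
  refine (h.noff _ (S.isPGroup'.to_le (bau_le _)) le_rfl g ?_ ?_ v hv y hy).symm
  · have h1 := cj_mono g hVB
    rwa [hgB] at h1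
  · rw [hgB]
    exact hVB

theorem NegQ.norm_le [Finite ι] (h : NegQ S V Q L W Z C A q) :
    normalizer (bau (S : Subgroup G) : Set G) ≤ normalizer (V : Set G) := fun g hg => by
  rw [mem_normalizer_iff_cj]
  exact (h.norm hg).1

/-- The family of offenders: `AA F`. -/
theorem NegQ.fam (h : NegQ S V Q L W Z C A q) {X T F : Subgroup G}
    (hp : PairV (bau (S : Subgroup G)) V (zj (S : Subgroup G)) X T F)
    (hZM : normalizer (zj (S : Subgroup G) : Set G) ≤ X) :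
    ∃ 𝓐 : Set (Subgroup G),
      (∀ Λ : Subgroup G, IsElementaryAbelian 2 Λ → Λ ≤ F → F ≤ normalizer (Λ : Set G) →
        Λ ≤ NoFF.Basic.V V F → Fm F Λ 𝓐) ∧
      (∃ E ∈ 𝓐, E ≤ T ∧ ¬ E ≤ o2 F) ∧
      ∀ E ∈ 𝓐, E ≤ T → E ≤ bau (S : Subgroup G) ∧ ∀ i, (∀ a ∈ E, ∀ x ∈ W i, a * x = x * a) ∨
        Z i ≤ closure {y | ∃ x ∈ W i, ∃ a ∈ E, y = x * (a * x * a⁻¹)} := by
  have hT2 := hp.syl.2.1
  have h0T : jj (S : Subgroup G) ≤ T := (jj_le_bau _).trans hp.BT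
  have hjT : jj T = jj (S : Subgroup G) := MinSimple.EmptyTI.jj_eq S hT2 h0T
  have hJ : ¬ jj (S : Subgroup G) ≤ o2 F := fun hle =>
    hp.nM ((le_normalizer_o2 F).trans (((LB.neg S).nrm _ (isPGroup_o2 F) hle).trans hZM))
  refine ⟨AA F, fun Λ hΛ hΛF hn _ => fm_AA hΛ hΛF hn, ?_, fun E hE hET => ?_⟩
  · by_contra hcon
    push Not at hcon
    apply hJ
    rw [← hjT, Cfsg.Agent.ZN.ChoiceBase.jj_eq]
    exact sSup_le fun E hE => hcon E (Swap.AA_of_syl hp.syl hE) hE.2.1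
  · have hET' := Swap.AA_of_le hE hET hp.syl.1
    have h1 : E ≤ jj (S : Subgroup G) := by
      have := le_jj hET'
      rwa [hjT] at this
    have h2 : Nat.card E = mm (S : Subgroup G) := by
      rw [← mm_bau (S : Subgroup G), ← LemmaK.Main.bau_eq S hT2 hp.BT, mm_bau, mm_eq hET']
    exact ⟨h1.trans (jj_le_bau _), fun i => NegMod.h2 h.fr (h1.trans (jj_le_bau _)) hET'.1 h2 i⟩

/-- **The frame at stage `-1` is a ground frame.** -/
theorem NegQ.gr [Finite ι] (h : NegQ S V Q L W Z C A q) :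
    Gr S (jj (S : Subgroup G)) (bau (S : Subgroup G)) V (zj (S : Subgroup G)) L W Z C A (fun _ => q) where
  lb := LB.neg S
  wc := UniPlus.wc_bau S
  char2 := h.char2
  VB := h.fr.VQ.trans h.fr.QB
  el := h.fr.el
  ZJV := h.fr.ZJV
  WV := h.fr.WV
  ZW := fun i => (h.fr.blk i).ZV
  Zle := h.fr.Z_le
  cardZ := h.fr.cardZ
  cardW := fun i => by rw [(h.fr.blk i).card, h.fr.cardZ i]
  dir := h.fr.dir
  C0 := h.fr.C0
  WjC := h.fr.WjC
  sup := NegMod.ZJ_le_sup h.fr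
  BL := fun i => (h.fr.blk i).BL
  LC := h.fr.LC
  AB := h.fr.AB
  AC := h.fr.AC
  root := fun i v hv hvZ z hz => NegMod.root h.fr hv hvZ hz
  conjZ := fun r x hx => NegMod.conj_ZJ h.fr r hx
  norm := fun g hg => by
    have h1 := h.norm hg
    exact ⟨h1.1, fun i => by obtain ⟨j, hj, -⟩ := h1.2 i; exact ⟨j, hj⟩⟩
  perm := h.perm
  low := h.low
  noff := h.noff
  fixPt := fun _ _ hY => inf_le_right.trans (LevD.fixPt_neg S hY.syl ((jj_le_bau _).trans hY.BT) hY.min hY.nK hY.cz)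
  fam := fun X T F hp _ _ hZM => h.fam hp hZM
  co := h.co

end line

end Cfsg.Agent.Omega.OM.SwapV.Q
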