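import Cfsg.Agent.Omega.OM.SwapV.Q.Lev
import Cfsg.Agent.Omega.OM.SwapV.Q.Neg
import Cfsg.Agent.Omega.OM.Lev.Main
import Cfsg.Agent.Omega.NOThreeL.RRed.BFr.Noff

/-!
# (Om) for `q ≥ 4` over an abstract `V`: the frames `LnQ`, `NegQ` from one natural `P ∈ P*(S)` (no `HypN`)

`P ∈ P*(S)`, `C_Z(P) = 1`, `V_P` a sum of `k` natural `SL₂(F)`-modules, no mutual pairs, all lines low (`DataLow S`):

* `cor_of_md` : the coordinates `Cor` from `FourF.MD`;
* `lnQ_of` : stage `n ≥ 0` (`lev S n ≤ O₂(P)`, `lev S (n + 1) ≰ O₂(P)`);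
* `negQ_of` : stage `-1` (`J(S) ≰ O₂(P)`).
-/

set_option autoImplicit false
set_option linter.unusedSectionVars false

namespace Cfsg.Agent.Omega.OM.SwapV.Q.OfNat

open Subgroup Cfsg Cfsg.Agent.ZN Cfsg.Agent.ZN.ChoiceBase Cfsg.Agent.ZN.ChoiceSit Cfsg.Agent.Omega.MinPar
open Cfsg.Agent.Omega.Frame
open Cfsg.Agent.Omega.NatPair (ap ap_zero' ap_one' ap_one ap_mul ext2 exists_ap)
open Cfsg.Agent.Lib.SL2Mat
open Cfsg.Agent.Omega.FFThm (NatK ActsSL NatKM)
open Cfsg.Agent.Omega.FrameFF (cv)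
open Cfsg.Agent.Omega.NO3S.OneLine (NatC)
open Cfsg.Agent.Omega.NO3S.Level (lev Lev lev_isLev)
open Cfsg.Agent.Omega.OM.SwapL (ZL BL lb wc norm_lev)
open Cfsg.Agent.Omega.OM.FourF (Act MD dl dl_ap' dl_zero' dl_one')
open Cfsg.Agent.Omega.OM.YThm (Cd Cn Nm rs)
open Cfsg.Agent.Omega.OM.Lev.Uni (FrL)
open Cfsg.Agent.Omega.Node.NO3L (DataLow)
open Cfsg.Agent.Omega.NOThreeL.RRed.BFr.Noff (comm_S comm_T)

universe u

section gen

variable {G : Type*} [Group G] {F : Type} [Field F] {S P V D : Subgroup G} {k : ℕ} (N : NatK F S P V D k)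

/-- `g` acts on the coordinates as `A` -/
def ActN (g : G) (A : Fin k → Matrix.SpecialLinearGroup (Fin 2) F) : Prop :=
  ∀ v ∈ V, ∀ i, N.e (g * v * g⁻¹) i = ap (A i) (N.e v i)

variable {N} {B ZJ : Subgroup G} {L W Z C : Fin k → Subgroup G} {z₀ f₀ : Fin k → F}

theorem one_of (m : MD N B ZJ W Z z₀ f₀) {i : Fin k} {A : Matrix.SpecialLinearGroup (Fin 2) F} {g : G} (hg : g ∈ P)
    (hgA : ActN N g (Function.update 1 i A)) : g ∈ normalizer (W i : Set G) ∧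
    (∀ w ∈ W i, N.e (g * w * g⁻¹) i = ap A (N.e w i)) ∧ ∀ j, j ≠ i → ∀ w ∈ W j, g * w = w * g := by
  classical
  have hgV : ∀ v ∈ V, g * v * g⁻¹ ∈ V := fun v hv => (mem_normalizer_iff.1 (m.PV hg) v).1 hv
  have hgV' : ∀ v, g * v * g⁻¹ ∈ V → v ∈ V := fun v hv => (mem_normalizer_iff.1 (m.PV hg) v).2 hv
  have hz0 : ∀ B : Matrix.SpecialLinearGroup (Fin 2) F, ap B (0 : Fin 2 → F) = 0 := by
    intro B
    apply ext2
    · rw [ap_zero']; simp
    · rw [ap_one']; simp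
  refine ⟨?_, fun w hw => ?_, fun j hj w hw => ?_⟩
  · rw [mem_normalizer_iff]
    intro v
    rw [m.mem_W, m.mem_W]
    constructor
    · rintro ⟨h1, h2⟩
      refine ⟨hgV v h1, fun j hj => ?_⟩
      rw [hgA v h1, h2 j hj, hz0]
    · rintro ⟨h1, h2⟩
      have h3 := hgV' v h1
      refine ⟨h3, fun j hj => ?_⟩
      have h4 := h2 j hj
      rw [hgA v h3, Function.update_of_ne hj, Pi.one_apply, ap_one] at h4
      exact h4
  · rw [hgA w (m.WV hw), Function.update_self]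
  · have h1 := m.WV hw
    have h2 : g * w * g⁻¹ = w := by
      refine m.inj (hgV w h1) h1 ?_
      funext l
      rw [hgA w h1]
      by_cases hl : l = i
      · subst hl
        rw [((m.mem_W j w).1 hw).2 l (Ne.symm hj), hz0]
      · rw [Function.update_of_ne hl, Pi.one_apply, ap_one]
    exact mul_inv_eq_iff_eq_mul.1 h2

theorem up_up [CharP F 2] (c : F) (x : Fin 2 → F) : ap (up c) (ap (up c) x) = x := by
  rw [← ap_mul, up_mul, CharTwo.add_self_eq_zero, up_zero, ap_one]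

/-- elements of `L i` which act on the `i`-th block only -/
theorem exists_pure [CharP F 2] (m : MD N B ZJ W Z z₀ f₀) (BLi : ∀ i, B ≤ L i)
    (LX : ∀ i, ∀ l ∈ L i, l ∈ P ∧ ∃ A, ActN N l A ∧ ∀ j, j ≠ i → ∃ c, A j = up c)
    (acts : ∀ i A, ∃ l ∈ L i, ∃ A', ActN N l A' ∧ A' i = A)
    (hup : ∀ c : Fin k → F, ∃ b ∈ B, ActN N b fun i => up (c i)) (i : Fin k)
    (A : Matrix.SpecialLinearGroup (Fin 2) F) : ∃ g ∈ L i, ActN N g (Function.update 1 i A) := by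
  classical
  obtain ⟨l, hl, A', hA', hAi⟩ := acts i A
  obtain ⟨hlP, A'', hA'', hup''⟩ := LX i l hl
  choose c hc using hup''
  obtain ⟨b, hb, hbA⟩ := hup fun j => if h : j = i then 0 else c j h
  refine ⟨b * l, mul_mem (BLi i hb) hl, fun v hv j => ?_⟩
  have hlv : l * v * l⁻¹ ∈ V := (mem_normalizer_iff.1 (m.PV hlP) v).1 hv
  have e1 : b * l * v * (b * l)⁻¹ = b * (l * v * l⁻¹) * b⁻¹ := by group
  rw [e1, hbA _ hlv j]
  by_cases hj : j = i
  · subst hj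
    beta_reduce
    rw [dif_pos rfl, up_zero, ap_one, hA' v hv j, hAi, Function.update_self]
  · beta_reduce
    rw [dif_neg hj, hA'' v hv j, hc j hj, up_up, Function.update_of_ne hj, Pi.one_apply, ap_one]

/-- **The coordinates `Cor`.** -/
theorem cor_of_md [Finite F] [CharP F 2] (m : MD N B ZJ W Z z₀ f₀) (i : Fin k)
    (BLi : ∀ i, B ≤ L i) (LX : ∀ i, ∀ l ∈ L i, l ∈ P ∧ ∃ A, ActN N l A ∧ ∀ j, j ≠ i → ∃ c, A j = up c)
    (acts : ∀ i A, ∃ l ∈ L i, ∃ A', ActN N l A' ∧ A' i = A)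
    (hup : ∀ c : Fin k → F, ∃ b ∈ B, ActN N b fun i => up (c i)) :
    Cor F S B L W Z i (MD.co N z₀ f₀ i) where
  mul := fun v hv w hw => m.co_mul (m.WV hv) (m.WV hw)
  inj := fun v hv w hw => m.co_inj hv hw
  surj := m.co_surj i
  memZ := fun v => m.co_Z
  act := fun t ht hZ => m.act ht hZ
  full := m.full i
  sl := fun a b c d hd => by
    obtain ⟨A, hA⟩ := dl_ap' (m.hz i) (m.hf i) (Cfsg.Agent.Lib.SL2Mat.mk a b c d hd)
    obtain ⟨g, hg, hgA⟩ := exists_pure m BLi LX acts hup i A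
    obtain ⟨h1, h2, h3⟩ := one_of m (LX i g hg).1 hgA
    refine ⟨g, hg, h1, fun w hw => ?_, h3⟩
    have h4 := hA (N.e w i)
    rw [← h2 w hw] at h4
    have h5 := congrFun h4 0
    have h6 := congrFun h4 1
    rw [dl_zero', ap_zero', mk_00, mk_01] at h5
    rw [dl_one', ap_one', mk_10, mk_11] at h6
    ext
    · rw [MD.co_fst]; exact h5
    · rw [MD.co_snd]; exact h6

/-- `P` permutes the pairs `(W i, C i)` -/
theorem perm_WC (hVn : ∀ g ∈ P, ∀ v ∈ V, g * v * g⁻¹ ∈ V) (mem_W : ∀ i v, v ∈ W i ↔ v ∈ V ∧ ∀ j, j ≠ i → N.e v j = 0)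
    (mem_C : ∀ i v, v ∈ C i ↔ v ∈ V ∧ N.e v i = 0) {g : G} (hg : g ∈ P) :
    ∃ σ : Equiv.Perm (Fin k), ∀ i, cj g (W i) = W (σ i) ∧ cj g (C i) = C (σ i) := by
  obtain ⟨σ, hσ⟩ := N.perm g hg
  refine ⟨σ, fun i => ?_⟩
  have hgv : ∀ x ∈ V, g⁻¹ * x * g ∈ V := by
    intro x hx
    have := hVn g⁻¹ (inv_mem hg) x hx
    rwa [inv_inv] at this
  have e0 : ∀ x : G, g * (g⁻¹ * x * g) * g⁻¹ = x := fun x => by group
  constructor
  · ext x
    rw [mem_cj, mem_W, mem_W]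
    constructor
    · rintro ⟨hx, hx'⟩
      have hxV : x ∈ V := by
        have := hVn g hg _ hx
        rwa [e0] at this
      refine ⟨hxV, fun j hj => ?_⟩
      have h1 := (hσ _ hx (σ.symm j)).2 (hx' _ fun e => hj (by rw [← e, Equiv.apply_symm_apply]))
      rwa [Equiv.apply_symm_apply, e0] at h1
    · rintro ⟨hx, hx'⟩
      refine ⟨hgv x hx, fun j hj => ?_⟩
      refine (hσ _ (hgv x hx) j).1 ?_
      rw [e0]
      exact hx' _ fun e => hj (σ.injective e)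
  · ext x
    rw [mem_cj, mem_C, mem_C]
    constructor
    · rintro ⟨hx, hx'⟩
      have hxV : x ∈ V := by
        have := hVn g hg _ hx
        rwa [e0] at this
      have h1 := (hσ _ hx i).2 hx'
      rw [e0] at h1
      exact ⟨hxV, h1⟩
    · rintro ⟨hx, hx'⟩
      refine ⟨hgv x hx, (hσ _ (hgv x hx) i).1 ?_⟩
      rw [e0]
      exact hx'

/-- the pairs with the lines -/
theorem perm_of (hVn : ∀ g ∈ P, ∀ v ∈ V, g * v * g⁻¹ ∈ V) (mem_W : ∀ i v, v ∈ W i ↔ v ∈ V ∧ ∀ j, j ≠ i → N.e v j = 0)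
    (mem_C : ∀ i v, v ∈ C i ↔ v ∈ V ∧ N.e v i = 0) (mem_Z : ∀ i v, v ∈ Z i ↔ v ∈ W i ∧ N.e v i 1 = 0) {g : G}
    (hg : g ∈ P) {i j : Fin k} (hZ : cj g (Z i) = Z j) : cj g (W i) = W j ∧ cj g (C i) = C j := by
  classical
  obtain ⟨σ, hσ⟩ := perm_WC hVn mem_W mem_C hg
  suffices h : σ i = j by
    rw [← h]; exact hσ i
  by_contra hne
  obtain ⟨v, hv, e⟩ := N.surj (Function.update 0 j ![1, 0])
  have hvW : v ∈ W j := (mem_W j v).2 ⟨hv, fun l hl => by rw [e, Function.update_of_ne hl]; rfl⟩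
  have hvZ : v ∈ Z j := (mem_Z j v).2 ⟨hvW, by rw [e, Function.update_self]; rfl⟩
  have h1 : v ∈ W (σ i) := by
    rw [← (hσ i).1]
    rw [← hZ] at hvZ
    exact cj_mono g (fun x hx => ((mem_Z i x).1 hx).1) hvZ
  have h2 := ((mem_W _ v).1 h1).2 j (Ne.symm hne)
  rw [e, Function.update_self] at h2
  have := congrFun h2 0
  simp at this

end gen

section lev

variable {G : Type u} [Group G] [Finite G] {S : Sylow 2 G} {P : Subgroup G} {F : Type} [Field F] [Finite F] [CharP F 2]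
  {k : ℕ}

theorem norm_V_of_fr {ι : Type*} [Finite ι] {n : ℕ} {Q V : Subgroup G} {L W Z C A : ι → Subgroup G} {q : ℕ}
    (fr : FrL (BL (S : Subgroup G) n) Q V (zc (lev (S : Subgroup G) n)) (ZL (S : Subgroup G) n) L W Z C A q) :
    normalizer (BL (S : Subgroup G) n : Set G) ≤ normalizer (V : Set G) := fun g hg => by
  rw [mem_normalizer_iff_cj]
  exact (fr.norm_of hg (NO3S.Level.normalizer_le_zc _ (norm_lev S (by omega) hg))).1

/-- **The frame at stage `n ≥ 0`.** -/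
theorem lnQ_of (hG : IsCharacteristicTwoType G) (D : DataLow (S : Subgroup G)) (hP : IsParS (S : Subgroup G) P)
    (hcen : zc (S : Subgroup G) ⊓ centralizer (P : Set G) = ⊥) {n : ℕ} (hn : lev (S : Subgroup G) n ≤ o2 P)
    (hn1 : ¬ lev (S : Subgroup G) (n + 1) ≤ o2 P) (hk0 : 0 < k)
    (N : NatKM F (S : Subgroup G) P (zl (S : Subgroup G) P) (cv (S : Subgroup G) P) k) :
    ∃ L W Z C A : Fin k → Subgroup G, LnQ S (zl (S : Subgroup G) P) (o2 P) n L W Z C A (Nat.card F) ∧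
      (∀ i, L i ≤ P) ∧ (∀ i v, v ∈ W i ↔ v ∈ zl (S : Subgroup G) P ∧ ∀ j, j ≠ i → N.e v j = 0) ∧
      (∀ i v, v ∈ Z i ↔ v ∈ W i ∧ N.e v i 1 = 0) ∧ ∀ i v, v ∈ C i ↔ v ∈ zl (S : Subgroup G) P ∧ N.e v i = 0 := by
  classical
  have hL := lev_isLev (S : Subgroup G) n
  have hJ := NO3S.exists_BO hG hP hn hn1
  obtain ⟨E, -⟩ := NO3S.OneLine.exa_lev FF.Glob.ffthmM hG hP hL hn hcen hJ
  have hZJ : ∀ v, v ∈ ZL (S : Subgroup G) n ↔ v ∈ zl (S : Subgroup G) P ∧ ∀ i, N.e v i 1 = 0 := by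
    intro v
    have h1 := E.cent_nat N hk0 (x := v)
    have h2 : ZL (S : Subgroup G) n = zc (NO3S.Level.nxt (S : Subgroup G) (lev (S : Subgroup G) n)) := rfl
    rw [h2, NO3S.OneLine.zc_nxt_eq hL]
    exact h1
  have H : Lev.Nat.Hy (Lev.Exa.natM E N hk0) (BL (S : Subgroup G) n) (ZL (S : Subgroup G) n) :=
    Lev.Exa.hy_of E N hk0 rfl hZJ (wc S n) (Lev.Wc.S_norm_Lev hL.next)
  set M := Lev.Exa.natM E N hk0 with hM
  have hMe : M.nat = N.toNatK := rfl
  choose A hA hAX hAb hA1 hA2 using Lev.Exa.exists_one E N hk0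
  obtain ⟨L, Z, A', hL1, hA', hL2, hZ, hF⟩ := H.frL E.elem E.VX E.norm fun i =>
    ⟨A i, hA i, hAX i, hAb i, hA1 i, hA2 i⟩
  have hVn : ∀ g ∈ P, ∀ v ∈ zl (S : Subgroup G) P, g * v * g⁻¹ ∈ zl (S : Subgroup G) P := M.Vn
  have hPV : P ≤ normalizer (zl (S : Subgroup G) P : Set G) := by
    intro p hp
    rw [mem_normalizer_iff_cj]
    refine Subgroup.eq_of_le_of_card_ge ?_ (by rw [card_cj])
    rintro _ ⟨v, hv, rfl⟩
    exact M.Vn p hp v hv
  have hSP : (S : Subgroup G) ≤ P := hP.le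
  have hBN := norm_V_of_fr hF
  -- coordinates
  have cd : Cd F (BL (S : Subgroup G) n) (zl (S : Subgroup G) P) (ZL (S : Subgroup G) n) k N.e :=
    { VV := fun v hv w hw => hF.Vc hv hw
      mul := N.mul
      surj := N.surj
      inj := fun v hv h0 => H.inj hv (one_mem _) (by
        rw [M.map_one]
        exact h0)
      ZV := hF.ZJV
      memZ := fun v hv => ⟨fun h => ((hZJ v).1 h).2, fun h => (hZJ v).2 ⟨hv, h⟩⟩
      nB := fun b hb v hv => M.Vn b (H.BH hb) v hv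
      act := fun b hb => by
        obtain ⟨c, hc⟩ := H.up_of hb
        refine ⟨c, fun v hv i => ?_⟩
        have h1 : N.e (b * v * b⁻¹) i = ap (up (c i)) (N.e v i) := hc v hv i
        rw [h1]
        constructor
        · rw [ap_zero', up_00, up_01, one_mul]
        · rw [ap_one', up_10, up_11, zero_mul, one_mul, zero_add]
      full := fun c => by
        obtain ⟨b, hb, hc⟩ := H.exists_b c
        refine ⟨b, hb, fun v hv i => ?_⟩
        have h1 : N.e (b * v * b⁻¹) i = ap (up (c i)) (N.e v i) := hc v hv i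
        rw [h1]
        constructor
        · rw [ap_zero', up_00, up_01, one_mul]
        · rw [ap_one', up_10, up_11, zero_mul, one_mul, zero_add] }
  have nm : ∀ g ∈ (S : Subgroup G), Nm (BL (S : Subgroup G) n) (zl (S : Subgroup G) P) N.e g := by
    intro g hg
    have hgN : g ∈ normalizer (BL (S : Subgroup G) n : Set G) := (lb S n).two_le S.isPGroup' (lb S n).BS hg
    obtain ⟨h1, h2⟩ := hF.norm_of hgN (NO3S.Level.normalizer_le_zc _ (norm_lev S (by omega) hgN))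
    refine ⟨fun v hv => ?_, fun b hb => (mem_normalizer_iff.1 hgN b).1 hb, fun i => ?_⟩
    · rw [← h1]
      exact ⟨v, hv, rfl⟩
    obtain ⟨j, h3, h4⟩ := h2 i
    refine ⟨j, fun z hz hzl hz1 => ?_, fun w hw hwl l hl => ?_⟩
    · have h5 : z ∈ Z i := (hZ i z).2 ⟨⟨hz, hzl⟩, hz1⟩
      have h6 : g * z * g⁻¹ ∈ Z j := by
        rw [← h3]; exact ⟨z, h5, rfl⟩
      obtain ⟨h7, h8⟩ := (hZ j _).1 h6
      exact ⟨h7.2, h8⟩
    · have h5 : w ∈ Lev.Nat.Wn M i := ⟨hw, hwl⟩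
      have h6 : g * w * g⁻¹ ∈ Lev.Nat.Wn M j ⊔ ZL (S : Subgroup G) n := h4 ⟨w, h5, rfl⟩
      have hle : ZL (S : Subgroup G) n ≤ zl (S : Subgroup G) P := cd.ZV
      have hcom : ∀ a ∈ ZL (S : Subgroup G) n, ∀ b ∈ Lev.Nat.Wn M j, a * b = b * a := fun a ha b hb =>
        cd.VV a (hle ha) b hb.1
      obtain ⟨x, hx, z, hz, e⟩ := SQ1.Bau.mem_sup_comm hcom (by rw [sup_comm]; exact h6)
      rw [e, cd.mul x (hle hx) z hz.1, Pi.add_apply, Pi.add_apply]
      have h8 : N.e z l = 0 := hz.2 l hl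
      rw [h8, (cd.memZ x (hle hx)).1 hx l]
      simp
  obtain ⟨z₀, f₀, h1, h2, h3⟩ := cd.exists_cn hk0 S.isPGroup' nm N.trans
  have md : MD N.toNatK (BL (S : Subgroup G) n) (ZL (S : Subgroup G) n) (Lev.Nat.Wn M) Z z₀ f₀ :=
    ⟨hPV, hSP, h1, h2, h3, fun i v => Iff.rfl, hZ⟩
  have BLi : ∀ i, BL (S : Subgroup G) n ≤ L i := fun i => (hF.blk i).BL
  refine ⟨L, Lev.Nat.Wn M, Z, Lev.Nat.Cn M, A', ?_, fun i l hl => (hL1 i hl).1, fun i v => Iff.rfl, hZ,
    fun i v => Iff.rfl⟩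
  exact
    { fr := hF
      levQ := hn
      char2 := hG
      low := D.low P hP
      noff := fun T hT hB f h1 h2 x hx y hy => by
        have h3 := comm_T (PP := {P}) D (fun R hR => by rw [Set.mem_singleton_iff.1 hR]; exact hP)
          (by simp) (wc S n) (lb S n).BS hBN hT hB h1 h2 hx
        exact (mem_centralizer_iff.1 h3 _ ⟨y, hy, rfl⟩).symm
      perm := fun s hs i j hZ' => perm_of (N := N.toNatK) hVn (fun i v => Iff.rfl) (fun i v => Iff.rfl) hZ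
        (hSP hs) hZ'
      co := fun i => ⟨F, inferInstance, inferInstance, inferInstance, rfl, _, cor_of_md md i BLi
        (fun i l hl => by
          obtain ⟨hlP, A', hA', hup⟩ := hL1 i hl
          exact ⟨hlP, A', hA', hup⟩)
        hL2 H.exists_b⟩ }

/-- **The frame at stage `-1`.** -/
theorem negQ_of (hG : IsCharacteristicTwoType G) (D : DataLow (S : Subgroup G)) (hP : IsParS (S : Subgroup G) P)
    (hcv : cv (S : Subgroup G) P = ⊥) (hJ : ¬ jj (S : Subgroup G) ≤ o2 P) (hk0 : 0 < k)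
    (N : NatKM F (S : Subgroup G) P (zl (S : Subgroup G) P) (cv (S : Subgroup G) P) k) :
    ∃ L W Z C A : Fin k → Subgroup G, NegQ S (zl (S : Subgroup G) P) (o2 P) L W Z C A (Nat.card F) ∧
      (∀ i, L i ≤ P) ∧ (∀ i v, v ∈ W i ↔ v ∈ zl (S : Subgroup G) P ∧ ∀ j, j ≠ i → N.e v j = 0) ∧
      (∀ i v, v ∈ Z i ↔ v ∈ W i ∧ N.e v i 1 = 0) ∧ ∀ i v, v ∈ C i ↔ v ∈ zl (S : Subgroup G) P ∧ N.e v i = 0 := by
  classical
  have hT : Syl (S : Subgroup G) P := ⟨hP.le, S.isPGroup', fun _ _ hT hST => S.is_maximal' hT hST⟩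
  have hc : P ⊓ centralizer (o2 P : Set G) ≤ o2 P := hP.isLoc.char2 S hG
  have o := OM.natOut hT hP.toIsMinPar hc hJ hk0 N.toNatK hcv
  obtain ⟨L, Z, A, hL1, hA, hL2, hZ, hF⟩ := OM.Uni.natFr hT hP.toIsMinPar hc hJ hk0 N.toNatK hcv (OM.Uni.mx_sylow S)
  set M := SQ1.FFOne.natKB_of hT hc hJ hk0 N.toNatK with hM
  have hVn : ∀ g ∈ P, ∀ v ∈ zl (S : Subgroup G) P, g * v * g⁻¹ ∈ zl (S : Subgroup G) P := M.Vn
  have hPV : P ≤ normalizer (zl (S : Subgroup G) P : Set G) := by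
    intro p hp
    rw [mem_normalizer_iff_cj]
    refine Subgroup.eq_of_le_of_card_ge ?_ (by rw [card_cj])
    rintro _ ⟨v, hv, rfl⟩
    exact M.Vn p hp v hv
  have hSP : (S : Subgroup G) ≤ P := hP.le
  have hBS : bau (S : Subgroup G) ≤ (S : Subgroup G) := ChoiceBase.bau_le _
  have hVB : zl (S : Subgroup G) P ≤ bau (S : Subgroup G) := hF.VQ.trans hF.QB
  have hBN : normalizer (bau (S : Subgroup G) : Set G) ≤ normalizer (zl (S : Subgroup G) P : Set G) := fun g hg => by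
    have hgB := cj_eq_of_mem_normalizer hg
    rw [mem_normalizer_iff_cj]
    refine (hF.norm_of hg fun w hw v hv => ?_).1
    have k1 : cj g (zl (S : Subgroup G) P) ≤ (S : Subgroup G) := by
      have := cj_mono g hVB
      rw [hgB] at this
      exact this.trans hBS
    have k2 : zl (S : Subgroup G) P ≤ cj g (S : Subgroup G) := by
      have := cj_mono g hBS
      rw [hgB] at this
      exact hVB.trans this
    exact mem_centralizer_iff.1 (comm_S (PP := {P}) D (fun R hR => by rw [Set.mem_singleton_iff.1 hR]; exact hP)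
      (by simp) k1 k2 hv) w hw
  have hnorm : ∀ g ∈ normalizer (bau (S : Subgroup G) : Set G), cj g (zl (S : Subgroup G) P) = zl (S : Subgroup G) P ∧
      ∀ i, ∃ j, cj g (Z i) = Z j ∧ cj g (OM.Uni.Wn M i) ≤ OM.Uni.Wn M j ⊔ zj (S : Subgroup G) := fun g hg => by
    refine hF.norm_of hg fun w hw v hv => ?_
    obtain ⟨y, hy, rfl⟩ := hw
    have h1 := cj_eq_of_mem_normalizer (hBN hg)
    have h2 : g * y * g⁻¹ ∈ zl (S : Subgroup G) P := by
      rw [← h1]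
      exact ⟨y, hy, rfl⟩
    exact hF.Vc h2 hv
  -- coordinates
  have hup : ∀ {b : G} {c : Fin k → F}, ActsSL N.e (zl (S : Subgroup G) P) (cv (S : Subgroup G) P) b
      (fun i => up (c i)) → ∀ v ∈ zl (S : Subgroup G) P, ∀ i,
      N.e (b * v * b⁻¹) i 0 = N.e v i 0 + c i * N.e v i 1 ∧ N.e (b * v * b⁻¹) i 1 = N.e v i 1 := by
    intro b c hc v hv i
    rw [hc.1 v hv i]
    constructor
    · rw [ap_zero', up_00, up_01, one_mul]
    · rw [ap_one', up_10, up_11, zero_mul, one_mul, zero_add]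
  have cd : Cd F (bau (S : Subgroup G)) (zl (S : Subgroup G) P) (zj (S : Subgroup G)) k N.e :=
    { VV := fun v hv w hw => hF.Vc hv hw
      mul := N.mul
      surj := N.surj
      inj := fun v hv h0 => by
        have h1 := (N.ker v hv).1 h0
        rwa [o.Dbot, mem_bot] at h1
      ZV := o.zj_le
      memZ := fun v hv => ⟨fun h => ((o.mem_zj v).1 h).2, fun h => (o.mem_zj v).2 ⟨hv, h⟩⟩
      nB := fun b hb v hv => M.Vn b (hSP (hBS hb)) v hv
      act := fun b hb => by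
        obtain ⟨c, hc⟩ := o.bau_up b hb
        exact ⟨c, hup hc⟩
      full := fun c => by
        obtain ⟨b, hb, hc⟩ := o.jj_up c
        exact ⟨b, ChoiceBase.jj_le_bau _ hb, hup hc⟩ }
  have nm : ∀ g ∈ (S : Subgroup G), Nm (bau (S : Subgroup G)) (zl (S : Subgroup G) P) N.e g := by
    intro g hg
    have hgN : g ∈ normalizer (bau (S : Subgroup G) : Set G) := Line.S_le S hg
    obtain ⟨h1, h2⟩ := hnorm g hgN
    refine ⟨fun v hv => ?_, fun b hb => (mem_normalizer_iff.1 hgN b).1 hb, fun i => ?_⟩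
    · rw [← h1]
      exact ⟨v, hv, rfl⟩
    obtain ⟨j, h3, h4⟩ := h2 i
    refine ⟨j, fun z hz hzl hz1 => ?_, fun w hw hwl l hl => ?_⟩
    · have h5 : z ∈ Z i := (hZ i z).2 ⟨⟨hz, hzl⟩, hz1⟩
      have h6 : g * z * g⁻¹ ∈ Z j := by
        rw [← h3]; exact ⟨z, h5, rfl⟩
      obtain ⟨h7, h8⟩ := (hZ j _).1 h6
      exact ⟨h7.2, h8⟩
    · have h5 : w ∈ OM.Uni.Wn M i := ⟨hw, hwl⟩
      have h6 : g * w * g⁻¹ ∈ OM.Uni.Wn M j ⊔ zj (S : Subgroup G) := h4 ⟨w, h5, rfl⟩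
      have hle : zj (S : Subgroup G) ≤ zl (S : Subgroup G) P := cd.ZV
      have hcom : ∀ a ∈ zj (S : Subgroup G), ∀ b ∈ OM.Uni.Wn M j, a * b = b * a := fun a ha b hb =>
        cd.VV a (hle ha) b hb.1
      obtain ⟨x, hx, z, hz, e⟩ := SQ1.Bau.mem_sup_comm hcom (by rw [sup_comm]; exact h6)
      rw [e, cd.mul x (hle hx) z hz.1, Pi.add_apply, Pi.add_apply]
      have h8 : N.e z l = 0 := hz.2 l hl
      rw [h8, (cd.memZ x (hle hx)).1 hx l]
      simp
  obtain ⟨z₀, f₀, h1, h2, h3⟩ := cd.exists_cn hk0 S.isPGroup' nm N.trans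
  have md : MD N.toNatK (bau (S : Subgroup G)) (zj (S : Subgroup G)) (OM.Uni.Wn M) Z z₀ f₀ :=
    ⟨hPV, hSP, h1, h2, h3, fun i v => Iff.rfl, hZ⟩
  have BLi : ∀ i, bau (S : Subgroup G) ≤ L i := fun i => (hF.blk i).BL
  refine ⟨L, OM.Uni.Wn M, Z, OM.Uni.Cn M, A, ?_, fun i l hl => (hL1 i hl).1, fun i v => Iff.rfl, hZ,
    fun i v => Iff.rfl⟩
  exact
    { fr := hF
      char2 := hG
      low := D.low P hP
      noff := fun T hT hB f h1 h2 x hx y hy => by
        have h3 := comm_T (PP := {P}) D (fun R hR => by rw [Set.mem_singleton_iff.1 hR]; exact hP)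
          (by simp) (OM.UniPlus.wc_bau S) hBS hBN hT hB h1 h2 hx
        exact (mem_centralizer_iff.1 h3 _ ⟨y, hy, rfl⟩).symm
      perm := fun s hs i j hZ' => perm_of (N := N.toNatK) hVn (fun i v => Iff.rfl) (fun i v => Iff.rfl) hZ
        (hSP hs) hZ'
      co := fun i => ⟨F, inferInstance, inferInstance, inferInstance, rfl, _, cor_of_md md i BLi
        (fun i l hl => by
          obtain ⟨hlP, A', hA', hup⟩ := hL1 i hl
          exact ⟨hlP, A', hA', hup⟩)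
        hL2 (fun c => by
          obtain ⟨b, hb, hc⟩ := o.jj_up c
          exact ⟨b, ChoiceBase.jj_le_bau _ hb, hc.1⟩)⟩ }

end lev

end Cfsg.Agent.Omega.OM.SwapV.Q.OfNat
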