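import Cfsg.Agent.Omega.OM.SwapV.Q.Neg
import Cfsg.Agent.Omega.OM.Var.GIZero
import Cfsg.Agent.Omega.FF.GlobEnd

/-!
# (Om) for `q ≥ 4` over an abstract `V`, stage `-1`: the groups `Y i = C_G(Z j : j ≠ i)`

* `NegQ.bfr` : the frame `Var.Bfr` (constant `q`), at least two blocks;
* `NegQ.K0_le` : `⟨C_G(Z_J), all blocks over B⟩ ≤ ⟨Y i⟩`;
* `NegQ.bmv` : `BMV (J(S)) B X` for `X ≥ ⟨Y i⟩, N_G(B)`.
-/

set_option autoImplicit false
set_option linter.unusedSectionVars false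

namespace Cfsg.Agent.Omega.OM.SwapV.Q

open Subgroup Cfsg Cfsg.Agent.ZN.ChoiceBase Cfsg.Agent.ZN.ChoiceSit
open Cfsg.Agent.ZN (jj zj bau zc zl o2)
open Cfsg.Agent.MinSimple.MinParabolic (IsMinPar)
open Cfsg.Agent.Omega.OM.LevD (LB)
open Cfsg.Agent.Omega.OM.Uni (Fr FB)
open Cfsg.Agent.Omega.OM.Var (Bfr YY EE YY_le_EE)
open Cfsg.Agent.Omega.OM.BlkGen (FBlk)

universe u

variable {G : Type u} [Group G]

/-- the frame `Var.Fr` with constant `q` -/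
theorem var_of_fr {ι : Type*} {B Q V ZJ : Subgroup G} {L W Z C A : ι → Subgroup G} {q m : ℕ}
    (h : Fr B Q V ZJ L W Z C A q m) : Var.Fr B Q V ZJ L W Z C A (fun _ => q) m where
  max := h.max
  blk := h.blk
  cardZ := h.cardZ
  QB := h.QB
  VQ := h.VQ
  el := h.el
  mem_Q := h.mem_Q
  zcQ := h.zcQ
  mem_ZJ := h.mem_ZJ
  LV := h.LV
  LQ := h.LQ
  WV := h.WV
  CV := h.CV
  WC := h.WC
  dir := h.dir
  C0 := h.C0
  WjC := h.WjC
  BC := h.BC
  LC := h.LC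
  AB := h.AB
  Ael := h.Ael
  Am := h.Am
  Ane := h.Ane
  AC := h.AC

section line

variable [Finite G] {ι : Type} [Finite ι] {S : Sylow 2 G} {V Q : Subgroup G} {L W Z C A : ι → Subgroup G} {q : ℕ}

/-- the frame over the Baumann group -/
theorem NegQ.bfr [Nonempty ι] (h : NegQ S V Q L W Z C A q) (hq : 4 ≤ q) (h2 : ∀ i : ι, ∃ j, j ≠ i) :
    Bfr S Q V L W Z C A (fun _ => q) (mm (S : Subgroup G)) where
  char2 := h.char2
  fr := var_of_fr h.fr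
  com := by
    rintro g hg _ ⟨y, hy, rfl⟩ v hv
    have hgB := cj_eq_of_mem_normalizer hg
    have hVB : V ≤ bau (S : Subgroup G) := h.fr.VQ.trans h.fr.QB
    refine (h.noff _ (S.isPGroup'.to_le (bau_le _)) le_rfl g ?_ ?_ v hv y hy).symm
    · have h1 := cj_mono g hVB
      rwa [hgB] at h1
    · rw [hgB]
      exact hVB
  two := h2
  four := by
    rintro ⟨h1, -⟩
    have := h1 (Classical.arbitrary ι)
    omega

/-- `⟨C_G(Z_J), blocks⟩ ≤ ⟨Y i⟩` -/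
theorem NegQ.K0_le [Nonempty ι] (h : NegQ S V Q L W Z C A q) (hq : 4 ≤ q) (h2 : ∀ i : ι, ∃ j, j ≠ i) :
    Dich.K0 (S : Subgroup G) (FBlk (S : Subgroup G)) ≤ EE Z := (h.bfr hq h2).K0_le

/-- the minimal parabolics which move `Ω₁Z(T)` -/
theorem NegQ.bmv [Nonempty ι] (h : NegQ S V Q L W Z C A q) (hq : 4 ≤ q) (h2 : ∀ i : ι, ∃ j, j ≠ i) {X : Subgroup G}
    (hE : EE Z ≤ X) (hN : normalizer (bau (S : Subgroup G) : Set G) ≤ X) :
    BMV (jj (S : Subgroup G)) (bau (S : Subgroup G)) X := by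
  intro T Y hT hB hY hc _ hZ
  refine ((h.bfr hq h2).par_le FF.Glob.ffthm hT hB hY hc hZ).trans (sup_le hE ?_)
  refine (LB.neg S).norm_zj_le.trans (sup_le ?_ hN)
  exact (((h.bfr hq h2).cent_le (Classical.arbitrary ι)).trans (YY_le_EE Z _)).trans hE

end line

end Cfsg.Agent.Omega.OM.SwapV.Q
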