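import Cfsg.Agent.Omega.OM.SwapV.Q.Max
import Cfsg.Agent.Omega.OM.SWQ.CostOne

/-!
# (Om) for `q ≥ 4` over an abstract `V`, CASE I: some `T`-orbit of indices has length at least two

* `nW`, `ti`, `h4` : (N) on `W j`, (TI), (H4);
* `h3` : (H3);
* `phi_univ` : for the chosen pair `T` normalises all `Z i` (`q i ≥ 4`).
-/

set_option autoImplicit false
set_option linter.unusedSectionVars false

namespace Cfsg.Agent.Omega.OM.SwapV.Q

open Subgroup Cfsg Cfsg.Agent.ZN.ChoiceBase Cfsg.Agent.ZN.ChoiceSit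
open Cfsg.Agent.ZN (jj zj bau zc zl o2)
open Cfsg.Agent.MinSimple.MinParabolic (IsMinPar)
open Cfsg.Agent.Omega.OM.LevD (LB K0)
open Cfsg.Agent.Omega.OM.WeakCl (WC)
open Cfsg.Agent.Omega.OM.SWQ (exists_fix cost_blocks)
open Cfsg.Agent.Omega.OmThm
open scoped commutatorElement

universe u

variable {G : Type u} [Group G] [Finite G]

variable {ι : Type} [Finite ι] {S : Sylow 2 G} {K B V ZJ : Subgroup G} {L W Z C A : ι → Subgroup G} {q : ι → ℕ}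

namespace Gr

variable (h : Gr S K B V ZJ L W Z C A q)
include h

theorem exists_perm {t : G} (ht : t ∈ (S : Subgroup G)) (i : ι) :
    ∃ j, cj t (Z i) = Z j ∧ cj t (W i) = W j ∧ cj t (C i) = C j := by
  obtain ⟨j, hj⟩ := (h.norm t (h.S_norm ht)).2 i
  exact ⟨j, hj, h.perm t ht i j hj⟩

/-- the support of a conjugate -/
theorem supp {t : G} (ht : t ∈ (S : Subgroup G)) {i j : ι} (e : cj t (Z i) = Z j) (x : G) :
    t * x * t⁻¹ ∈ C j ↔ x ∈ C i := by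
  rw [← (h.perm t ht i j e).2, mem_cj]
  have e1 : t⁻¹ * (t * x * t⁻¹) * t = x := by group
  rw [e1]

theorem W_cj {t : G} (ht : t ∈ (S : Subgroup G)) {i j : ι} (e : cj t (Z i) = Z j) :
    cj t (W i) = W j := (h.perm t ht i j e).1

theorem L_cent {i j : ι} (hji : j ≠ i) : L j ≤ centralizer (Z i : Set G) := by
  intro l hl
  refine mem_centralizer_iff.2 fun z hz => ?_
  exact (h.LC j l hl z (h.Zle i hz) (h.WjC j i hji (h.ZW i hz))).symm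

theorem trW {i : ι} {x : G} (hx : x ∈ W i) : ∃ l ∈ L i, l * x * l⁻¹ ∈ Z i := by
  have h1 := h.conjZ {i} x (by simpa using hx)
  simpa using h1

theorem exists_W (hq : ∀ i, 1 < q i) (i : ι) : ∃ v ∈ W i, v ∉ Z i ∧ v ≠ 1 := by
  by_contra hcon
  push Not at hcon
  have hle : W i ≤ Z i := by
    intro v hv
    by_contra hvZ
    have := hcon v hv hvZ
    exact hvZ (this ▸ one_mem _)
  have h1 := Subgroup.card_le_of_le hle
  rw [h.cardW, h.cardZ] at h1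
  have h2 := hq i
  have h3 : q i * 1 < q i * q i := Nat.mul_lt_mul_of_pos_left h2 (by omega)
  omega

/-! ### (N), (TI), (H4) -/

section ti

variable {X H : Subgroup G} {r : Set ι}

/-- (N) on `W j`. -/
theorem nW (hLH : ∀ j ∈ r, L j ≤ H) (hLM : ∀ j ∈ r, L j ≤ X)
    (hNZ : ∀ j ∈ r, ∀ x ∈ Z j, x ≠ 1 → ∀ u ∈ H, u * x = x * u → u ∈ X) :
    ∀ j ∈ r, ∀ x ∈ W j, x ≠ 1 → ∀ u ∈ H, u * x = x * u → u ∈ X := by
  intro j hj x hx hx1 u hu hux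
  obtain ⟨l, hl, hlx⟩ := h.trW hx
  have h1 : l * u * l⁻¹ ∈ X := by
    refine hNZ j hj _ hlx (fun e => hx1 ?_) _ (mul_mem (mul_mem (hLH j hj hl) hu) (inv_mem (hLH j hj hl))) ?_
    · exact conj_eq_one_iff.1 e
    · have e1 := congrArg (fun t => l * t * l⁻¹) hux
      have e2 : l * u * l⁻¹ * (l * x * l⁻¹) = l * (u * x) * l⁻¹ := by group
      have e3 : l * x * l⁻¹ * (l * u * l⁻¹) = l * (x * u) * l⁻¹ := by group
      rw [e2, e3]
      exact e1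
  have h2 := mul_mem (mul_mem (inv_mem (hLM j hj hl)) h1) (hLM j hj hl)
  have e : l⁻¹ * (l * u * l⁻¹) * l = u := by group
  rwa [e] at h2

/-- **(TI)** -/
theorem ti (hF1 : ∀ g : G, cj g B ≤ X → g ∈ X) (hBH : B ≤ H) (hLH : ∀ j ∈ r, L j ≤ H) (hLM : ∀ j ∈ r, L j ≤ X)
    (hNZ : ∀ j ∈ r, ∀ x ∈ Z j, x ≠ 1 → ∀ u ∈ H, u * x = x * u → u ∈ X) :
    ∀ i ∈ r, ∀ x ∈ W i, x ≠ 1 → ∀ f ∈ H, x ∈ cj f (⨆ j ∈ r, W j) → f ∈ X := by
  intro i hi x hx hx1 f hf hxf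
  rw [mem_cj] at hxf
  obtain ⟨m, hm, hmx'⟩ := h.conjZ r _ hxf
  have hmx : m * (f⁻¹ * x * f) * m⁻¹ ∈ ZJ := (iSup₂_le fun i _ => h.Zle i : (⨆ i ∈ r, Z i) ≤ ZJ) hmx'
  have hmM : m ∈ X := (iSup₂_le fun i hi => hLM i hi : (⨆ i ∈ r, L i) ≤ X) hm
  have hmH : m ∈ H := (iSup₂_le fun i hi => hLH i hi : (⨆ i ∈ r, L i) ≤ H) hm
  have hg : f * m⁻¹ ∈ X := by
    refine hF1 _ ?_
    rintro _ ⟨b, hb, rfl⟩
    have hgH : f * m⁻¹ ∈ H := mul_mem hf (inv_mem hmH)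
    refine h.nW hLH hLM hNZ i hi x hx hx1 _ (mul_mem (mul_mem hgH (hBH hb)) (inv_mem hgH)) ?_
    have h1 := h.cB hb hmx
    change (f * m⁻¹) * b * (f * m⁻¹)⁻¹ * x = x * ((f * m⁻¹) * b * (f * m⁻¹)⁻¹)
    have h2 := congrArg (fun t => (f * m⁻¹) * t * (f * m⁻¹)⁻¹) h1
    have e1 : (f * m⁻¹) * (m * (f⁻¹ * x * f) * m⁻¹ * b) * (f * m⁻¹)⁻¹ =
      x * ((f * m⁻¹) * b * (f * m⁻¹)⁻¹) := by group
    have e2 : (f * m⁻¹) * (b * (m * (f⁻¹ * x * f) * m⁻¹)) * (f * m⁻¹)⁻¹ =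
      (f * m⁻¹) * b * (f * m⁻¹)⁻¹ * x := by group
    rw [← e1, ← e2]
    exact h2
  have h3 := mul_mem hg hmM
  have e : f * m⁻¹ * m = f := by group
  rwa [e] at h3

/-- **(H4)** -/
theorem h4 (hq : ∀ i, 1 < q i) (hF1 : ∀ g : G, cj g B ≤ X → g ∈ X) (hBH : B ≤ H) (hLH : ∀ j ∈ r, L j ≤ H)
    (hLM : ∀ j ∈ r, L j ≤ X)
    (hNZ : ∀ j ∈ r, ∀ x ∈ Z j, x ≠ 1 → ∀ u ∈ H, u * x = x * u → u ∈ X) (hr : r.Nonempty) :
    H ⊓ normalizer ((⨆ j ∈ r, W j : Subgroup G) : Set G) ≤ X := by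
  rintro f ⟨hf, hfU⟩
  obtain ⟨i, hi⟩ := hr
  obtain ⟨v, hv, -, hv1⟩ := h.exists_W hq i
  refine h.ti hF1 hBH hLH hLM hNZ i hi v hv hv1 f hf ?_
  rw [mem_normalizer_iff_cj.1 hfU]
  exact (le_iSup₂_of_le i hi le_rfl : W i ≤ ⨆ j ∈ r, W j) hv

end ti

/-- **(H3)** -/
theorem h3 (hq : ∀ i, 1 < q i) {O : Subgroup G} {j : ι} (hO : ∀ a ∈ A j, ∀ o ∈ O, a * o * a⁻¹ ∈ O) {o : G}
    (ho : o ∈ O) (hmv : cj o⁻¹ (W j) ≤ C j) (hBW : ∀ b ∈ B, ∀ w ∈ W j, b * w * b⁻¹ ∈ W j) : Z j ≤ ⁅W j, O⁆ := by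
  intro z hz
  obtain ⟨v, hv, hvZ, -⟩ := h.exists_W hq j
  obtain ⟨a, ha, e⟩ := h.root j v hv hvZ z⁻¹ (inv_mem hz)
  -- `e = [o, a⁻¹] ∈ O` acts on `W j` as `a`
  have he : o * a⁻¹ * o⁻¹ * a ∈ O := by
    have h1 := hO a⁻¹ (inv_mem ha) o⁻¹ (inv_mem ho)
    rw [inv_inv] at h1
    have h2 := mul_mem ho h1
    have e1 : o * (a⁻¹ * o⁻¹ * a) = o * a⁻¹ * o⁻¹ * a := by group
    rwa [e1] at h2
  have hav : a * v * a⁻¹ ∈ W j := hBW a (h.AB j ha) v hv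
  have h1 : a * (o⁻¹ * (a * v * a⁻¹) * o) = o⁻¹ * (a * v * a⁻¹) * o * a := by
    refine h.AC j a ha _ (hmv ?_)
    refine ⟨a * v * a⁻¹, hav, ?_⟩
    show o⁻¹ * (a * v * a⁻¹) * o⁻¹⁻¹ = o⁻¹ * (a * v * a⁻¹) * o
    rw [inv_inv]
  have h2 : o * a⁻¹ * o⁻¹ * (a * v * a⁻¹) * (o * a⁻¹ * o⁻¹)⁻¹ = a * v * a⁻¹ := by
    have e1 : o * a⁻¹ * o⁻¹ * (a * v * a⁻¹) * (o * a⁻¹ * o⁻¹)⁻¹ =
        o * (a⁻¹ * (o⁻¹ * (a * v * a⁻¹) * o * a)) * o⁻¹ := by group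
    rw [e1, ← h1]; group
  have h3 : ⁅v, o * a⁻¹ * o⁻¹ * a⁆ = z := by
    have hc : v * (a * v * a⁻¹) = a * v * a⁻¹ * v := h.Vc (h.WV j hv) (h.WV j hav)
    rw [commutatorElement_def]
    have e1 : v * (o * a⁻¹ * o⁻¹ * a) * v⁻¹ * (o * a⁻¹ * o⁻¹ * a)⁻¹ =
        v * (o * a⁻¹ * o⁻¹ * (a * v * a⁻¹) * (o * a⁻¹ * o⁻¹)⁻¹)⁻¹ := by group
    rw [e1, h2]
    have e2 : z = (a * v * a⁻¹ * v⁻¹)⁻¹ := by rw [e, inv_inv]
    rw [e2]; group
  rw [← h3]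
  exact commutator_mem_commutator hv he

/-- `B` normalises `W i`. -/
theorem BW (hq : ∀ i, 1 < q i) (i : ι) : ∀ b ∈ B, ∀ w ∈ W i, b * w * b⁻¹ ∈ W i := by
  intro b hb w hw
  have h1 : cj b (Z i) = Z i := by
    obtain ⟨z, hz, hz1⟩ := h.exists_ne hq i
    exact h.fix_of_comm (h.lb.two_le h.lb.Bp le_rfl hb) hz hz1 (h.cB hb (h.Zle i hz))
  have h2 := h.W_cj (h.lb.BS hb) h1
  rw [← h2]
  exact ⟨w, hw, rfl⟩

end Gr

/-- **CASE I.** -/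
theorem phi_univ (h : Gr S K B V ZJ L W Z C A q) (hK : ∀ i, 4 ≤ q i) {X T F : Subgroup G} (s : Sel S B V ZJ Z X T F)
    (hLM : ∀ i, L i ≤ X) (hD : centralizer (ZJ : Set G) ≤ X) (hN : normalizer (B : Set G) ≤ X) :
    ∀ i, i ∈ Phi Z T := by
  classical
  have hq : ∀ i, 1 < q i := fun i => by have := hK i; omega
  by_contra hcon
  push Not at hcon
  obtain ⟨i₀, hi₀⟩ := hcon
  have hp := s.pair
  have hZM : normalizer (ZJ : Set G) ≤ X := h.lb.norm_zj_le.trans (sup_le hD hN)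
  have hSM : (S : Subgroup G) ≤ X := h.S_norm.trans hN
  have hTM : T ≤ X := s.TS.trans hSM
  have hO : o2 F ≤ T := o2_le_syl hp.syl
  have hTF : T ≤ F := hp.syl.1
  obtain ⟨𝓐, hfam, hnJ, hA⟩ := h.fam X T F hp hD hTM hZM
  -- the orbit
  set r : Set ι := {j | ∃ o ∈ o2 F, cj o (Z i₀) = Z j} with hr
  have hi₀r : i₀ ∈ r := ⟨1, one_mem _, cj_one _⟩
  have hrO : ∀ o ∈ o2 F, ∀ i j, cj o (Z i) = Z j → (i ∈ r ↔ j ∈ r) := by
    intro o ho i j e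
    constructor
    · rintro ⟨o', ho', e'⟩
      exact ⟨o * o', mul_mem ho ho', SwapL.cj_mul_eq e' e⟩
    · rintro ⟨o', ho', e'⟩
      exact ⟨o⁻¹ * o', mul_mem (inv_mem ho) ho', SwapL.cj_mul_eq e' (SwapL.cj_inv_eq e)⟩
  -- an element of `Z_J` with support `r` centralised by `F`
  obtain ⟨x, hxr, hx1, hxO⟩ : ∃ x ∈ (⨆ j ∈ r, Z j : Subgroup G), x ≠ 1 ∧ x ∈ centralizer (o2 F : Set G) := by
    refine exists_fix (isPGroup_o2 F) ?_ ?_ ?_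
    · exact (h.lb.Bp.to_le h.lb.ZB).to_le (iSup₂_le fun j _ => h.Zle j)
    · intro e
      have h1 : Z i₀ ≤ ⊥ := by
        rw [← e]
        exact le_iSup₂_of_le i₀ hi₀r le_rfl
      exact h.Z_ne_bot hq i₀ (le_bot_iff.1 h1)
    · intro o ho
      rw [mem_normalizer_iff_cj]
      refine Subgroup.eq_of_le_of_card_ge ?_ (by rw [card_cj])
      rw [cj_le_iff]
      refine iSup₂_le fun j hj => ?_
      obtain ⟨l, hl⟩ := (h.norm o (h.S_norm (s.TS (hO ho)))).2 j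
      rw [← cj_le_iff, hl]
      exact le_iSup₂_of_le l ((hrO o ho j l hl).1 hj) le_rfl
  have hxJ : x ∈ ZJ := (iSup₂_le fun j _ => h.Zle j : (⨆ j ∈ r, Z j : Subgroup G) ≤ ZJ) hxr
  have hxF : ∀ f ∈ F, f * x = x * f := fun f hf =>
    mem_centralizer_iff.1 (hp.fix ⟨hxJ, hxO⟩) f hf
  have hxfix : ∀ f ∈ F, f * x * f⁻¹ = x := fun f hf => by rw [hxF f hf]; group
  have hxs : ∀ i, x ∈ C i ↔ i ∉ r := by
    have h1 : ∀ i, i ∉ r → x ∈ C i := by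
      intro i hi
      have h2 : (⨆ j ∈ r, Z j : Subgroup G) ≤ C i :=
        iSup₂_le fun j hj => (h.ZW j).trans (h.WjC i j fun e => hi (e ▸ hj))
      exact h2 hxr
    obtain ⟨j₁, hj₁⟩ : ∃ j, x ∉ C j := by
      by_contra hcon
      push Not at hcon
      exact hx1 (h.C0 x (h.ZJV hxJ) hcon)
    have hj₁r : j₁ ∈ r := by
      by_contra h2
      exact hj₁ (h1 j₁ h2)
    intro i
    refine ⟨fun h2 hi => ?_, h1 i⟩
    obtain ⟨o, ho, e⟩ := hi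
    obtain ⟨o', ho', e'⟩ := hj₁r
    have ho'' : o' * o⁻¹ ∈ o2 F := mul_mem ho' (inv_mem ho)
    have e2 : cj (o' * o⁻¹) (Z i) = Z j₁ := SwapL.cj_mul_eq (SwapL.cj_inv_eq e) e'
    have h3 := (h.supp (s.TS (hO ho'')) e2 x).2 h2
    rw [hxfix _ (hTF (hO ho''))] at h3
    exact hj₁ h3
  -- `T` stabilises `r`
  have hrT : ∀ t ∈ T, ∀ i j, cj t (Z i) = Z j → i ∈ r → j ∈ r := by
    intro t ht i j e hi
    by_contra hj
    have h1 := (h.supp (s.TS ht) e x).1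
    rw [hxfix t (hTF ht)] at h1
    exact (hxs i).1 (h1 ((hxs j).2 hj)) hi
  -- an element of `O₂(F)` moves `i₀`
  obtain ⟨j₀, hj₀r, hij₀⟩ : ∃ j₀ ∈ r, i₀ ≠ j₀ := by
    have h1 : ∃ t ∈ T, cj t (Z i₀) ≠ Z i₀ := by
      by_contra hcon
      push Not at hcon
      exact hi₀ hcon
    obtain ⟨t, ht, hne⟩ := h1
    obtain ⟨j, hj⟩ := (h.norm t (h.S_norm (s.TS ht))).2 i₀
    exact ⟨j, hrT t ht i₀ j hj hi₀r, fun e => hne (by rw [hj, ← e])⟩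
  -- every index in `r` is moved by `O₂(F)`
  have hmv : ∀ i ∈ r, ∃ o ∈ o2 F, ∃ j, j ≠ i ∧ cj o (Z i) = Z j := by
    rintro i ⟨o, ho, e⟩
    by_cases h1 : i₀ = i
    · subst h1
      obtain ⟨o', ho', e'⟩ := hj₀r
      exact ⟨o', ho', j₀, hij₀.symm, e'⟩
    · exact ⟨o⁻¹, inv_mem ho, i₀, h1, SwapL.cj_inv_eq e⟩
  have hrPhi : ∀ i ∈ r, i ∉ Phi Z T := by
    intro i hi hPhi
    obtain ⟨o, ho, j, hj, e⟩ := hmv i hi
    exact hj (h.Z_inj' hq (e.symm.trans (hPhi o (hO ho))))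
  -- the group `Y₀`
  set Y₀ : Subgroup G := ⨆ i ∈ Phi Z T, (Z i ⊓ centralizer (T : Set G)) with hY₀
  have hY₀J : Y₀ ≤ ZJ := iSup₂_le fun i _ => inf_le_left.trans (h.Zle i)
  have hFY₀ : F ≤ centralizer (Y₀ : Set G) := by
    rw [le_centralizer_iff]
    refine iSup₂_le fun i _ y hy => hp.fix ⟨h.Zle i hy.1, ?_⟩
    exact centralizer_le (by exact_mod_cast hO) hy.2
  have hBY₀ : B ≤ centralizer (Y₀ : Set G) :=
    h.lb.Bc.trans (centralizer_le (by exact_mod_cast hY₀J))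
  have hLY₀ : ∀ j ∈ r, L j ≤ centralizer (Y₀ : Set G) := by
    intro j hj
    rw [le_centralizer_iff]
    refine iSup₂_le fun i hi => inf_le_left.trans ?_
    rw [le_centralizer_iff]
    exact h.L_cent fun e => hrPhi j hj (e ▸ hi)
  have hNZ : ∀ j ∈ r, ∀ x ∈ Z j, x ≠ 1 → ∀ u ∈ centralizer (Y₀ : Set G), u * x = x * u → u ∈ X := by
    intro j hj z hz hz1 u hu huz
    refine s.cen1 (Y₀ ⊔ zpowers z) (sup_le hY₀J (by
      rw [zpowers_le]; exact h.Zle j hz)) (fun i hi => ?_)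
      ⟨j, hrPhi j hj, z, hz, hz1, mem_sup_right (mem_zpowers z)⟩ ?_
    · obtain ⟨y, hy, hy1, hyT⟩ := exists_fix hp.syl.2.1 (h.Z_two i) (h.Z_ne_bot hq i) fun t ht =>
        mem_normalizer_iff_cj.2 (hi t ht)
      refine ⟨y, hy, hy1, mem_sup_left ?_⟩
      exact (le_iSup₂_of_le i hi le_rfl : Z i ⊓ centralizer (T : Set G) ≤ Y₀) ⟨hy, hyT⟩
    · have h1 : (Y₀ ⊔ zpowers z : Subgroup G) ≤ centralizer ({u} : Set G) := by
        refine sup_le (fun y hy => ?_) ?_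
        · rw [mem_centralizer_singleton_iff]
          exact mem_centralizer_iff.1 hu y hy
        · rw [zpowers_le, mem_centralizer_singleton_iff]
          exact huz.symm
      exact mem_centralizer_iff.2 fun y hy => mem_centralizer_singleton_iff.1 (h1 hy)
  have hF1 : ∀ g : G, cj g B ≤ X → g ∈ X := fun _ hg => mem_of_cj_B_le h.lb h.wc hSM hN hg
  have hNW := h.nW (r := r) hLY₀ (fun j _ => hLM j) hNZ
  have hH4 := h.h4 hq hF1 hBY₀ hLY₀ (fun j _ => hLM j) hNZ ⟨i₀, hi₀r⟩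
  -- the situation
  have hWV : ∀ i, W i ≤ V := h.WV
  have hsup : (⨆ j : r, W j) = ⨆ j ∈ r, W j := iSup_subtype' (f := fun j (_ : j ∈ r) => W j) |>.symm
  have hUV : (⨆ j : r, W j) ≤ V := iSup_le fun j => hWV j
  have hVel := elab_V h hp
  have hLV : NoFF.Basic.V (⨆ j : r, W j) F ≤ NoFF.Basic.V V F :=
    NoFF.Basic.V_le fun f hf => (cj_mono f hUV).trans (NoFF.Basic.Z_le_V hf)
  have hΛ : IsElementaryAbelian 2 (NoFF.Basic.V (⨆ j : r, W j) F) := Swap.elab_mono hVel hLV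
  have hUF : (⨆ j : r, W j) ≤ F := hUV.trans (hp.VO.trans (o2_le F))
  have hTperm : ∀ t ∈ T, ∀ i : r, ∃ j : r, cj t (W i) = W j := by
    rintro t ht ⟨i, hi⟩
    obtain ⟨j, hj1, hj2, -⟩ := h.exists_perm (s.TS ht) i
    exact ⟨⟨j, hrT t ht i _ hj1 hi⟩, hj2⟩
  have hOne : Swap.Fam.One F T (F ⊓ X) 𝓐 (⨆ j : r, W j) (fun j : r => W j) (fun j : r => Z j) :=
    { syl := hp.syl
      TF₀ := le_inf hTF hTM
      F₀F := lt_of_le_of_ne inf_le_left fun e => hp.nM (inf_eq_left.1 e)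
      max := fun K hTK hKF => le_inf hKF.le (hp.min K hTK hKF)
      fam := hfam _ hΛ (NoFF.Basic.V_le fun f hf => by
        have := cj_mono f hUF
        rwa [cj_eq_of_mem_normalizer (le_normalizer hf)] at this) OmThm.XD.X_le_normalizer_W hLV
      nJ := hnJ
      ne := ⟨⟨i₀, hi₀r⟩⟩
      UO := hUV.trans hp.VO
      TU := fun t ht => by
        rw [mem_normalizer_iff_cj]
        refine Subgroup.eq_of_le_of_card_ge ?_ (by rw [card_cj])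
        rw [cj_le_iff]
        refine iSup_le fun j => ?_
        obtain ⟨l, hl⟩ := hTperm t ht j
        rw [← cj_le_iff, hl]
        exact le_iSup (fun j : r => W j) l
      comm := Swap.elab_comm hΛ
      sq := Swap.elab_sq hΛ
      sup := rfl
      H1 := fun i f hf hfz => by
        obtain ⟨z, hz, hz1⟩ := h.exists_ne hq (i : ι)
        exact ⟨hf, hNW i i.2 z (h.ZW i hz) hz1 f (hFY₀ hf) (hfz z hz)⟩
      H2 := fun E hE hET i => (hA E hE hET).2 i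
      H3 := fun i => by
        obtain ⟨o, ho, j, hj, e⟩ := hmv i i.2
        have h1 := h.h3 hq (O := o2 F) (j := (i : ι)) (fun a ha o ho => ?_) (inv_mem ho) ?_ (h.BW hq i)
        · exact h1.trans (commutator_mono (le_iSup (fun j : r => W j) i) le_rfl)
        · have h2 : a ∈ F := hTF (hp.BT (h.AB i ha))
          exact (mem_normalizer_iff.1 (le_normalizer_o2 F h2) o).1 ho
        · rw [inv_inv, h.W_cj (s.TS (hO ho)) e]
          exact h.WjC i j hj.symm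
      H4 := by
        rintro f ⟨hf, hfU⟩
        refine ⟨hf, hH4 ⟨hFY₀ hf, ?_⟩⟩
        rwa [← hsup] }
  have h16 : ∀ i : r, 16 ≤ Nat.card (W (i : ι)) := fun i => by
    rw [h.cardW]
    exact Nat.mul_le_mul (hK i) (hK i)
  have hcost := cost_blocks (T := T) (U := ⨆ j : r, W j) (V := fun j : r => W j) rfl
    (fun x hx y hy => h.Vc (hUV hx) (hUV hy))
    (fun x hx => h.V2 (hUV hx)) ?_ hTperm h16
  · refine hOne.false_of_count ?_ hcost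
    rintro x - ⟨hx1, i, hxi⟩ f hf hfx
    exact ⟨hf, hNW i i.2 x hxi hx1 f (hFY₀ hf) hfx⟩
  · rintro ⟨i, hi⟩ x hx hx'
    have h1 : (⨆ j : r, ⨆ _ : j ≠ ⟨i, hi⟩, W (j : ι)) ≤ C i := by
      refine iSup_le fun j => iSup_le fun hj => ?_
      exact h.WjC i j fun e => hj (Subtype.ext e.symm)
    have h2 : x ∈ W i ⊓ C i := mem_inf.2 ⟨hx, h1 hx'⟩
    rwa [h.dir i, mem_bot] at h2

end Cfsg.Agent.Omega.OM.SwapV.Q
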