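import Cfsg.Agent.Omega.OM.SwapV.Q.Max
import Cfsg.Agent.Omega.OM.SWQ.CaseTwoEnd

/-!
# (Om) for `q ≥ 4` over an abstract `V`, CASE II: `T` normalises all `Z i`

* `Cor.cj` : the coordinates on `W i` for `T ≤ S` which normalises `Z i`;
* `exists_o`, `norm_Z`;
* **`caseTwo`** : `T` centralises all `Z i` with `q i ≠ 4`.
-/

set_option autoImplicit false
set_option linter.unusedSectionVars false

namespace Cfsg.Agent.Omega.OM.SwapV.Q

open Subgroup Cfsg Cfsg.Agent.ZN.ChoiceBase Cfsg.Agent.ZN.ChoiceSit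
open Cfsg.Agent.ZN (jj zj bau zc zl o2)
open Cfsg.Agent.Omega.OM.LevD (LB K0)
open Cfsg.Agent.Omega.OM.WeakCl (WC)
open Cfsg.Agent.Omega.OM.SWQ.CaseTwo (Cj)

universe u

variable {G : Type u} [Group G] [Finite G]

variable {ι : Type} [Finite ι] {S : Sylow 2 G} {K B V ZJ : Subgroup G} {L W Z C A : ι → Subgroup G} {q : ι → ℕ}

/-- The coordinates on `U = W i`. -/
theorem Cor.cj (h : Gr S K B V ZJ L W Z C A q) {T : Subgroup G} (hTS : T ≤ (S : Subgroup G)) (hBT : B ≤ T) {i : ι}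
    (hT : ∀ t ∈ T, cj t (Z i) = Z i) {E : Type} [Field E] {e : G → E × E}
    (c : Cor E (S : Subgroup G) B L W Z i e) : Cj E T B (W i) (Z i) e where
  TU := fun t ht => by
    rw [mem_normalizer_iff_cj]
    exact (h.perm t (hTS ht) i i (hT t ht)).1
  BT := hBT
  Uc := fun v hv w hw => h.Vc (h.WV i hv) (h.WV i hw)
  U2 := fun v hv => h.V2 (h.WV i hv)
  mul := c.mul
  inj := c.inj
  surj := c.surj
  memZ := c.memZ
  act := fun t ht => c.act t (hTS ht) (hT t ht)
  full := c.full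
  BZ := fun b hb z hz => h.cB hb (h.Zle i hz)

/-- `O₂(F)` does not centralise `Z j`. -/
theorem exists_o (h : Gr S K B V ZJ L W Z C A q) {X T F : Subgroup G} (hp : PairV B V ZJ X T F) {j : ι}
    (hne : ¬ Z j ≤ centralizer (T : Set G)) : ∃ o ∈ o2 F, ∃ z ∈ Z j, o * z ≠ z * o := by
  by_contra hcon
  push Not at hcon
  apply hne
  intro z hz
  have h1 : z ∈ centralizer (F : Set G) :=
    hp.fix ⟨h.Zle j hz, mem_centralizer_iff.2 fun o ho => hcon o ho z hz⟩
  exact centralizer_le (by exact_mod_cast hp.syl.1) h1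

/-- (**) `N_F(Z j) ≤ X` -/
theorem norm_Z (h : Gr S K B V ZJ L W Z C A q) {X T F : Subgroup G} (hp : PairV B V ZJ X T F)
    (hN : normalizer (B : Set G) ≤ X) {j : ι}
    (H1 : ∀ f ∈ F, (∀ x ∈ Z j, f * x = x * f) → f ∈ X) {f : G} (hf : f ∈ F) (hfZ : cj f (Z j) = Z j) : f ∈ X := by
  set Q : Subgroup G := F ⊓ centralizer (Z j : Set G) with hQ
  have hB : B ≤ Q :=
    le_inf (hp.BT.trans hp.syl.1) (h.lb.Bc.trans (centralizer_le (by exact_mod_cast h.Zle j)))
  obtain ⟨R, hR, hBR⟩ := exists_syl h.lb.Bp hB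
  have hQf : cj f Q = Q := by
    rw [hQ, cj_inf, cj_centralizer, hfZ, cj_eq_of_mem_normalizer (le_normalizer hf)]
  have hR' : Syl (cj f R) Q := by
    refine ⟨(cj_mono f hR.1).trans hQf.le, isPGroup_cj f hR.2.1, fun T' hT' hp' hle => ?_⟩
    have h3 : cj f⁻¹ T' ≤ Q := by
      have := cj_mono f⁻¹ hT'
      rwa [← hQf, cj_inv_cj] at this
    have h4 := hR.2.2 (cj f⁻¹ T') h3 (isPGroup_cj _ hp') (cj_le_iff.1 hle)
    rw [← h4, cj_cj_inv]
  obtain ⟨x, hx, e⟩ := syl_conj hR' hR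
  have h5 : cj (x * f) R = R := by rw [← cj_cj]; exact e
  have h6 : cj (x * f) B = B := by
    have h7 : cj (x * f) B ≤ R := (cj_mono _ hBR).trans h5.le
    exact h.wc R hR.2.1 hBR (x * f) h7
  have h8 : x * f ∈ X := hN (mem_normalizer_iff_cj.2 h6)
  have h9 : x ∈ X := H1 x hx.1 fun z hz => (mem_centralizer_iff.1 hx.2 z hz).symm
  have := mul_mem (inv_mem h9) h8
  rwa [inv_mul_cancel_left] at this

/-- **CASE II** -/
theorem caseTwo (h : Gr S K B V ZJ L W Z C A q) (_hq : ∀ i, 4 ≤ q i) {X T F : Subgroup G}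
    (s : Sel S B V ZJ Z X T F) (_hL : ∀ i, L i ≤ X) (hD : centralizer (ZJ : Set G) ≤ X)
    (hN : normalizer (B : Set G) ≤ X) (hall : ∀ i, i ∈ Phi Z T) :
    ∀ i, q i ≠ 4 → Z i ≤ centralizer (T : Set G) := by
  intro j hj4
  by_contra hj
  obtain ⟨E, _, _, _, hE, e, c'⟩ := h.co j
  have h4E : Nat.card E ≠ 4 := by rwa [hE]
  have hp := s.pair
  have hT2 := hp.syl.2.1
  have hO : o2 F ≤ T := o2_le_syl hp.syl
  have hZM : normalizer (ZJ : Set G) ≤ X := h.lb.norm_zj_le.trans (sup_le hD hN)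
  have hTM : T ≤ X := (h.lb.two_le hT2 hp.BT).trans hN
  have c : Cj E T B (W j) (Z j) e := Cor.cj h s.TS hp.BT (fun t ht => hall j t ht) c'
  -- centralisers
  have hNb : ∀ x ∈ Z j, x ∉ centralizer (T : Set G) → ∀ f ∈ F, f * x = x * f → f ∈ X := by
    intro x hx hxT f hf hfx
    have hY : (ZJ ⊓ centralizer (T : Set G)) ⊔ zpowers x ≤ ZJ :=
      sup_le inf_le_left (by rw [zpowers_le]; exact h.Zle j hx)
    have hlt : ZJ ⊓ centralizer (T : Set G) < (ZJ ⊓ centralizer (T : Set G)) ⊔ zpowers x := by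
      refine lt_of_le_of_ne le_sup_left fun e => hxT ?_
      have h1 : x ∈ (ZJ ⊓ centralizer (T : Set G)) ⊔ zpowers x := mem_sup_right (mem_zpowers x)
      rw [← e] at h1
      exact h1.2
    refine s.cen2 hall _ hY hlt ?_
    have h2 : (ZJ ⊓ centralizer (T : Set G)) ⊔ zpowers x ≤ centralizer ({f} : Set G) := by
      refine sup_le (fun z hz => ?_) ?_
      · rw [mem_centralizer_singleton_iff]
        have h3 : z ∈ centralizer (F : Set G) := hp.fix ⟨hz.1, centralizer_le (by exact_mod_cast hO) hz.2⟩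
        exact (mem_centralizer_iff.1 h3 f hf).symm
      · rw [zpowers_le, mem_centralizer_singleton_iff]
        exact hfx.symm
    exact mem_centralizer_iff.2 fun z hz => mem_centralizer_singleton_iff.1 (h2 hz)
  have H1 : ∀ f ∈ F, (∀ x ∈ Z j, f * x = x * f) → f ∈ X := by
    intro f hf hx
    obtain ⟨x, hx1, hx2⟩ := SetLike.not_le_iff_exists.1 hj
    exact hNb x hx1 hx2 f hf (hx x hx1)
  have hTO : T ≤ normalizer (o2 F : Set G) := hp.syl.1.trans (le_normalizer_o2 F)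
  have ho := exists_o h hp hj
  -- the situation
  obtain ⟨𝓐, hfam, hnJ, hA⟩ := h.fam X T F hp hD hTM hZM
  have hVel := elab_V h hp
  have hUV : W j ≤ V := h.WV j
  have hLV : NoFF.Basic.V (W j) F ≤ NoFF.Basic.V V F :=
    NoFF.Basic.V_le fun f hf => (cj_mono f hUV).trans (NoFF.Basic.Z_le_V hf)
  have hUO : W j ≤ o2 F := hUV.trans hp.VO
  have hUF : W j ≤ F := hUO.trans (o2_le F)
  have hLF : NoFF.Basic.V (W j) F ≤ F := by
    refine NoFF.Basic.V_le fun f hf => ?_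
    have := cj_mono f hUF
    rwa [cj_eq_of_mem_normalizer (le_normalizer hf)] at this
  have hel := Swap.elab_mono hVel hLV
  have hone : Swap.Fam.One F T (F ⊓ X) 𝓐 (W j) (fun _ : Unit => W j) (fun _ : Unit => Z j) :=
    { syl := hp.syl
      TF₀ := le_inf hp.syl.1 hTM
      F₀F := lt_of_le_of_ne inf_le_left fun e => hp.nM (inf_eq_left.1 e)
      max := fun K hTK hKF => le_inf hKF.le (hp.min K hTK hKF)
      fam := hfam _ hel hLF OmThm.XD.X_le_normalizer_W hLV
      nJ := hnJ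
      ne := ⟨()⟩
      UO := hUO
      TU := c.TU
      comm := fun x hx y hy => SQ1.Bau.elem_comm hel x hx y hy
      sq := fun x hx => by
        have := SQ1.Bau.elem_sq hel x hx
        rwa [pow_two] at this
      sup := by rw [iSup_const]
      H1 := fun _ f hf hx => ⟨hf, H1 f hf hx⟩
      H2 := fun E hE hET _ => (hA E hE hET).2 j
      H3 := fun _ => c.h3 hO hTO ho
      H4 := by
        rintro f ⟨hf, hfU⟩
        refine ⟨hf, norm_Z h hp hN H1 hf ?_⟩
        exact c.h4 hT2 h4E hO hTO ho (cj_eq_of_mem_normalizer (le_normalizer_o2 F hf)) hfU }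
  exact hone.false_of_count (fun x _ hb f hf hfx => ⟨hf, hNb x hb.1 hb.2 f hf hfx⟩) (c.cost hT2 h4E hj)

end Cfsg.Agent.Omega.OM.SwapV.Q
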