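import Cfsg.Agent.Omega.OM.SwapV.Q.Def

/-!
# One natural block with coordinates over `B`: elements of `N_G(B)` which normalise `Z` normalise `W` (`q > 2`)

`U = W × C₀`, `Z_J = Z × C₀ = C_U(B)`; `B` acts on `W` as all `(x + l y, y)`, `L` contains the diagonal elements.

* `Bk` : the structure; `Bk.of_gr` : from the frame `Gr`;
* `Bk.torus` : the diagonal elements can be taken in `N_L(B)`;
* `Bk.semi` : `x ∈ N_G(B) ∩ N_G(Z) ∩ C_G(C₀)`, `x` normalises `U` : `x` acts semilinearly on `U / C₀`;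
* `Bk.cjW` : such an `x` normalises `W`.
-/

set_option autoImplicit false
set_option linter.unusedSectionVars false

namespace Cfsg.Agent.Omega.OM.SwapV.Q

open Subgroup Cfsg Cfsg.Agent.ZN.ChoiceBase Cfsg.Agent.ZN.ChoiceSit
open Cfsg.Agent.Omega.OM.FourF (Act)
open Cfsg.Agent.Omega.NO3b.K0 (conj_mem')
open Cfsg.Agent.Omega.SQ1.Bau (mem_sup_comm)

universe u

variable {G : Type u} [Group G] {F : Type} [Field F]

/-- One natural block `W` with coordinates, over `B`. -/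
structure Bk (B ZJ L W Z C₀ : Subgroup G) (e : G → F × F) : Prop where
  B2 : IsPGroup 2 B
  BL : B ≤ L
  syl : ∀ T : Subgroup G, B ≤ T → T ≤ L → IsPGroup 2 T → T = B
  comm : ∀ v ∈ W, ∀ w ∈ W, v * w = w * v
  WC : ∀ w ∈ W, ∀ c ∈ C₀, w * c = c * w
  CC : ∀ c ∈ C₀, ∀ d ∈ C₀, c * d = d * c
  sqJ : ∀ z ∈ ZJ, z ^ 2 = 1
  dir : W ⊓ C₀ = ⊥
  ZW : Z ≤ W
  ZJeq : ZJ = Z ⊔ C₀
  nW : ∀ l ∈ L, ∀ w ∈ W, l * w * l⁻¹ ∈ W
  LC : ∀ l ∈ L, ∀ c ∈ C₀, l * c = c * l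
  mem_B : ∀ y ∈ normalizer (B : Set G), (∀ z ∈ ZJ, y * z = z * y) → IsPGroup 2 (zpowers y) → y ∈ B
  mul : ∀ v ∈ W, ∀ w ∈ W, e (v * w) = e v + e w
  inj : ∀ v ∈ W, ∀ w ∈ W, e v = e w → v = w
  surj : ∀ p, ∃ v ∈ W, e v = p
  memZ : ∀ v, v ∈ Z ↔ v ∈ W ∧ (e v).2 = 0
  bact : ∀ b ∈ B, ∃ l : F, Act W e b (fun p => (p.1 + l * p.2, p.2))
  full : ∀ l : F, ∃ b ∈ B, Act W e b (fun p => (p.1 + l * p.2, p.2))
  dg : ∀ l : F, l ≠ 0 → ∃ g ∈ L, Act W e g (fun p => (l * p.1, l⁻¹ * p.2))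

namespace Bk

variable {B ZJ L W Z C₀ : Subgroup G} {e : G → F × F}

theorem e_one (h : Bk B ZJ L W Z C₀ e) : e 1 = 0 := by
  have h1 := h.mul 1 (one_mem _) 1 (one_mem _)
  rw [mul_one] at h1
  exact left_eq_add.1 h1

theorem e_inv (h : Bk B ZJ L W Z C₀ e) {w : G} (hw : w ∈ W) : e w⁻¹ = - e w := by
  have h1 := h.mul w hw w⁻¹ (inv_mem hw)
  rw [mul_inv_cancel, h.e_one] at h1
  exact (neg_eq_of_add_eq_zero_right h1.symm).symm

/-- the coordinates on `W × C₀`, modulo `C₀` -/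
noncomputable def E (W C₀ : Subgroup G) (e : G → F × F) (u : G) : F × F :=
  haveI := Classical.propDecidable (∃ w, w ∈ W ∧ ∃ c ∈ C₀, u = w * c)
  if h : ∃ w, w ∈ W ∧ ∃ c ∈ C₀, u = w * c then e h.choose else 0

theorem E_eq (h : Bk B ZJ L W Z C₀ e) {w c : G} (hw : w ∈ W) (hc : c ∈ C₀) : E W C₀ e (w * c) = e w := by
  classical
  have hex : ∃ w', w' ∈ W ∧ ∃ c' ∈ C₀, w * c = w' * c' := ⟨w, hw, c, hc, rfl⟩
  have h1 : E W C₀ e (w * c) = e hex.choose := by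
    unfold E
    rw [dif_pos hex]
  rw [h1]
  obtain ⟨hw', c', hc', e1⟩ := hex.choose_spec
  congr 1
  have h2 : hex.choose⁻¹ * w ∈ W ⊓ C₀ := by
    refine mem_inf.2 ⟨mul_mem (inv_mem hw') hw, ?_⟩
    have e2 : hex.choose⁻¹ * w = c' * c⁻¹ := by
      calc hex.choose⁻¹ * w = hex.choose⁻¹ * (w * c) * c⁻¹ := by group
        _ = hex.choose⁻¹ * (hex.choose * c') * c⁻¹ := by rw [← e1]
        _ = c' * c⁻¹ := by group
    rw [e2]
    exact mul_mem hc' (inv_mem hc)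
  rw [h.dir, mem_bot] at h2
  exact inv_mul_eq_one.1 h2

theorem E_W (h : Bk B ZJ L W Z C₀ e) {w : G} (hw : w ∈ W) : E W C₀ e w = e w := by
  have h1 := h.E_eq hw (one_mem C₀)
  rwa [mul_one] at h1

theorem dec (h : Bk B ZJ L W Z C₀ e) {u : G} (hu : u ∈ W ⊔ C₀) : ∃ w ∈ W, ∃ c ∈ C₀, u = w * c := by
  obtain ⟨w, hw, c, hc, e1⟩ := mem_sup_comm h.WC hu
  exact ⟨w, hw, c, hc, e1⟩

theorem E_mul (h : Bk B ZJ L W Z C₀ e) {u v : G} (hu : u ∈ W ⊔ C₀) (hv : v ∈ W ⊔ C₀) :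
    E W C₀ e (u * v) = E W C₀ e u + E W C₀ e v := by
  obtain ⟨w, hw, c, hc, rfl⟩ := h.dec hu
  obtain ⟨w', hw', c', hc', rfl⟩ := h.dec hv
  have e1 : w * c * (w' * c') = (w * w') * (c * c') := by
    calc w * c * (w' * c') = w * (c * w') * c' := by group
      _ = w * (w' * c) * c' := by rw [h.WC w' hw' c hc]
      _ = (w * w') * (c * c') := by group
  rw [e1, h.E_eq (mul_mem hw hw') (mul_mem hc hc'), h.E_eq hw hc, h.E_eq hw' hc', h.mul w hw w' hw']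

/-- `E u = (a, 0)` iff `u ∈ Z_J` -/
theorem mem_ZJ_of (h : Bk B ZJ L W Z C₀ e) {u : G} (hu : u ∈ W ⊔ C₀) (h2 : (E W C₀ e u).2 = 0) : u ∈ ZJ := by
  obtain ⟨w, hw, c, hc, rfl⟩ := h.dec hu
  rw [h.E_eq hw hc] at h2
  rw [h.ZJeq]
  exact mul_mem (mem_sup_left ((h.memZ w).2 ⟨hw, h2⟩)) (mem_sup_right hc)

theorem E_of_mem_ZJ (h : Bk B ZJ L W Z C₀ e) {u : G} (hu : u ∈ ZJ) : (E W C₀ e u).2 = 0 := by
  rw [h.ZJeq] at hu
  obtain ⟨z, hz, c, hc, rfl⟩ := mem_sup_comm (fun a ha b hb => h.WC a (h.ZW ha) b hb) hu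
  rw [h.E_eq (h.ZW hz) hc]
  exact ((h.memZ z).1 hz).2

theorem E_inv (h : Bk B ZJ L W Z C₀ e) {u : G} (hu : u ∈ W ⊔ C₀) : E W C₀ e u⁻¹ = - E W C₀ e u := by
  have h1 := h.E_mul hu (inv_mem hu)
  rw [mul_inv_cancel, h.E_W (one_mem _), h.e_one] at h1
  exact (neg_eq_of_add_eq_zero_right h1.symm).symm

/-- an element of `L` acts on `W × C₀` -/
theorem L_act (h : Bk B ZJ L W Z C₀ e) {g : G} (hg : g ∈ L) {w c : G} (hc : c ∈ C₀) :
    g * (w * c) * g⁻¹ = (g * w * g⁻¹) * c := by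
  have h1 : c * g⁻¹ = g⁻¹ * c := by
    have h2 := h.LC g hg c hc
    calc c * g⁻¹ = g⁻¹ * (g * c) * g⁻¹ := by group
      _ = g⁻¹ * (c * g) * g⁻¹ := by rw [h2]
      _ = g⁻¹ * c := by group
  calc g * (w * c) * g⁻¹ = g * w * (c * g⁻¹) := by group
    _ = (g * w * g⁻¹) * c := by rw [h1]; group

theorem L_act_mem (h : Bk B ZJ L W Z C₀ e) {g : G} (hg : g ∈ L) {u : G} (hu : u ∈ W ⊔ C₀) :
    g * u * g⁻¹ ∈ W ⊔ C₀ := by
  obtain ⟨w, hw, c, hc, rfl⟩ := h.dec hu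
  rw [h.L_act hg hc]
  exact mul_mem (mem_sup_left (h.nW g hg w hw)) (mem_sup_right hc)

theorem E_act (h : Bk B ZJ L W Z C₀ e) {g : G} (hg : g ∈ L) {f : F × F → F × F} (ha : Act W e g f) {u : G}
    (hu : u ∈ W ⊔ C₀) : E W C₀ e (g * u * g⁻¹) = f (E W C₀ e u) := by
  obtain ⟨w, hw, c, hc, rfl⟩ := h.dec hu
  rw [h.L_act hg hc, h.E_eq (h.nW g hg w hw) hc, h.E_eq hw hc]
  exact ha w hw

/-- **the diagonal elements normalise `B`** -/
theorem torus [Finite G] (h : Bk B ZJ L W Z C₀ e) {l : F} (hl : l ≠ 0) :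
    ∃ g ∈ L, g ∈ normalizer (B : Set G) ∧ ∃ m : F, Act W e g (fun p => (l * p.1 + m * p.2, l⁻¹ * p.2)) := by
  obtain ⟨g, hg, ha⟩ := h.dg l hl
  have hnW := h.nW
  let X : Subgroup G :=
    { carrier := {x | x ∈ L ∧ ∃ m : F, Act W e x (fun p => (p.1 + m * p.2, p.2))}
      one_mem' := ⟨one_mem _, 0, fun w _ => by simp⟩
      mul_mem' := by
        rintro x y ⟨hx, m, hxm⟩ ⟨hy, m', hym⟩
        refine ⟨mul_mem hx hy, m + m', fun w hw => ?_⟩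
        have e1 : x * y * w * (x * y)⁻¹ = x * (y * w * y⁻¹) * x⁻¹ := by group
        rw [e1, hxm _ (hnW y hy w hw), hym w hw]
        ext <;> simp <;> ring
      inv_mem' := by
        rintro x ⟨hx, m, hxm⟩
        refine ⟨inv_mem hx, -m, fun w hw => ?_⟩
        have h1 : x⁻¹ * w * x⁻¹⁻¹ ∈ W := hnW _ (inv_mem hx) w hw
        have h2 := hxm _ h1
        have e1 : x * (x⁻¹ * w * x⁻¹⁻¹) * x⁻¹ = w := by group
        rw [e1] at h2
        set p := e (x⁻¹ * w * x⁻¹⁻¹) with hp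
        rw [h2]
        ext <;> simp }
  have hXL : X ≤ L := fun x hx => hx.1
  have hBX : B ≤ X := fun b hb => ⟨h.BL hb, h.bact b hb⟩
  have hgX : cj g X ≤ X := by
    rintro _ ⟨x, ⟨hx, m, hxm⟩, rfl⟩
    show g * x * g⁻¹ ∈ X
    refine ⟨mul_mem (mul_mem hg hx) (inv_mem hg), l * m * l, fun w hw => ?_⟩
    have h1 : g⁻¹ * w * g⁻¹⁻¹ ∈ W := hnW _ (inv_mem hg) w hw
    have h2 := ha _ h1
    have e1 : g * (g⁻¹ * w * g⁻¹⁻¹) * g⁻¹ = w := by group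
    rw [e1] at h2
    have e2 : g * x * g⁻¹ * w * (g * x * g⁻¹)⁻¹ = g * (x * (g⁻¹ * w * g⁻¹⁻¹) * x⁻¹) * g⁻¹ := by group
    rw [e2, ha _ (hnW x hx _ h1), hxm _ h1]
    set p := e (g⁻¹ * w * g⁻¹⁻¹) with hp
    rw [h2]
    ext
    · simp only
      field_simp
    · simp only
  have hS1 : Syl B X := ⟨hBX, h.B2, fun T hT h2 hle => h.syl T hle (hT.trans hXL) h2⟩
  have hgX' : cj g X = X := Subgroup.eq_of_le_of_card_ge hgX (by rw [card_cj])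
  have hS2 : Syl (cj g B) X := by
    refine ⟨(cj_mono g hBX).trans hgX, isPGroup_cj g h.B2, fun T hT h2 hle => ?_⟩
    have h3 := hS1.2.2 (cj g⁻¹ T) (by rw [cj_le_iff, inv_inv, hgX']; exact hT) (isPGroup_cj _ h2) (by
      rw [← cj_inv_cj g B]; exact cj_mono _ hle)
    have h4 := congrArg (cj g) h3
    rwa [cj_cj_inv] at h4
  obtain ⟨x, ⟨hx, m, hxm⟩, ex⟩ := syl_conj hS2 hS1
  refine ⟨x * g, mul_mem hx hg, ?_, m * l⁻¹, fun w hw => ?_⟩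
  · rw [mem_normalizer_iff_cj, ← cj_cj, ex]
  · have e1 : x * g * w * (x * g)⁻¹ = x * (g * w * g⁻¹) * x⁻¹ := by group
    rw [e1, hxm _ (hnW g hg w hw), ha w hw]
    ext <;> simp [mul_assoc]

/-- an element of `N_G(B) ∩ C_G(Z_J)` with `[U, y] ≤ Z_J` acts on `U` as an element of `B` -/
theorem act_B [Finite G] (h : Bk B ZJ L W Z C₀ e) {y : G} (hy : y ∈ normalizer (B : Set G))
    (hz : ∀ z ∈ ZJ, y * z = z * y) (hU : ∀ u ∈ W ⊔ C₀, u⁻¹ * (y * u * y⁻¹) ∈ ZJ) :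
    ∃ b ∈ B, ∀ u ∈ W ⊔ C₀, y * u * y⁻¹ = b * u * b⁻¹ := by
  obtain ⟨a, r, hr, e1⟩ := Nat.exists_eq_two_pow_mul_odd (orderOf_pos y).ne'
  refine ⟨y ^ r, h.mem_B _ (pow_mem hy r) (fun z hz' => ?_) ?_, ?_⟩
  · exact ((show Commute y z from hz z hz').pow_left r).eq
  · refine IsPGroup.of_card (n := a) ?_
    rw [Nat.card_zpowers, orderOf_pow' y hr.pos.ne', e1]
    have h1 : Nat.gcd (2 ^ a * r) r = r := Nat.gcd_eq_right (Dvd.intro_left _ rfl)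
    rw [h1]
    exact Nat.mul_div_cancel _ hr.pos
  · -- `y ^ 2` centralises `U`
    have h2 : ∀ u ∈ W ⊔ C₀, y ^ 2 * u * (y ^ 2)⁻¹ = u := by
      intro u hu
      have h3 := hU u hu
      set f := u⁻¹ * (y * u * y⁻¹) with hf
      have e2 : y * u * y⁻¹ = u * f := by rw [hf]; group
      have e3 : y * f * y⁻¹ = f := by rw [hz f h3]; group
      have e4 : f * f = 1 := by rw [← pow_two]; exact h.sqJ f h3
      calc y ^ 2 * u * (y ^ 2)⁻¹ = y * (y * u * y⁻¹) * y⁻¹ := by rw [pow_two]; group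
        _ = y * (u * f) * y⁻¹ := by rw [e2]
        _ = (y * u * y⁻¹) * (y * f * y⁻¹) := by group
        _ = u * f * f := by rw [e2, e3]
        _ = u * (f * f) := mul_assoc _ _ _
        _ = u := by rw [e4, mul_one]
    have h3 : ∀ n : ℕ, ∀ u ∈ W ⊔ C₀, (y ^ 2) ^ n * u * ((y ^ 2) ^ n)⁻¹ = u := by
      intro n u hu
      have h4 : Commute (y ^ 2) u := mul_inv_eq_iff_eq_mul.1 (h2 u hu)
      have h5 := (h4.pow_left n).eq
      rw [h5]; group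
    intro u hu
    obtain ⟨n, rfl⟩ := hr
    have e2 : y ^ (2 * n + 1) = y * (y ^ 2) ^ n := by rw [pow_succ, pow_mul]; exact (Commute.refl y).pow_left 2 |>.pow_left n |>.eq
    have e3 : y ^ (2 * n + 1) * u * (y ^ (2 * n + 1))⁻¹ = y * ((y ^ 2) ^ n * u * ((y ^ 2) ^ n)⁻¹) * y⁻¹ := by
      rw [e2]; group
    rw [e3, h3 n u hu]

/-- **Semilinearity.** `x ∈ N_G(B)` normalises `Z`, `U`, centralises `C₀`: there are `σ`-like maps: `α`, `β` with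
`x (p) = (α p.1 + δ p.2, β p.2)` and for every `l ≠ 0` an `l' ≠ 0` with `α (l a) = l' α a`, `β (l⁻¹ a) = l'⁻¹ β a`. -/
theorem semi [Finite G] (h : Bk B ZJ L W Z C₀ e) {x : G} (hx : x ∈ normalizer (B : Set G)) (hZ : cj x Z = Z)
    (hC : ∀ c ∈ C₀, x * c = c * x) (hU : ∀ w ∈ W, x * w * x⁻¹ ∈ W ⊔ C₀) :
    ∃ α δ β : F → F, (∀ w ∈ W, E W C₀ e (x * w * x⁻¹) = (α (e w).1 + δ (e w).2, β (e w).2)) ∧
      ∀ l : F, l ≠ 0 → ∃ l' : F, l' ≠ 0 ∧ (l' = 1 → l = 1) ∧ (∀ a, α (l * a) = l' * α a) ∧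
        ∀ a, β (l⁻¹ * a) = l'⁻¹ * β a := by
  classical
  choose s hsW hse using h.surj
  have hs : ∀ w ∈ W, s (e w) = w := fun w hw => h.inj _ (hsW _) _ hw (hse _)
  have hsm : ∀ p p', s (p + p') = s p * s p' := fun p p' =>
    h.inj _ (hsW _) _ (mul_mem (hsW _) (hsW _)) (by rw [h.mul _ (hsW _) _ (hsW _), hse, hse, hse])
  set X : F × F → F × F := fun p => E W C₀ e (x * s p * x⁻¹) with hX
  have hXm : ∀ p p', X (p + p') = X p + X p' := by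
    intro p p'
    have e1 : x * s (p + p') * x⁻¹ = (x * s p * x⁻¹) * (x * s p' * x⁻¹) := by rw [hsm]; group
    simp only [hX]
    rw [e1, h.E_mul (hU _ (hsW _)) (hU _ (hsW _))]
  have hZx : ∀ z ∈ Z, x * z * x⁻¹ ∈ Z := fun z hz => by
    have h1 : x * z * x⁻¹ ∈ cj x Z := ⟨z, hz, rfl⟩
    rwa [hZ] at h1
  have hsZ : ∀ a : F, s (a, 0) ∈ Z := fun a => (h.memZ _).2 ⟨hsW _, by rw [hse]⟩
  have hX0 : ∀ a : F, (X (a, 0)).2 = 0 := fun a => by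
    have h1 := hZx _ (hsZ a)
    simp only [hX]
    rw [h.E_W (h.ZW h1)]
    exact ((h.memZ _).1 h1).2
  set α : F → F := fun a => (X (a, 0)).1 with hα
  set δ : F → F := fun a => (X (0, a)).1 with hδ
  set β : F → F := fun a => (X (0, a)).2 with hβ
  have hXp : ∀ p : F × F, X p = (α p.1 + δ p.2, β p.2) := by
    intro p
    have e1 : p = (p.1, 0) + (0, p.2) := by ext <;> simp
    conv_lhs => rw [e1]
    rw [hXm]
    ext
    · rfl
    · show (X (p.1, 0)).2 + (X (0, p.2)).2 = β p.2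
      rw [hX0, zero_add]
  -- commutation with `B`
  have hrel : ∀ m : F, ∃ m' : F, ∀ y : F, α (m * y) = m' * β y := by
    intro m
    obtain ⟨b, hb, hbm⟩ := h.full m
    have hb' : x * b * x⁻¹ ∈ B := (mem_normalizer_iff.1 hx b).1 hb
    obtain ⟨m', hm'⟩ := h.bact _ hb'
    refine ⟨m', fun y => ?_⟩
    have e1 : b * s (0, y) * b⁻¹ = s (m * y, y) := by
      refine h.inj _ (h.nW b (h.BL hb) _ (hsW _)) _ (hsW _) ?_
      rw [hbm _ (hsW _), hse, hse]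
      ext <;> simp
    have e2 : x * s (m * y, y) * x⁻¹ = (x * b * x⁻¹) * (x * s (0, y) * x⁻¹) * (x * b * x⁻¹)⁻¹ := by
      rw [← e1]; group
    have h1 : X (m * y, y) = ((X (0, y)).1 + m' * (X (0, y)).2, (X (0, y)).2) := by
      have h2 := h.E_act (h.BL hb') hm' (hU _ (hsW (0, y)))
      rw [← e2] at h2
      exact h2
    have h2 := congrArg Prod.fst h1
    rw [hXp (m * y, y), hXp (0, y)] at h2
    have hα0 : α 0 = 0 := by
      have h3 := hXm (0, 0) (0, 0)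
      have h4 : ((0 : F), (0 : F)) + (0, 0) = (0, 0) := by ext <;> simp
      rw [h4] at h3
      have h5 := left_eq_add.1 h3
      show (X (0, 0)).1 = 0
      rw [h5]; rfl
    simp only [hα0, zero_add] at h2
    rw [add_comm] at h2
    exact add_left_cancel h2
  -- injectivity
  have hxinv : ∀ u ∈ ZJ, x⁻¹ * u * x ∈ ZJ := by
    intro u hu
    rw [h.ZJeq] at hu ⊢
    obtain ⟨z, hz, c, hc, rfl⟩ := mem_sup_comm (fun a ha b hb => h.WC a (h.ZW ha) b hb) hu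
    have h1 : x⁻¹ * z * x ∈ Z := by
      have h2 : z ∈ cj x Z := by rw [hZ]; exact hz
      exact mem_cj.1 h2
    have h2 : x⁻¹ * c * x = c := by
      have h3 := hC c hc
      calc x⁻¹ * c * x = x⁻¹ * (c * x) := by group
        _ = x⁻¹ * (x * c) := by rw [h3]
        _ = c := by group
    have e1 : x⁻¹ * (z * c) * x = (x⁻¹ * z * x) * (x⁻¹ * c * x) := by group
    rw [e1, h2]
    exact mul_mem (mem_sup_left h1) (mem_sup_right hc)
  have hβ1 : β 1 ≠ 0 := by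
    intro h0
    have h1 : x * s (0, 1) * x⁻¹ ∈ ZJ := h.mem_ZJ_of (hU _ (hsW _)) h0
    have h2 := hxinv _ h1
    have e1 : x⁻¹ * (x * s (0, 1) * x⁻¹) * x = s (0, 1) := by group
    rw [e1] at h2
    have h3 := h.E_of_mem_ZJ h2
    rw [h.E_W (hsW _), hse] at h3
    exact one_ne_zero h3
  have hα1 : ∀ a, α a = 0 → a = 0 := by
    intro a h0
    have h1 := hZx _ (hsZ a)
    have h2 : e (x * s (a, 0) * x⁻¹) = 0 := by
      rw [← h.E_W (h.ZW h1)]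
      exact Prod.ext h0 (hX0 a)
    have h3 : x * s (a, 0) * x⁻¹ = 1 := h.inj _ (h.ZW h1) _ (one_mem _) (by rw [h2, h.e_one])
    have h4 : s (a, 0) = 1 := conj_eq_one_iff.1 h3
    have h5 := hse (a, 0)
    rw [h4, h.e_one] at h5
    exact (congrArg Prod.fst h5).symm
  have hα1' : α 1 ≠ 0 := fun h0 => one_ne_zero (hα1 1 h0)
  have r1 : ∀ m y, α (m * y) * β 1 = α m * β y := by
    intro m y
    obtain ⟨m', hm'⟩ := hrel m
    have h1 := hm' 1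
    rw [mul_one] at h1
    rw [hm' y, h1]; ring
  have r2 : ∀ y, α y * β 1 = α 1 * β y := fun y => by
    have h1 := r1 1 y
    rwa [one_mul] at h1
  have r3 : ∀ y, β y = α y * β 1 / α 1 := fun y => by
    rw [r2 y]; field_simp
  have r4 : ∀ l a, α (l * a) = α l / α 1 * α a := by
    intro l a
    have h1 := r1 l a
    rw [r3 a] at h1
    have h2 : α (l * a) * β 1 = (α l / α 1 * α a) * β 1 := by rw [h1]; ring
    exact mul_right_cancel₀ hβ1 h2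
  refine ⟨α, δ, β, fun w hw => ?_, fun l hl => ⟨α l / α 1, div_ne_zero (fun h0 => hl (hα1 l h0)) hα1', ?_, r4 l, ?_⟩⟩
  · have h1 := hXp (e w)
    simp only [hX] at h1
    rwa [hs w hw] at h1
  · intro h1
    have h2 : α l = α 1 := by rw [div_eq_one_iff_eq hα1'] at h1; exact h1
    have h3 : α (l - 1) = 0 := by
      have h4 := hXm (l - 1, 0) (1, 0)
      have e1 : ((l - 1, 0) : F × F) + (1, 0) = (l, 0) := by ext <;> simp
      rw [e1] at h4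
      have h5 := congrArg Prod.fst h4
      have h6 : α l = α (l - 1) + α 1 := h5
      rw [h2] at h6
      exact right_eq_add.1 h6
    exact sub_eq_zero.1 (hα1 _ h3)
  · intro a
    have hl' : α l / α 1 ≠ 0 := div_ne_zero (fun h0 => hl (hα1 l h0)) hα1'
    have h1 : α a = α l / α 1 * α (l⁻¹ * a) := by
      rw [← r4 l (l⁻¹ * a), mul_inv_cancel_left₀ hl]
    have h2 : α (l⁻¹ * a) = (α l / α 1)⁻¹ * α a := by
      rw [h1, inv_mul_cancel_left₀ hl']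
    rw [r3 (l⁻¹ * a), h2, r3 a]
    ring

/-- **`x ∈ N_G(B)` which normalises `Z`, `W C₀` and centralises `C₀` normalises `W`.** -/
theorem cjW [Finite G] (h : Bk B ZJ L W Z C₀ e) (hF : ∃ l : F, l ≠ 0 ∧ l ≠ 1) {x : G}
    (hx : x ∈ normalizer (B : Set G)) (hZ : cj x Z = Z)
    (hC : ∀ c ∈ C₀, x * c = c * x) (hU : ∀ w ∈ W, x * w * x⁻¹ ∈ W ⊔ C₀) (hU' : ∀ w ∈ W, x⁻¹ * w * x ∈ W ⊔ C₀) :
    ∀ w ∈ W, x * w * x⁻¹ ∈ W := by
  obtain ⟨α, δ, β, hact, hsemi⟩ := h.semi hx hZ hC hU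
  obtain ⟨l, hl0, hl1⟩ := hF
  obtain ⟨l', hl0', hl1', hα, hβ⟩ := hsemi l hl0
  obtain ⟨g, hgL, hgB, m, hg⟩ := h.torus hl0
  obtain ⟨k, hkL, hkB, m', hk⟩ := h.torus hl0'
  have hZx : ∀ z ∈ Z, x⁻¹ * z * x ∈ Z := fun z hz => by
    have h1 : z ∈ cj x Z := by rw [hZ]; exact hz
    exact mem_cj.1 h1
  have hCx : ∀ c ∈ C₀, x * c * x⁻¹ = c := fun c hc => by rw [hC c hc]; group
  have hCx' : ∀ c ∈ C₀, x⁻¹ * c * x = c := fun c hc => by
    have h3 := hC c hc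
    calc x⁻¹ * c * x = x⁻¹ * (c * x) := by group
      _ = x⁻¹ * (x * c) := by rw [h3]
      _ = c := by group
  have hUx : ∀ u ∈ W ⊔ C₀, x * u * x⁻¹ ∈ W ⊔ C₀ := by
    intro u hu
    obtain ⟨w, hw, c, hc, rfl⟩ := h.dec hu
    have e1 : x * (w * c) * x⁻¹ = (x * w * x⁻¹) * (x * c * x⁻¹) := by group
    rw [e1, hCx c hc]
    exact mul_mem (hU w hw) (mem_sup_right hc)
  have hUx' : ∀ u ∈ W ⊔ C₀, x⁻¹ * u * x ∈ W ⊔ C₀ := by
    intro u hu
    obtain ⟨w, hw, c, hc, rfl⟩ := h.dec hu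
    have e1 : x⁻¹ * (w * c) * x = (x⁻¹ * w * x) * (x⁻¹ * c * x) := by group
    rw [e1, hCx' c hc]
    exact mul_mem (hU' w hw) (mem_sup_right hc)
  have hEx : ∀ u ∈ W ⊔ C₀, E W C₀ e (x * u * x⁻¹) = (α (E W C₀ e u).1 + δ (E W C₀ e u).2, β (E W C₀ e u).2) := by
    intro u hu
    obtain ⟨w, hw, c, hc, rfl⟩ := h.dec hu
    have e1 : x * (w * c) * x⁻¹ = (x * w * x⁻¹) * (x * c * x⁻¹) := by group
    rw [e1, hCx c hc, h.E_mul (hU w hw) (mem_sup_right hc), h.E_eq hw hc, hact w hw]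
    have h2 : E W C₀ e c = 0 := by
      have h3 := h.E_eq (one_mem W) hc
      rwa [one_mul, h.e_one] at h3
    rw [h2, add_zero]
  -- `y = k⁻¹ (x g x⁻¹)`
  set n : G := x * g * x⁻¹ with hn
  have hnB : n ∈ normalizer (B : Set G) := mul_mem (mul_mem hx hgB) (inv_mem hx)
  have hnC : ∀ c ∈ C₀, n * c * n⁻¹ = c := by
    intro c hc
    have h1 : g * c * g⁻¹ = c := by rw [h.LC g hgL c hc]; group
    calc n * c * n⁻¹ = x * (g * (x⁻¹ * c * x) * g⁻¹) * x⁻¹ := by rw [hn]; group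
      _ = c := by rw [hCx' c hc, h1, hCx c hc]
  have hnU : ∀ u ∈ W ⊔ C₀, n * u * n⁻¹ ∈ W ⊔ C₀ := by
    intro u hu
    have e1 : n * u * n⁻¹ = x * (g * (x⁻¹ * u * x) * g⁻¹) * x⁻¹ := by rw [hn]; group
    rw [e1]
    exact hUx _ (h.L_act_mem hgL (hUx' u hu))
  have hEn : ∀ u ∈ W ⊔ C₀, (E W C₀ e (n * u * n⁻¹)).2 = l'⁻¹ * (E W C₀ e u).2 := by
    intro u hu
    have e1 : n * u * n⁻¹ = x * (g * (x⁻¹ * u * x) * g⁻¹) * x⁻¹ := by rw [hn]; group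
    have h1 := hEx _ (h.L_act_mem hgL (hUx' u hu))
    have h2 := h.E_act hgL hg (hUx' u hu)
    have h3 := hEx _ (hUx' u hu)
    have e2 : x * (x⁻¹ * u * x) * x⁻¹ = u := by group
    rw [e2] at h3
    rw [e1, h1, h2]
    simp only
    rw [hβ, h3]
  have hEnZ : ∀ u ∈ Z, (E W C₀ e (n * u * n⁻¹)).1 = l' * (E W C₀ e u).1 := by
    intro u hu
    have huU : u ∈ W ⊔ C₀ := mem_sup_left (h.ZW hu)
    have e1 : n * u * n⁻¹ = x * (g * (x⁻¹ * u * x) * g⁻¹) * x⁻¹ := by rw [hn]; group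
    have h1 := hEx _ (h.L_act_mem hgL (hUx' u huU))
    have h2 := h.E_act hgL hg (hUx' u huU)
    have h3 := hEx _ (hUx' u huU)
    have e2 : x * (x⁻¹ * u * x) * x⁻¹ = u := by group
    rw [e2] at h3
    have h4 : (E W C₀ e (x⁻¹ * u * x)).2 = 0 := h.E_of_mem_ZJ (by
      rw [h.ZJeq]; exact mem_sup_left (hZx u hu))
    have h5 : δ 0 = 0 := by
      have h6 := hEx 1 (one_mem _)
      have h7 : E W C₀ e 1 = 0 := by rw [h.E_W (one_mem _), h.e_one]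
      have h8 := hα 0
      rw [mul_zero] at h8
      have h9 : α 0 = 0 := by
        have h10 : (l' - 1) * α 0 = 0 := by rw [sub_mul, one_mul, ← h8, sub_self]
        exact (mul_eq_zero.1 h10).resolve_left fun h0 => hl1 (hl1' (sub_eq_zero.1 h0))
      have e3 : x * 1 * x⁻¹ = 1 := by group
      rw [e3, h7] at h6
      have h11 := congrArg Prod.fst h6
      simp only [Prod.fst_zero, Prod.snd_zero, h9, zero_add] at h11
      exact h11.symm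
    rw [e1, h1, h2, h3, h4]
    simp only [mul_zero, add_zero, h5, hα]
  set y : G := k⁻¹ * n with hy
  have hyB : y ∈ normalizer (B : Set G) := mul_mem (inv_mem hkB) hnB
  have hkC : ∀ c ∈ C₀, k⁻¹ * c * k = c := fun c hc => by
    have h3 := h.LC k hkL c hc
    calc k⁻¹ * c * k = k⁻¹ * (c * k) := by group
      _ = k⁻¹ * (k * c) := by rw [h3]
      _ = c := by group
  have hkZ : ∀ z ∈ ZJ, k⁻¹ * z * k ∈ ZJ := by
    intro z hz
    have hzU : z ∈ W ⊔ C₀ := by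
      rw [h.ZJeq] at hz
      exact sup_le_sup_right h.ZW _ hz
    have h1 := h.L_act_mem (inv_mem hkL) hzU
    rw [inv_inv] at h1
    refine h.mem_ZJ_of h1 ?_
    have h2 := h.E_act hkL hk h1
    have e1 : k * (k⁻¹ * z * k) * k⁻¹ = z := by group
    rw [e1] at h2
    have h3 := h.E_of_mem_ZJ hz
    rw [h2] at h3
    exact (mul_eq_zero.1 h3).resolve_left (inv_ne_zero hl0')
  have hyZ : ∀ z ∈ ZJ, y * z = z * y := by
    intro z hz
    rw [h.ZJeq] at hz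
    obtain ⟨a, ha, c, hc, rfl⟩ := mem_sup_comm (fun a ha b hb => h.WC a (h.ZW ha) b hb) hz
    have h1 : n * a * n⁻¹ = k * a * k⁻¹ := by
      have ha' : x⁻¹ * a * x ∈ Z := hZx a ha
      have hgZ : g * (x⁻¹ * a * x) * g⁻¹ ∈ Z := (h.memZ _).2 ⟨h.nW g hgL _ (h.ZW ha'), by
        rw [hg _ (h.ZW ha')]
        simp only
        rw [((h.memZ _).1 ha').2, mul_zero]⟩
      have hnZ : n * a * n⁻¹ ∈ Z := by
        have e1 : n * a * n⁻¹ = x * (g * (x⁻¹ * a * x) * g⁻¹) * x⁻¹ := by rw [hn]; group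
        rw [e1, ← hZ]
        exact ⟨_, hgZ, rfl⟩
      refine h.inj _ (h.ZW hnZ) _ (h.nW k hkL a (h.ZW ha)) ?_
      rw [hk a (h.ZW ha)]
      have h2 := hEnZ a ha
      rw [h.E_W (h.ZW hnZ), h.E_W (h.ZW ha)] at h2
      have h3 := ((h.memZ _).1 hnZ).2
      have h4 := ((h.memZ _).1 ha).2
      ext
      · simp only
        rw [h2, h4, mul_zero, add_zero]
      · simp only
        rw [h3, h4, mul_zero]
    have h2 : y * a * y⁻¹ = a := by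
      calc y * a * y⁻¹ = k⁻¹ * (n * a * n⁻¹) * k := by rw [hy]; group
        _ = a := by rw [h1]; group
    have h3 : y * c * y⁻¹ = c := by
      calc y * c * y⁻¹ = k⁻¹ * (n * c * n⁻¹) * k := by rw [hy]; group
        _ = c := by rw [hnC c hc, hkC c hc]
    have h4 : y * (a * c) * y⁻¹ = a * c := by
      calc y * (a * c) * y⁻¹ = (y * a * y⁻¹) * (y * c * y⁻¹) := by group
        _ = a * c := by rw [h2, h3]
    exact mul_inv_eq_iff_eq_mul.1 h4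
  have hyU : ∀ u ∈ W ⊔ C₀, u⁻¹ * (y * u * y⁻¹) ∈ ZJ := by
    intro u hu
    have hku := h.L_act_mem hkL hu
    have h1 : (k * u * k⁻¹)⁻¹ * (n * u * n⁻¹) ∈ ZJ := by
      refine h.mem_ZJ_of (mul_mem (inv_mem hku) (hnU u hu)) ?_
      rw [h.E_mul (inv_mem hku) (hnU u hu), h.E_inv hku, h.E_act hkL hk hu, Prod.snd_add, hEn u hu, Prod.snd_neg]
      simp
    have e1 : u⁻¹ * (y * u * y⁻¹) = k⁻¹ * ((k * u * k⁻¹)⁻¹ * (n * u * n⁻¹)) * k := by rw [hy]; group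
    rw [e1]
    exact hkZ _ h1
  obtain ⟨b, hb, hbU⟩ := h.act_B hyB hyZ hyU
  -- the end
  intro w hw
  -- `w = g w₀ g⁻¹ w₀⁻¹`
  obtain ⟨w₀, hw₀, e0⟩ : ∃ w₀ ∈ W, g * w₀ * g⁻¹ * w₀⁻¹ = w := by
    have hl2 : l - 1 ≠ 0 := sub_ne_zero.2 hl1
    have hl3 : l⁻¹ - 1 ≠ 0 := sub_ne_zero.2 fun h0 => hl1 (by rw [← inv_inv l, h0, inv_one])
    obtain ⟨w₀, hw₀, e1⟩ := h.surj (((e w).1 - m * ((e w).2 / (l⁻¹ - 1))) / (l - 1), (e w).2 / (l⁻¹ - 1))
    have hgw := h.nW g hgL w₀ hw₀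
    refine ⟨w₀, hw₀, h.inj _ (mul_mem hgw (inv_mem hw₀)) _ hw ?_⟩
    rw [h.mul _ hgw _ (inv_mem hw₀), h.e_inv hw₀, hg w₀ hw₀, e1]
    ext
    · simp only [Prod.fst_add, Prod.fst_neg]
      field_simp
      ring
    · simp only [Prod.snd_add, Prod.snd_neg]
      have e2 : l⁻¹ * ((e w).2 / (l⁻¹ - 1)) + -((e w).2 / (l⁻¹ - 1)) = (l⁻¹ - 1) * ((e w).2 / (l⁻¹ - 1)) := by ring
      rw [e2, mul_div_cancel₀ _ hl3]
  set u : G := x * w₀ * x⁻¹ with hu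
  have huU : u ∈ W ⊔ C₀ := hU w₀ hw₀
  have e1 : x * w * x⁻¹ = (n * u * n⁻¹) * u⁻¹ := by rw [← e0, hn, hu]; group
  obtain ⟨w₁, hw₁, c₁, hc₁, e2⟩ := h.dec huU
  have e3 : n * u * n⁻¹ = k * (y * u * y⁻¹) * k⁻¹ := by rw [hy]; group
  have e4 : k * (b * (w₁ * c₁) * b⁻¹) * k⁻¹ = (k * (b * w₁ * b⁻¹) * k⁻¹) * c₁ := by
    rw [h.L_act (h.BL hb) hc₁, h.L_act hkL hc₁]
  rw [e1, e3, hbU u huU, e2, e4]
  have e5 : k * (b * w₁ * b⁻¹) * k⁻¹ * c₁ * (w₁ * c₁)⁻¹ = (k * (b * w₁ * b⁻¹) * k⁻¹) * w₁⁻¹ := by group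
  rw [e5]
  exact mul_mem (h.nW k hkL _ (h.nW b (h.BL hb) _ hw₁)) (inv_mem hw₁)

end Bk

end Cfsg.Agent.Omega.OM.SwapV.Q
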