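import Cfsg.Agent.Omega.OM.SwapV.Q.Def
import Cfsg.Agent.Omega.OM.FourF.Mod
import Cfsg.Agent.Omega.NOThreeL.RRed.NS.Cov
import Cfsg.Agent.Omega.NOThreeL.RRed.NS.Spl

/-!
# (Om) for `q ≥ 4` over an abstract `V`: the coordinates from a natural module of one `P`

`M : NatKM F S P V D k`, `h : Nb M`, `DD M j = 1` for all `j`, `S` centralises `D`.

* `resK` : `⨆ blk M j` is a natural module with `D = 1` (`NatK`); `resC` : the same as `NatC`;
* `CorA F S W Z e` : coordinates on one block `W` with line `Z`; **`exists_corA`** : for `blk M j`, `YY h j`;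
* `CorA.cor` : `CorA` and the root groups give `Cor`.
-/

set_option autoImplicit false
set_option linter.unusedSectionVars false

namespace Cfsg.Agent.Omega.OM.SwapV.Q

open Subgroup Cfsg Cfsg.Agent.ZN.ChoiceBase Cfsg.Agent.ZN.ChoiceSit
open Cfsg.Agent.ZN (jj zj bau zc zl o2)
open Cfsg.Agent.Lib.SL2Mat
open Cfsg.Agent.Omega.NatPair hiding cj
open Cfsg.Agent.Omega.FFThm (NatK NatKM ActsSL Off)
open Cfsg.Agent.Omega.NO3S.ThmB (Nb)
open Cfsg.Agent.Omega.NO3S.KeyRad (blk blk_le e_blk exists_blk_e conj_iSup_blk)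
open Cfsg.Agent.Omega.NOThreeL.RRed.NS (DD YY iSup_DD exists_iSup_blk iSup_blk_norm)
open Cfsg.Agent.Omega.NO3S.OneLine (NatC)
open Cfsg.Agent.Omega.OM.Lev.Nat (exists_up)
open Cfsg.Agent.Omega.OM.YThm
open Cfsg.Agent.Omega.OM.FourF (Act MD)

universe u

variable {G : Type u} [Group G]

/-- Coordinates on one block `W` with line `Z`. -/
structure CorA (F : Type) [Field F] (S W Z : Subgroup G) (e : G → F × F) : Prop where
  mul : ∀ v ∈ W, ∀ w ∈ W, e (v * w) = e v + e w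
  inj : ∀ v ∈ W, ∀ w ∈ W, e v = e w → v = w
  surj : ∀ p, ∃ v ∈ W, e v = p
  memZ : ∀ v, v ∈ Z ↔ v ∈ W ∧ (e v).2 = 0
  act : ∀ t ∈ S, cj t Z = Z → ∃ (s : F ≃+* F) (l : F), Act W e t (fun p => (s p.1 + l * s p.2, s p.2))

theorem CorA.cor {ι : Type} {F : Type} [Field F] {S B : Subgroup G} {L W Z A : ι → Subgroup G} {i : ι}
    {e : G → F × F} (c : CorA F S (W i) (Z i) e) (BS : B ≤ S) (AB : A i ≤ B)
    (cB : ∀ b ∈ B, ∀ z ∈ Z i, b * z = z * b)
    (root : ∀ v ∈ W i, v ∉ Z i → ∀ z ∈ Z i, ∃ a ∈ A i, a * v * a⁻¹ * v⁻¹ = z)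
    (sl : ∀ a b c d : F, a * d - b * c = 1 → ∃ g ∈ L i, g ∈ normalizer (W i : Set G) ∧
      Act (W i) e g (fun p => (a * p.1 + b * p.2, c * p.1 + d * p.2)) ∧ ∀ j, j ≠ i → ∀ w ∈ W j, g * w = w * g) :
    Cor F S B L W Z i e where
  mul := c.mul
  inj := c.inj
  surj := c.surj
  memZ := c.memZ
  act := c.act
  sl := sl
  full := fun l => by
    obtain ⟨v, hv, hve⟩ := c.surj (0, 1)
    obtain ⟨z, hz, hze⟩ := c.surj (l, 0)
    have hzZ : z ∈ Z i := (c.memZ z).2 ⟨hz, by rw [hze]⟩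
    have hvZ : v ∉ Z i := fun h => by
      have := ((c.memZ v).1 h).2
      rw [hve] at this
      exact one_ne_zero this
    obtain ⟨a, ha, e1⟩ := root v hv hvZ z hzZ
    have haB := AB ha
    have hcj : cj a (Z i) = Z i := by
      refine cj_eq_of_mem_normalizer (mem_normalizer_iff.2 fun x => ?_)
      constructor
      · intro hx
        rw [cB a haB x hx]
        simpa using hx
      · intro hx
        have h1 := cB a haB _ hx
        have h2 : a * x * a⁻¹ = x := by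
          have h3 : a * (a * x * a⁻¹) = a * x := by rw [h1]; group
          exact mul_left_cancel h3
        rwa [h2] at hx
    obtain ⟨s, m, hs⟩ := c.act a (BS haB) hcj
    have hs1 : ∀ x, s x = x := by
      intro x
      obtain ⟨y, hy, hye⟩ := c.surj (x, 0)
      have hyZ : y ∈ Z i := (c.memZ y).2 ⟨hy, by rw [hye]⟩
      have h1 := hs y hy
      have h2 : a * y * a⁻¹ = y := by rw [cB a haB y hyZ]; group
      rw [h2, hye] at h1
      have h3 := congrArg Prod.fst h1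
      simp only [map_zero, mul_zero, add_zero] at h3
      exact h3.symm
    have hm : m = l := by
      have h1 := hs v hv
      have h2 : a * v * a⁻¹ = z * v := by rw [← e1]; group
      rw [h2, c.mul z hz v hv, hze, hve] at h1
      have h3 := congrArg Prod.fst h1
      simp only [hs1, Prod.fst_add, add_zero, zero_add, mul_one] at h3
      exact h3.symm
    refine ⟨a, haB, fun w hw => ?_⟩
    rw [hs w hw]
    simp only [hs1, hm]

section res

variable {F : Type} [Field F] {S P V D : Subgroup G} {k : ℕ} {M : NatKM F S P V D k} (h : Nb M) [CharP F 2]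
include h

theorem supV : (⨆ j, blk M j) ≤ V := iSup_le fun j => blk_le h j

theorem sup_inf (spl : ∀ j, DD M j = ⊥) : (⨆ j, blk M j) ⊓ D = ⊥ := by
  rw [eq_bot_iff]
  rintro x ⟨h1, h2⟩
  have h3 := iSup_DD h h1 h2
  simpa [spl] using h3

theorem sup_inj (spl : ∀ j, DD M j = ⊥) {v w : G} (hv : v ∈ ⨆ j, blk M j) (hw : w ∈ ⨆ j, blk M j)
    (e : M.e v = M.e w) : v = w := by
  have h1 : v * w⁻¹ ∈ D := (h.mem_D (supV h hv) (supV h hw)).2 e
  have h2 : v * w⁻¹ ∈ (⨆ j, blk M j) ⊓ D := Subgroup.mem_inf.2 ⟨mul_mem hv (inv_mem hw), h1⟩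
  rw [sup_inf h spl, mem_bot] at h2
  exact mul_inv_eq_one.1 h2

theorem sup_surj (x : Fin k → Fin 2 → F) : ∃ v ∈ ⨆ j, blk M j, M.e v = x := by
  obtain ⟨v, -, hv⟩ := M.surj x
  obtain ⟨w, hw, hwv⟩ := exists_iSup_blk h v
  exact ⟨w, hw, hwv.trans hv⟩

theorem mem_blk_iff (spl : ∀ j, DD M j = ⊥) {j : Fin k} {v : G} :
    v ∈ blk M j ↔ v ∈ (⨆ j, blk M j) ∧ ∀ l, l ≠ j → M.e v l = 0 := by
  constructor
  · intro hv
    exact ⟨(le_iSup (blk M) j : blk M j ≤ _) hv, fun l hl => e_blk h hl hv⟩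
  · rintro ⟨hv, h0⟩
    obtain ⟨w, hw, hwe⟩ := exists_blk_e h j (M.e v j)
    have h1 : v = w := by
      refine sup_inj h spl hv ((le_iSup (blk M) j : blk M j ≤ _) hw) (funext fun l => ?_)
      by_cases hl : l = j
      · rw [hl, hwe]
      · rw [h0 l hl, e_blk h hl hw]
    rw [h1]
    exact hw

/-- `e (x v x⁻¹)` depends only on `e v` -/
theorem e_conj_congr {x v w : G} (hx : x ∈ P) (hv : v ∈ V) (hw : w ∈ V) (e : M.e v = M.e w) :
    M.e (x * v * x⁻¹) = M.e (x * w * x⁻¹) := by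
  rw [← h.mem_D (h.memV hx hv) (h.memV hx hw)]
  have h1 : v * w⁻¹ ∈ D := (h.mem_D hv hw).2 e
  have h2 := (mem_normalizer_iff.1 (h.DP' hx) _).1 h1
  have e1 : x * (v * w⁻¹) * x⁻¹ = x * v * x⁻¹ * (x * w * x⁻¹)⁻¹ := by group
  rwa [e1] at h2

/-- **`V = ⟨Z^P⟩`, `Z` central in `S`, split blocks ⟹ `S` centralises `D`.** -/
theorem cent_D (spl : ∀ j, DD M j = ⊥) {Z : Subgroup G} (hZV : Z ≤ V) (hZS : ∀ z ∈ Z, ∀ s ∈ S, s * z = z * s)
    (hgen : ∀ K : Subgroup G, Z ≤ K → P ≤ normalizer (K : Set G) → V ≤ K) : ∀ s ∈ S, ∀ d ∈ D, s * d = d * s := by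
  have hcm : ∀ a ∈ (⨆ j, blk M j), ∀ b ∈ D ⊓ centralizer (S : Set G), a * b = b * a := fun a ha b hb =>
    h.cm (supV h ha) (h.DV hb.1)
  have hP : P ≤ centralizer ((D ⊓ centralizer (S : Set G) : Subgroup G) : Set G) := by
    refine M.gen _ (fun s hs => mem_centralizer_iff.2 fun d hd => ?_) fun g hg A hA => mem_centralizer_iff.2 fun d hd => ?_
    · exact (mem_centralizer_iff.1 hd.2 s hs).symm
    · exact (hA.2 d hd.1).symm
  have hV : V ≤ (⨆ j, blk M j) ⊔ (D ⊓ centralizer (S : Set G)) := by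
    refine hgen _ (fun z hz => ?_) fun p hp => ?_
    · obtain ⟨w, hw, hwe⟩ := exists_iSup_blk h z
      have h1 : z * w⁻¹ ∈ D := (h.mem_D (hZV hz) (supV h hw)).2 hwe.symm
      have e : z = z * w⁻¹ * w := by group
      rw [e]
      refine mul_mem (mem_sup_right ⟨h1, mem_centralizer_iff.2 fun s hs => ?_⟩) (mem_sup_left hw)
      have h2 : s * (z * w⁻¹) * s⁻¹ ∈ D := (mem_normalizer_iff.1 (h.DP' (h.SP' hs)) _).1 h1
      have h3 : s * w * s⁻¹ ∈ (⨆ j, blk M j) := conj_iSup_blk h (h.SP' hs) hw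
      have h4 : s * (z * w⁻¹) * s⁻¹ * (s * w * s⁻¹) = z := by
        calc _ = s * z * s⁻¹ := by group
          _ = z := by rw [hZS z hz s hs]; group
      have h5 : (z * w⁻¹)⁻¹ * (s * (z * w⁻¹) * s⁻¹) = w * (s * w * s⁻¹)⁻¹ := by
        have h6 : s * (z * w⁻¹) * s⁻¹ = z * (s * w * s⁻¹)⁻¹ := by
          rw [eq_mul_inv_iff_mul_eq]
          exact h4
        rw [h6]
        group
      have h7 : (z * w⁻¹)⁻¹ * (s * (z * w⁻¹) * s⁻¹) ∈ (⨆ j, blk M j) ⊓ D :=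
        Subgroup.mem_inf.2 ⟨by rw [h5]; exact mul_mem hw (inv_mem h3), mul_mem (inv_mem h1) h2⟩
      rw [sup_inf h spl, mem_bot, inv_mul_eq_one] at h7
      calc s * (z * w⁻¹) = s * (z * w⁻¹) * s⁻¹ * s := by group
        _ = z * w⁻¹ * s := by rw [← h7]
    · have key : ∀ p ∈ P, ∀ y ∈ (⨆ j, blk M j) ⊔ (D ⊓ centralizer (S : Set G)),
          p * y * p⁻¹ ∈ (⨆ j, blk M j) ⊔ (D ⊓ centralizer (S : Set G)) := by
        intro p hp y hy
        obtain ⟨w, hw, c, hc, rfl⟩ := SQ1.Bau.mem_sup_comm hcm hy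
        have e1 : p * (w * c) * p⁻¹ = p * w * p⁻¹ * c := by
          have e2 : c * p = p * c := mem_centralizer_iff.1 (hP hp) c hc
          calc p * (w * c) * p⁻¹ = p * w * (c * p⁻¹) := by group
            _ = p * w * (p⁻¹ * c) := by
              have e3 : c * p⁻¹ = p⁻¹ * c := (show Commute c p from e2).inv_right.eq
              rw [e3]
            _ = _ := by group
        rw [e1]
        exact mul_mem (mem_sup_left (conj_iSup_blk h hp hw)) (mem_sup_right hc)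
      refine mem_normalizer_iff.2 fun y => ⟨key p hp y, fun hy => ?_⟩
      have h1 := key p⁻¹ (inv_mem hp) _ hy
      have e : p⁻¹ * (p * y * p⁻¹) * p⁻¹⁻¹ = y := by group
      rwa [e] at h1
  intro s hs d hd
  obtain ⟨w, hw, c, hc, e⟩ := SQ1.Bau.mem_sup_comm hcm (hV (h.DV hd))
  have h1 : w ∈ (⨆ j, blk M j) ⊓ D := by
    refine Subgroup.mem_inf.2 ⟨hw, ?_⟩
    have h2 : w = d * c⁻¹ := by rw [e]; group
    rw [h2]
    exact mul_mem hd (inv_mem hc.1)
  rw [sup_inf h spl, mem_bot] at h1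
  rw [e, h1, one_mul]
  exact mem_centralizer_iff.1 hc.2 s hs

/-- an offender of `⨆ blk M j` is one of `V` -/
theorem off_res [Finite G] (spl : ∀ j, DD M j = ⊥) (hD : ∀ s ∈ S, ∀ d ∈ D, s * d = d * s) {A : Subgroup G}
    (hA : A ≤ S) (ho : Off (⨆ j, blk M j) A) : Off V A := by
  refine ⟨ho.elem, fun hc => ho.ne (hc.trans (centralizer_le (supV h))), ?_⟩
  have hcm : ∀ a ∈ (⨆ j, blk M j), ∀ b ∈ D, a * b = b * a := fun a ha b hb => h.cm (supV h ha) (h.DV hb)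
  have hsup : (⨆ j, blk M j) ⊔ D = V := by
    refine le_antisymm (sup_le (supV h) h.DV) fun v hv => ?_
    obtain ⟨w, hw, hwv⟩ := exists_iSup_blk h v
    have h1 : v * w⁻¹ ∈ D := (h.mem_D hv (supV h hw)).2 hwv.symm
    have e : v = v * w⁻¹ * w := by group
    rw [e]
    exact mul_mem (mem_sup_right h1) (mem_sup_left hw)
  have h1 := SQ1.Bau.card_sup_comm (A := ⨆ j, blk M j) (B := D) hcm
  rw [hsup, sup_inf h spl, card_bot, mul_one] at h1
  have h2 := SQ1.Bau.card_sup_comm (A := (⨆ j, blk M j) ⊓ centralizer (A : Set G)) (B := D) fun a ha b hb => hcm a ha.1 b hb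
  have h3 : (⨆ j, blk M j) ⊓ centralizer (A : Set G) ⊓ D = ⊥ := by
    rw [eq_bot_iff, ← sup_inf h spl]
    exact inf_le_inf_right _ inf_le_left
  rw [h3, card_bot, mul_one] at h2
  have h4 : ((⨆ j, blk M j) ⊓ centralizer (A : Set G)) ⊔ D ≤ V ⊓ centralizer (A : Set G) := by
    refine sup_le (inf_le_inf_right _ (supV h)) (le_inf h.DV fun d hd => ?_)
    exact mem_centralizer_iff.2 fun a ha => hD a (hA ha) d hd
  have h5 := Subgroup.card_le_of_le h4
  have h6 : A ⊓ centralizer (V : Set G) = A ⊓ centralizer ((⨆ j, blk M j : Subgroup G) : Set G) := by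
    refine le_antisymm (inf_le_inf_left _ (centralizer_le (supV h))) ?_
    rintro a ⟨ha, hc⟩
    refine ⟨ha, mem_centralizer_iff.2 fun v hv => ?_⟩
    have hv' : v ∈ (⨆ j, blk M j) ⊔ D := by rw [hsup]; exact hv
    obtain ⟨x, hx, y, hy, rfl⟩ := SQ1.Bau.mem_sup_comm hcm hv'
    have e1 : Commute x a := mem_centralizer_iff.1 hc x hx
    have e2 : Commute y a := (hD a (hA ha) y hy).symm
    exact (e1.mul_left e2).eq
  rw [h6, h1]
  calc Nat.card ↥(⨆ j, blk M j) * Nat.card D * Nat.card ↥(A ⊓ centralizer ((⨆ j, blk M j : Subgroup G) : Set G))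
      = Nat.card D * (Nat.card ↥(⨆ j, blk M j) *
        Nat.card ↥(A ⊓ centralizer ((⨆ j, blk M j : Subgroup G) : Set G))) := by ring
    _ ≤ Nat.card D * (Nat.card A * Nat.card ↥((⨆ j, blk M j) ⊓ centralizer (A : Set G))) :=
      Nat.mul_le_mul_left _ ho.le
    _ = Nat.card A * (Nat.card ↥((⨆ j, blk M j) ⊓ centralizer (A : Set G)) * Nat.card D) := by ring
    _ = Nat.card A * Nat.card ↥(((⨆ j, blk M j) ⊓ centralizer (A : Set G)) ⊔ D) := by rw [h2]
    _ ≤ _ := Nat.mul_le_mul_left _ h5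

theorem acts_res {g : G} {A : Fin k → Matrix.SpecialLinearGroup (Fin 2) F} (hg : ActsSL M.e V D g A) :
    ActsSL M.e (⨆ j, blk M j) ⊥ g A :=
  ⟨fun v hv => hg.1 v (supV h hv), fun d hd => by rw [mem_bot.1 hd, mul_one, one_mul]⟩

/-- **`⨆ blk M j` as a natural module with `D = 1`.** -/
def resK [Finite G] (spl : ∀ j, DD M j = ⊥) (hD : ∀ s ∈ S, ∀ d ∈ D, s * d = d * s) :
    NatK F S P (⨆ j, blk M j) ⊥ k where
  e := M.e
  mul := fun v hv w hw => M.mul v (supV h hv) w (supV h hw)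
  surj := sup_surj h
  ker := fun v hv => by
    constructor
    · intro h0
      refine mem_bot.2 (sup_inj h spl hv (one_mem _) ?_)
      rw [h0, Nb.e_one (M := M)]
    · intro h0
      rw [mem_bot.1 h0, Nb.e_one (M := M)]
  lift := fun A => by
    obtain ⟨g, hg, hA⟩ := M.lift A
    exact ⟨g, hg, acts_res h hA⟩
  norm := fun g hg x hx A hA => by
    obtain ⟨B, hB⟩ := M.norm g hg x hx A fun v hv i => by
      obtain ⟨w, hw, hwv⟩ := exists_iSup_blk h v
      rw [e_conj_congr h hx hv (supV h hw) hwv.symm, hA w hw i, hwv]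
    exact ⟨B, fun v hv => hB v (supV h hv)⟩
  perm := fun g hg => by
    obtain ⟨σ, hσ⟩ := M.perm g hg
    exact ⟨σ, fun v hv => hσ v (supV h hv)⟩
  trans := fun i j => by
    obtain ⟨t, ht, h1⟩ := M.trans i j
    exact ⟨t, ht, fun v hv => h1 v (supV h hv)⟩
  line := fun t ht => by
    obtain ⟨σ, hσ⟩ := M.line t ht
    exact ⟨σ, fun v hv => hσ v (supV h hv)⟩
  unip := fun b => by
    obtain ⟨t, ht, h1⟩ := M.unip b
    exact ⟨t, ht, acts_res h h1⟩
  gen := fun K hK hx => M.gen K hK fun g hg A hA => hx g hg A (acts_res h hA)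
  off := fun A hA ho => by
    obtain ⟨I, h1, h2⟩ := M.off A hA (off_res h spl hD hA ho)
    refine ⟨I, fun a ha => ?_, fun b hb => ?_⟩
    · obtain ⟨b, hb, hb2⟩ := h1 a ha
      exact ⟨b, hb, acts_res h hb2⟩
    · obtain ⟨a, ha, ha2⟩ := h2 b hb
      exact ⟨a, ha, acts_res h ha2⟩

/-- the same as `NatC` -/
def resC [Finite G] (spl : ∀ j, DD M j = ⊥) (hD : ∀ s ∈ S, ∀ d ∈ D, s * d = d * s) (hk : 0 < k) (VQ : V ≤ o2 P)
    (cQ : ∀ x ∈ o2 P, ∀ v ∈ V, x * v = v * x) : NatC F S P (⨆ j, blk M j) ⊥ k where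
  nat := resK h spl hD
  DV := bot_le
  Vn := fun _ hg _ hv => conj_iSup_blk h hg hv
  VQ := (supV h).trans VQ
  Vsq := fun v hv => h.V2.2 v (supV h hv)
  VcQ := fun x hx v hv => cQ x hx v (supV h hv)
  pos := hk

/-- the product of the lines -/
def ZZ : Subgroup G where
  carrier := {v | v ∈ (⨆ j, blk M j) ∧ ∀ i, M.e v i 1 = 0}
  one_mem' := ⟨one_mem _, fun i => by rw [Nb.e_one (M := M)]; rfl⟩
  mul_mem' := by
    rintro a b ⟨ha, ha0⟩ ⟨hb, hb0⟩
    refine ⟨mul_mem ha hb, fun i => ?_⟩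
    rw [M.mul a (supV h ha) b (supV h hb), Pi.add_apply, Pi.add_apply, ha0, hb0, add_zero]
  inv_mem' := by
    rintro a ⟨ha, ha0⟩
    exact ⟨inv_mem ha, fun i => by rw [h.e_inv (supV h ha), ha0]⟩

theorem mem_ZZ {v : G} : v ∈ ZZ h ↔ v ∈ (⨆ j, blk M j) ∧ ∀ i, M.e v i 1 = 0 := Iff.rfl

theorem ZZ_norm {s : G} (hs : s ∈ S) {v : G} (hv : v ∈ ZZ h) : s * v * s⁻¹ ∈ ZZ h := by
  obtain ⟨τ, hτ⟩ := M.line s hs
  refine ⟨conj_iSup_blk h (h.SP' hs) hv.1, fun m => ?_⟩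
  obtain ⟨l, rfl⟩ := τ.surjective m
  exact (hτ v (supV h hv.1) l).2 (hv.2 l)

theorem cd_res [Finite G] [Finite F] (spl : ∀ j, DD M j = ⊥) (hD : ∀ s ∈ S, ∀ d ∈ D, s * d = d * s) (hk : 0 < k)
    (VQ : V ≤ o2 P) (cQ : ∀ x ∈ o2 P, ∀ v ∈ V, x * v = v * x) (hS : Syl S P) :
    YThm.Cd F (S ⊓ centralizer (ZZ h : Set G)) (⨆ j, blk M j) (ZZ h) k M.e where
  VV := fun v hv w hw => h.cm (supV h hv) (supV h hw)
  mul := fun v hv w hw => M.mul v (supV h hv) w (supV h hw)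
  surj := sup_surj h
  inj := fun v hv h0 => sup_inj h spl hv (one_mem _) (by rw [h0, Nb.e_one (M := M)])
  ZV := fun _ hv => hv.1
  memZ := fun v hv => ⟨fun h1 => h1.2, fun h1 => ⟨hv, h1⟩⟩
  nB := fun b hb v hv => conj_iSup_blk h (h.SP' hb.1) hv
  act := fun b hb => by
    obtain ⟨c, hc⟩ := exists_up (resC h spl hD hk VQ cQ) hS hb.1 fun v hv hv1 =>
      (mem_centralizer_iff.1 hb.2 v ⟨hv, hv1⟩).symm
    refine ⟨c, fun v hv i => ?_⟩
    have h1 : M.e (b * v * b⁻¹) i = ap (up (c i)) (M.e v i) := hc v hv i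
    rw [h1]
    constructor
    · rw [ap_zero', up_00, up_01, one_mul]
    · rw [ap_one', up_10, up_11, zero_mul, one_mul, zero_add]
  full := fun c => by
    obtain ⟨t, ht, hA, -⟩ := M.unip c
    refine ⟨t, ⟨ht, mem_centralizer_iff.2 fun z hz => ?_⟩, fun v hv i => ?_⟩
    · symm
      refine mul_inv_eq_iff_eq_mul.1 (sup_inj h spl (conj_iSup_blk h (h.SP' ht) hz.1) hz.1 ?_)
      funext j
      rw [hA z (supV h hz.1) j]
      apply ext2
      · rw [ap_zero', up_00, up_01, hz.2 j]; ring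
      · rw [ap_one', up_10, up_11]; ring
    · rw [hA v (supV h hv) i]
      constructor
      · rw [ap_zero', up_00, up_01, one_mul]
      · rw [ap_one', up_10, up_11, zero_mul, one_mul, zero_add]

theorem nm_res {s : G} (hs : s ∈ S) : Nm (S ⊓ centralizer (ZZ h : Set G)) (⨆ j, blk M j) M.e s where
  nV := fun v hv => conj_iSup_blk h (h.SP' hs) hv
  nB := fun b hb => by
    refine Subgroup.mem_inf.2 ⟨mul_mem (mul_mem hs hb.1) (inv_mem hs), mem_centralizer_iff.2 fun z hz => ?_⟩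
    have h1 := ZZ_norm h (inv_mem hs) hz
    rw [inv_inv] at h1
    have h2 := mem_centralizer_iff.1 hb.2 _ h1
    calc z * (s * b * s⁻¹) = s * (s⁻¹ * z * s * b) * s⁻¹ := by group
      _ = s * (b * (s⁻¹ * z * s)) * s⁻¹ := by rw [h2]
      _ = s * b * s⁻¹ * z := by group
  nW := fun i => by
    obtain ⟨σ, hσ⟩ := M.perm s (h.SP' hs)
    obtain ⟨τ, hτ⟩ := M.line s hs
    have key : ∀ v ∈ (⨆ j, blk M j), (∀ l, l ≠ i → M.e v l = 0) → ∀ l, l ≠ σ i → M.e (s * v * s⁻¹) l = 0 := by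
      intro v hv h1 l hl
      obtain ⟨m, rfl⟩ := σ.surjective l
      exact (hσ v (supV h hv) m).2 (h1 m fun h2 => hl (by rw [h2]))
    refine ⟨σ i, fun z hz h1 h2 => ⟨key z hz h1, ?_⟩, fun w hw h1 l hl => ?_⟩
    · obtain ⟨m, hm⟩ := τ.surjective (σ i)
      rw [← hm]
      refine (hτ z (supV h hz) m).2 ?_
      by_cases hmi : m = i
      · rw [hmi]; exact h2
      · rw [h1 m hmi]; rfl
    · rw [key w hw h1 l hl]; rfl

theorem exists_md_res [Finite G] [Finite F] (spl : ∀ j, DD M j = ⊥) (hD : ∀ s ∈ S, ∀ d ∈ D, s * d = d * s)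
    (hk : 0 < k) (VQ : V ≤ o2 P) (cQ : ∀ x ∈ o2 P, ∀ v ∈ V, x * v = v * x) (hS : Syl S P) : ∃ z₀ f₀ : Fin k → F,
    MD (resK h spl hD) (S ⊓ centralizer (ZZ h : Set G)) (ZZ h) (blk M) (YY h) z₀ f₀ := by
  obtain ⟨z₀, f₀, h1, h2, h3⟩ := (cd_res h spl hD hk VQ cQ hS).exists_cn hk hS.2.1 (fun _ hs => nm_res h hs)
    (resK h spl hD).trans
  exact ⟨z₀, f₀, iSup_blk_norm h, h.SP', h1, h2, h3, fun i v => mem_blk_iff h spl, fun i v => Iff.rfl⟩

/-- **The coordinates of a block.** -/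
theorem exists_corA [Finite G] [Finite F] (spl : ∀ j, DD M j = ⊥) (hD : ∀ s ∈ S, ∀ d ∈ D, s * d = d * s)
    (hk : 0 < k) (VQ : V ≤ o2 P) (cQ : ∀ x ∈ o2 P, ∀ v ∈ V, x * v = v * x) (hS : Syl S P) (j : Fin k) :
    ∃ e : G → F × F, CorA F S (blk M j) (YY h j) e ∧ ∀ a b c d : F, a * d - b * c = 1 →
      ∃ A : Matrix.SpecialLinearGroup (Fin 2) F, ∀ g : G,
        (∀ w ∈ blk M j, M.e (g * w * g⁻¹) j = ap A (M.e w j)) →
          Act (blk M j) e g fun p => (a * p.1 + b * p.2, c * p.1 + d * p.2) := by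
  obtain ⟨z₀, f₀, hm⟩ := exists_md_res h spl hD hk VQ cQ hS
  refine ⟨MD.co (resK h spl hD) z₀ f₀ j, ⟨fun v hv w hw => hm.co_mul (hm.WV hv) (hm.WV hw),
    fun v hv w hw => hm.co_inj hv hw, hm.co_surj j, fun v => hm.co_Z, fun t ht hZ => hm.act ht hZ⟩, ?_⟩
  intro a b c d hd
  obtain ⟨A, hA⟩ := FourF.dl_ap' (hm.hz j) (hm.hf j) (Cfsg.Agent.Lib.SL2Mat.mk a b c d hd)
  refine ⟨A, fun g hg w hw => ?_⟩
  have h4 := hA (M.e w j)
  rw [← hg w hw] at h4
  have h5 := congrFun h4 0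
  have h6 := congrFun h4 1
  rw [FourF.dl_zero', ap_zero', mk_00, mk_01] at h5
  rw [FourF.dl_one', ap_one', mk_10, mk_11] at h6
  ext
  · rw [MD.co_fst]; exact h5
  · rw [MD.co_snd]; exact h6

end res

end Cfsg.Agent.Omega.OM.SwapV.Q
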