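import Cfsg.Agent.Omega.OM.SWQ.CaseTwoEnd
import Cfsg.Agent.Omega.OM.SwapV.Core

/-!
# (Om) for `q ≥ 4` over an abstract `V` (any level, several orbits, different `q i ≥ 4`): the frame

* `PairV B V ZJ X T F` : the pairs `(T, F)` of STEP 0;
* `BMV K B X` : the minimal parabolics `Y` over a 2-group `T ≥ B` with `K ≰ O₂(Y)`, `[Ω₁Z(T), Y] ≠ 1` lie in `X`;
* `Cor F S B L W Z i e` : coordinates `e` on `W i`: an element of `S` which normalises `Z i` acts as `(s x + l s y, s y)`,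
  `B` induces all `(x + l y, y)`, `L i` induces `SL₂(F)`, centralising the `W j` (modulo `B`);
* `Gr S K B V ZJ L W Z C A q` : the ground frame.
-/

set_option autoImplicit false
set_option linter.unusedSectionVars false

namespace Cfsg.Agent.Omega.OM.SwapV.Q

open Subgroup Cfsg Cfsg.Agent.ZN.ChoiceBase Cfsg.Agent.ZN.ChoiceSit
open Cfsg.Agent.ZN (jj zj bau zc zl o2)
open Cfsg.Agent.MinSimple.MinParabolic (IsMinPar)
open Cfsg.Agent.MinSimple.VModule (oddGen oddGen_le)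
open Cfsg.Agent.Omega.OM.LevD (LB K0)
open Cfsg.Agent.Omega.OM.WeakCl (WC)
open Cfsg.Agent.Omega.OM.FourF (Act)
open Cfsg.Agent.Omega.OM.Swap.Fam (Fm)

universe u

variable {G : Type u} [Group G]

/-- The pairs `(T, F)` of STEP 0. -/
structure PairV (B V ZJ X T F : Subgroup G) : Prop where
  syl : Syl T F
  BT : B ≤ T
  nM : ¬ F ≤ X
  min : ∀ K : Subgroup G, T ≤ K → K < F → K ≤ X
  VO : V ≤ o2 F
  fix : ZJ ⊓ centralizer (o2 F : Set G) ≤ centralizer (F : Set G)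

/-- Minimal parabolics over `T ≥ B` which move `Ω₁Z(T)` lie in `X`. -/
def BMV (K B X : Subgroup G) : Prop :=
  ∀ T Y : Subgroup G, Syl T Y → B ≤ T → IsMinPar T Y → Y ⊓ centralizer (o2 Y : Set G) ≤ o2 Y → ¬ K ≤ o2 Y →
    ¬ Y ≤ centralizer (zc T : Set G) → Y ≤ X

/-- Coordinates on the block `W i`. -/
structure Cor {ι : Type} (F : Type) [Field F] (S B : Subgroup G) (L W Z : ι → Subgroup G) (i : ι) (e : G → F × F) :
    Prop where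
  mul : ∀ v ∈ W i, ∀ w ∈ W i, e (v * w) = e v + e w
  inj : ∀ v ∈ W i, ∀ w ∈ W i, e v = e w → v = w
  surj : ∀ p, ∃ v ∈ W i, e v = p
  memZ : ∀ v, v ∈ Z i ↔ v ∈ W i ∧ (e v).2 = 0
  act : ∀ t ∈ S, cj t (Z i) = Z i → ∃ (s : F ≃+* F) (l : F), Act (W i) e t (fun p => (s p.1 + l * s p.2, s p.2))
  full : ∀ l, ∃ b ∈ B, Act (W i) e b (fun p => (p.1 + l * p.2, p.2))
  sl : ∀ a b c d : F, a * d - b * c = 1 → ∃ g ∈ L i, g ∈ normalizer (W i : Set G) ∧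
    Act (W i) e g (fun p => (a * p.1 + b * p.2, c * p.1 + d * p.2)) ∧ ∀ j, j ≠ i → ∀ w ∈ W j, g * w = w * g

/-- The ground frame over an abstract `V`. -/
structure Gr {ι : Type} [Finite G] (S : Sylow 2 G) (K B V ZJ : Subgroup G) (L W Z C A : ι → Subgroup G) (q : ι → ℕ) :
    Prop where
  lb : LB S K B ZJ
  wc : WC B
  char2 : IsCharacteristicTwoType G
  VB : V ≤ B
  el : IsElementaryAbelian 2 V
  ZJV : ZJ ≤ V
  WV : ∀ i, W i ≤ V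
  ZW : ∀ i, Z i ≤ W i
  Zle : ∀ i, Z i ≤ ZJ
  cardZ : ∀ i, Nat.card (Z i) = q i
  cardW : ∀ i, Nat.card (W i) = q i * q i
  dir : ∀ i, W i ⊓ C i = ⊥
  C0 : ∀ x ∈ V, (∀ i, x ∈ C i) → x = 1
  WjC : ∀ i j, i ≠ j → W j ≤ C i
  sup : ZJ ≤ ⨆ i, Z i
  BL : ∀ i, B ≤ L i
  LC : ∀ i, ∀ l ∈ L i, ∀ z ∈ ZJ, z ∈ C i → l * z = z * l
  AB : ∀ i, A i ≤ B
  AC : ∀ i, ∀ a ∈ A i, ∀ c ∈ C i, a * c = c * a
  root : ∀ i, ∀ v ∈ W i, v ∉ Z i → ∀ z ∈ Z i, ∃ a ∈ A i, a * v * a⁻¹ * v⁻¹ = z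
  conjZ : ∀ (r : Set ι), ∀ x ∈ ⨆ i ∈ r, W i, ∃ g ∈ ⨆ i ∈ r, L i, g * x * g⁻¹ ∈ ⨆ i ∈ r, Z i
  norm : ∀ g ∈ normalizer (B : Set G), cj g V = V ∧ ∀ i, ∃ j, cj g (Z i) = Z j
  perm : ∀ s ∈ (S : Subgroup G), ∀ i j, cj s (Z i) = Z j → cj s (W i) = W j ∧ cj s (C i) = C j
  low : V ≤ o2 (centralizer (zc (S : Subgroup G) : Set G))
  noff : ∀ T : Subgroup G, IsPGroup 2 T → B ≤ T → ∀ f : G, cj f V ≤ T → V ≤ cj f T → ∀ x ∈ V, ∀ y ∈ V,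
    x * (f * y * f⁻¹) = f * y * f⁻¹ * x
  fixPt : ∀ T Y : Subgroup G, SwapV.Quiet K B T Y → ZJ ⊓ zc (o2 Y) ≤ centralizer (oddGen Y : Set G)
  fam : ∀ X T F : Subgroup G, PairV B V ZJ X T F → centralizer (ZJ : Set G) ≤ X → T ≤ X →
    normalizer (ZJ : Set G) ≤ X → ∃ 𝓐 : Set (Subgroup G),
      (∀ Λ : Subgroup G, IsElementaryAbelian 2 Λ → Λ ≤ F → F ≤ normalizer (Λ : Set G) →
        Λ ≤ NoFF.Basic.V V F → Fm F Λ 𝓐) ∧
      (∃ E ∈ 𝓐, E ≤ T ∧ ¬ E ≤ o2 F) ∧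
      ∀ E ∈ 𝓐, E ≤ T → E ≤ B ∧ ∀ i, (∀ a ∈ E, ∀ x ∈ W i, a * x = x * a) ∨
        Z i ≤ closure {y | ∃ x ∈ W i, ∃ a ∈ E, y = x * (a * x * a⁻¹)}
  co : ∀ i, ∃ (F : Type) (_ : Field F) (_ : Finite F) (_ : CharP F 2), Nat.card F = q i ∧
    ∃ e : G → F × F, Cor F (S : Subgroup G) B L W Z i e

/-- the indices fixed by `T` -/
abbrev Phi {ι : Type} (Z : ι → Subgroup G) (T : Subgroup G) : Set ι := SwapL.Phi Z T

end Cfsg.Agent.Omega.OM.SwapV.Q
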