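import Cfsg.Agent.Omega.OM.SwapV.Q.CaseOne
import Cfsg.Agent.Omega.OM.SwapV.Q.CaseTwo
import Cfsg.Agent.Omega.OM.SwapV.Q.CaseFour

/-!
# (Om) for `q ≥ 4` over an abstract `V`

`Gr.le_of_char2` : every subgroup of characteristic 2 over `B` is contained in every `X ≥ C_G(Z_J), L_i, N_G(B)`
with `BMV K B X`.
-/

set_option autoImplicit false
set_option linter.unusedSectionVars false

namespace Cfsg.Agent.Omega.OM.SwapV.Q

open Subgroup Cfsg Cfsg.Agent.ZN.ChoiceBase Cfsg.Agent.ZN.ChoiceSit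
open Cfsg.Agent.ZN (jj zj bau zc zl o2)

universe u

variable {G : Type u} [Group G] [Finite G]

variable {ι : Type} [Finite ι] {S : Sylow 2 G} {K B V ZJ : Subgroup G} {L W Z C A : ι → Subgroup G} {q : ι → ℕ}

/-- **(Om), `q ≥ 4`.** -/
theorem Gr.le_of_char2 (h : Gr S K B V ZJ L W Z C A q) (hne : Nonempty ι) (hq : ∀ i, 4 ≤ q i)
    (h4 : ∀ i j, q i = 4 → q j = 4) {X H : Subgroup G} (hBM : BMV K B X) (hL : ∀ i, L i ≤ X)
    (hD : centralizer (ZJ : Set G) ≤ X) (hN : normalizer (B : Set G) ≤ X)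
    (hB : B ≤ H) (hc : H ⊓ centralizer (o2 H : Set G) ≤ o2 H) : H ≤ X := by
  by_contra hM
  obtain ⟨T, F, s⟩ := exists_sel h (fun i => by have := hq i; omega) hne hBM hD hN hB hc hM
  have hall := phi_univ h hq s hL hD hN
  by_cases h0 : ∃ i, q i = 4
  · obtain ⟨i, hi⟩ := h0
    exact caseFour h s hL hD hN hall fun j => h4 i j hi
  · push Not at h0
    have h1 := caseTwo h hq s hL hD hN hall
    have hp := s.pair
    have hO : o2 F ≤ T := o2_le_syl hp.syl
    apply hp.nM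
    have h2 : ZJ ≤ centralizer (F : Set G) := by
      intro z hz
      refine hp.fix ⟨hz, centralizer_le (by exact_mod_cast hO) ?_⟩
      exact (iSup_le fun i => h1 i (h0 i)) (h.sup hz)
    exact (le_centralizer_iff.1 h2).trans hD

end Cfsg.Agent.Omega.OM.SwapV.Q
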