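import Cfsg.Agent.Omega.OM.SwapV.Q.Lev
import Cfsg.Agent.Omega.OM.SwapV.Q.Main
import Cfsg.Agent.Omega.OM.Lev.Low.LowMain
import Cfsg.Agent.Omega.OM.SwapV.LowZ
import Cfsg.Agent.Omega.OM.Lev.LowBlk
import Cfsg.Agent.Omega.OM.Lev.UniPlus

/-!
# (Om) for `q > 2` over an abstract `V`, stage `n ≥ 0`: low blocks, `K0`, the nonlocality statement

* `lowQ` : `q > 2`: a minimal parabolic `Y` over `T ≥ B` which moves `Ω₁Z(T)` has `lev S n ≤ O₂(Y)`;
* `LnQ.K0_le` : `K0 ≤ ⟨C_G(Z_J ∩ C i) : i⟩` (all FF-blocks over `B`);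
* `LnQ.fam'` ; `LnQ.nonLoc` : if all `C_G(Z_J ∩ C i)` normalise a 2-group `≠ 1` then `M = N_G(O)`, `O = O₂(K0) ≠ 1`,
  contains `N_G(B)`, all minimal parabolics over `T ≥ B` which move `Ω₁Z(T)`, and (`Main2`) all subgroups of
  characteristic 2 over `B`.
-/

set_option autoImplicit false
set_option linter.unusedSectionVars false

namespace Cfsg.Agent.Omega.OM.SwapV.Q

open Subgroup Cfsg Cfsg.Agent.ZN.ChoiceBase Cfsg.Agent.ZN.ChoiceSit
open Cfsg.Agent.ZN (jj zj bau zc zl o2)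
open Cfsg.Agent.MinSimple.MinParabolic (IsMinPar)
open Cfsg.Agent.Omega.NO3S.Level (lev Lev lev_isLev)
open Cfsg.Agent.Omega.OM.LevD (LB K0 Fam)
open Cfsg.Agent.Omega.OM.LevB (FBlk)
open Cfsg.Agent.Omega.OM.Lev.Uni (FrL)
open Cfsg.Agent.Omega.OM.SwapL (ZL BL lb wc)

universe u

/-- The conclusion of (Om) for the frame `Gr`. -/
def Main2 : Prop :=
  ∀ (G : Type u) [Group G] [Finite G] (ι : Type) [Finite ι] (S : Sylow 2 G) (K B V ZJ : Subgroup G)
    (L W Z C A : ι → Subgroup G) (q : ι → ℕ), Nonempty ι → Gr S K B V ZJ L W Z C A q → (∀ i, 4 ≤ q i) →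
      (∀ i j, q i = 4 → q j = 4) → ∀ X H : Subgroup G, BMV K B X → (∀ i, L i ≤ X) →
        centralizer (ZJ : Set G) ≤ X → normalizer (B : Set G) ≤ X → B ≤ H →
          H ⊓ centralizer (o2 H : Set G) ≤ o2 H → H ≤ X

variable {G : Type u} [Group G] [Finite G]

section line

variable {ι : Type} [Finite ι] {S : Sylow 2 G} {V Q : Subgroup G} {n : ℕ} {L W Z C A : ι → Subgroup G} {q : ℕ}

/-- **(LL), `q > 2`.** -/
theorem lowQ (h : FrL (BL (S : Subgroup G) n) Q V (zc (lev (S : Subgroup G) n)) (ZL (S : Subgroup G) n) L W Z C A q)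
    (hq : 2 < q) {T Y : Subgroup G} (hT : Syl T Y)
    (hB : BL (S : Subgroup G) n ≤ T) (hP : IsMinPar T Y) (hc : Y ⊓ centralizer (o2 Y : Set G) ≤ o2 Y)
    (hZ : ¬ Y ≤ centralizer (zc T : Set G)) : lev (S : Subgroup G) n ≤ o2 Y := by
  by_contra hn
  obtain ⟨j, hj, hlow, hnj⟩ := Lev.Low.exists_stg (S : Subgroup G) hn
  have hBj : LevB.BL (S : Subgroup G) j ≤ T := (Lev.Low.BL_mono (S : Subgroup G) (by omega : j ≤ n + 1)).trans hB
  obtain ⟨Λ, _, N, c, hy, l, hl⟩ := Lev.Low.exists_ybj S hT hBj hP hc hlow hnj hZ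
  have h1 := Lev.Low.no_low h hq hy (LowZ.qv h hT.2.1 hB hj) hB l
  exact hl ((Lev.Low.zc_T_le S hT.2.1 hB).trans h1)

/-- the members of `K0` -/
theorem LnQ.fblk (h : LnQ S V Q n L W Z C A q) (i : ι) : FBlk (BL (S : Subgroup G) n) (L i) (W i) where
  fb := ⟨_, _, h.fr.blk i⟩
  blk := (h.fr.blk i).toBlock (h.fr.cardZ i) (lb S n).Bp (lb S n).weakNormal

theorem LnQ.W_all (h : LnQ S V Q n L W Z C A q) : ZL (S : Subgroup G) n ≤ ⨆ i, W i :=
  (Lev.Low.zj_le h.fr fun i => ((h.fr.blk i).ZV.trans (le_iSup W i)))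

theorem LnQ.fam' (h : LnQ S V Q n L W Z C A q) :
    Fam (BL (S : Subgroup G) n) (ZL (S : Subgroup G) n) (FBlk (BL (S : Subgroup G) n)) :=
  LevB.fam ((LnQ.W_all h).trans (iSup_le fun i => le_iSup
    (fun i : {x : Subgroup G × Subgroup G // FBlk (BL (S : Subgroup G) n) x.1 x.2} => i.1.2) ⟨(L i, W i), h.fblk i⟩))

/-- **`K0 ≤ ⟨C_G(Z_J ∩ C i) : i⟩`** (every FF-block over `B` has its module in `Ω₁Z(lev S n)`, and UNI+). -/
theorem LnQ.K0_le [Nonempty ι] (h : LnQ S V Q n L W Z C A q) : K0 (ZL (S : Subgroup G) n) (FBlk (BL (S : Subgroup G) n)) ≤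
    ⨆ i, centralizer ((ZL (S : Subgroup G) n ⊓ C i : Subgroup G) : Set G) := by
  refine sup_le ?_ (iSup_le ?_)
  · obtain ⟨i⟩ := ‹Nonempty ι›
    refine le_trans (centralizer_le ?_) (le_iSup (fun i => centralizer ((ZL (S : Subgroup G) n ⊓ C i : Subgroup G) : Set G)) i)
    exact_mod_cast (inf_le_left : ZL (S : Subgroup G) n ⊓ C i ≤ _)
  · rintro ⟨⟨L', V'⟩, ⟨Z', q', hF⟩, hb⟩
    have eqB : BL (S : Subgroup G) n =
      (S : Subgroup G) ⊓ centralizer (zc (lev (S : Subgroup G) (n + 1)) : Set G) := rfl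
    have hX := Lev.LowBlk.V_le S eqB h.fr hF hb.irr
    have hp : ∀ g ∈ normalizer (BL (S : Subgroup G) n : Set G), ∀ j, ∃ k, cj g (Z j) = Z k :=
      fun g hg j => (h.gr.norm g hg).2 j
    obtain ⟨-, i, -, -, -, h1, -⟩ := Lev.UniPlus.uniPlusX h.fr (lb S n).Bp (wc S n) hp hF hX
    refine le_trans (fun l hl => ?_)
      (le_iSup (fun i => centralizer ((ZL (S : Subgroup G) n ⊓ C i : Subgroup G) : Set G)) i)
    exact mem_centralizer_iff.2 fun z hz => ((h1 z hz.1).1 hz.2 l hl).symm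

/-- **(Om)**: if `⟨C_G(Z_J), all FF-blocks over B⟩` normalises a nontrivial 2-group, then `M = N_G(O₂(K0))` contains
`N_G(B)`, all minimal parabolics over `T ≥ B` which move `Ω₁Z(T)`, and every subgroup of characteristic 2 over `B`. -/
theorem LnQ.nonLocK [Nonempty ι] (hm : Main2.{u}) (h : LnQ S V Q n L W Z C A q) (hq : 4 ≤ q) {R : Subgroup G}
    (hR : IsPGroup 2 R) (hR1 : R ≠ ⊥)
    (hY : K0 (ZL (S : Subgroup G) n) (FBlk (BL (S : Subgroup G) n)) ≤ normalizer (R : Set G)) :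
    ∃ O : Subgroup G, IsPGroup 2 O ∧ O ≠ ⊥ ∧ O ≤ BL (S : Subgroup G) n ∧
      centralizer (ZL (S : Subgroup G) n : Set G) ≤ normalizer (O : Set G) ∧ (∀ i, L i ≤ normalizer (O : Set G)) ∧
      normalizer (BL (S : Subgroup G) n : Set G) ≤ normalizer (O : Set G) ∧
      (∀ T Y : Subgroup G, Syl T Y → BL (S : Subgroup G) n ≤ T → IsMinPar T Y →
        Y ⊓ centralizer (o2 Y : Set G) ≤ o2 Y → ¬ Y ≤ centralizer (zc T : Set G) → Y ≤ normalizer (O : Set G)) ∧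
      ∀ H : Subgroup G, BL (S : Subgroup G) n ≤ H → H ⊓ centralizer (o2 H : Set G) ≤ o2 H →
        H ≤ normalizer (O : Set G) := by
  obtain ⟨ho, hoB, hle⟩ := h.fam'.dich (lb S n) hR hR1 hY
  set O : Subgroup G := o2 (K0 (ZL (S : Subgroup G) n) (FBlk (BL (S : Subgroup G) n))) with hO
  have hK : K0 (ZL (S : Subgroup G) n) (FBlk (BL (S : Subgroup G) n)) ≤ normalizer (O : Set G) :=
    le_sup_left.trans hle
  have hN : normalizer (BL (S : Subgroup G) n : Set G) ≤ normalizer (O : Set G) := le_sup_right.trans hle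
  have hLM : ∀ i, L i ≤ normalizer (O : Set G) := fun i => (LevD.blk_le_K0 (h.fblk i)).trans hK
  have hDM := LevD.cent_le_K0.trans hK
  have hZM : normalizer (ZL (S : Subgroup G) n : Set G) ≤ normalizer (O : Set G) :=
    (lb S n).norm_zj_le.trans (sup_le hDM hN)
  have key : ∀ T Y : Subgroup G, Syl T Y → BL (S : Subgroup G) n ≤ T → IsMinPar T Y →
      Y ⊓ centralizer (o2 Y : Set G) ≤ o2 Y → ¬ Y ≤ centralizer (zc T : Set G) → Y ≤ normalizer (O : Set G) := by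
    intro T Y hT hB hY hc hZ
    by_cases hn : lev (S : Subgroup G) (n + 1) ≤ o2 Y
    · exact ((le_normalizer_o2 Y).trans ((lb S n).nrm _ (isPGroup_o2 Y) hn)).trans hZM
    · exact (LevB.blkGen S hT hB hY hc (lowQ h.fr (by omega) hT hB hY hc hZ) hn hZ).trans
        (sup_le hK (((lb S n).two_le hT.2.1 hB).trans hN))
  refine ⟨O, isPGroup_o2 _, ho, hoB, hDM, hLM, hN, key, fun H hB hc => ?_⟩
  exact hm G ι S _ _ V _ L W Z C A (fun _ => q) ‹_› h.gr (fun _ => hq) (fun _ _ h => h) _ H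
    (fun T Y hT hB hY hc _ hZ => key T Y hT hB hY hc hZ) hLM hDM hN hB hc

/-- **(Om)**, for the groups `C_G(Z_J ∩ C i)`. -/
theorem LnQ.nonLoc [Nonempty ι] (hm : Main2.{u}) (h : LnQ S V Q n L W Z C A q) (hq : 4 ≤ q) {R : Subgroup G}
    (hR : IsPGroup 2 R) (hR1 : R ≠ ⊥)
    (hY : ∀ i, centralizer ((ZL (S : Subgroup G) n ⊓ C i : Subgroup G) : Set G) ≤ normalizer (R : Set G)) :
    ∃ O : Subgroup G, IsPGroup 2 O ∧ O ≠ ⊥ ∧ O ≤ BL (S : Subgroup G) n ∧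
      centralizer (ZL (S : Subgroup G) n : Set G) ≤ normalizer (O : Set G) ∧ (∀ i, L i ≤ normalizer (O : Set G)) ∧
      normalizer (BL (S : Subgroup G) n : Set G) ≤ normalizer (O : Set G) ∧
      (∀ T Y : Subgroup G, Syl T Y → BL (S : Subgroup G) n ≤ T → IsMinPar T Y →
        Y ⊓ centralizer (o2 Y : Set G) ≤ o2 Y → ¬ Y ≤ centralizer (zc T : Set G) → Y ≤ normalizer (O : Set G)) ∧
      ∀ H : Subgroup G, BL (S : Subgroup G) n ≤ H → H ⊓ centralizer (o2 H : Set G) ≤ o2 H →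
        H ≤ normalizer (O : Set G) :=
  h.nonLocK hm hq hR hR1 (h.K0_le.trans (iSup_le hY))

end line

/-- 461's theorem -/
theorem main2 : Main2.{u} := fun _ _ _ _ _ _ _ _ _ _ _ _ _ _ _ _ hne h hq h4 X H hBM hL hD hN hB hc =>
  h.le_of_char2 hne hq h4 hBM hL hD hN hB hc

end Cfsg.Agent.Omega.OM.SwapV.Q
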