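import Cfsg.Agent.Omega.OM.SwapV.Q.QF
import Cfsg.Agent.Omega.OM.SwapV.Q.NegK
import Cfsg.Agent.Omega.OM.SwapV.Q.Lev
import Cfsg.Agent.Omega.OM.SwapV.Q.Main

/-!
# (Om) for `q ≥ 4` over an abstract `V`, stage `-1`: the weak form and uniqueness of the blocks for `q ≥ 8`

* `NegQ.qf`, `LnQ.qf` : the frame-free frame `QF` at the stages `-1` and `n ≥ 0`;
* `NegQ.fam0`, `NegQ.nonLocK` : if `⟨C_G(Z_J), all FF-blocks over B⟩` normalises a 2-group `≠ 1` then `M = N_G(O)`,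
  `O = O₂(K0) ≠ 1`, contains `N_G(B)`, all `L i` and all subgroups of characteristic 2 over `B`;
* `NegQ.K0_le8` : `K0 ≤ ⟨C_G(Z_J), L i : i⟩` (`q ≥ 8`).
-/

set_option autoImplicit false
set_option linter.unusedSectionVars false

namespace Cfsg.Agent.Omega.OM.SwapV.Q

open Subgroup Cfsg Cfsg.Agent.ZN.ChoiceBase Cfsg.Agent.ZN.ChoiceSit
open Cfsg.Agent.ZN (jj zj bau zc zl o2)
open Cfsg.Agent.MinSimple.MinParabolic (IsMinPar)
open Cfsg.Agent.Omega.OM.LevD (LB)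
open Cfsg.Agent.Omega.OM.Uni (Fr FB)
open Cfsg.Agent.Omega.OM.SwapL (ZL BL lb wc norm_lev)

universe u

variable {G : Type u} [Group G] [Finite G] {ι : Type} [Finite ι] {S : Sylow 2 G} {V Q : Subgroup G} {n : ℕ}
  {L W Z C A : ι → Subgroup G} {q : ℕ}

/-- **The frame `QF` at stage `-1`.** -/
theorem NegQ.qf (h : NegQ S V Q L W Z C A q) :
    QF (S : Subgroup G) (bau (S : Subgroup G)) V (zj (S : Subgroup G)) L W Z C q where
  B2 := (LB.neg S).Bp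
  BS := bau_le _
  wc := UniPlus.wc_bau S
  syl := fun R hR hR2 hBR => (LB.neg S).syl.2.2 R hR hR2 hBR
  sq := (LB.neg S).sq
  Bc := (LB.neg S).Bc
  zcB := h.fr.zcB
  Vc := fun v hv w hw => h.fr.Vc hv hw
  WV := h.fr.WV
  CV := h.fr.CV
  ZJV := h.fr.ZJV
  dir := h.fr.dir
  WjC := h.fr.WjC
  blk := h.fr.blk
  nb := fun i => ⟨h.fr.blk i, h.fr.cardZ i⟩
  cardZ := h.fr.cardZ
  Zle := h.fr.Z_le
  split := fun i z hz => by
    obtain ⟨w, hw, c, hc, hcJ, e⟩ := h.fr.split_ZJ i hz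
    exact ⟨w, hw, c, hcJ, hc, e⟩
  LC := h.fr.LC
  root := fun i w hw hwZ z hz => by
    obtain ⟨a, ha, e⟩ := NegMod.root h.fr hw hwZ hz
    exact ⟨a, h.fr.AB i ha, e⟩
  norm := fun g hg i => (h.norm hg).2 i
  co := h.co

/-- **The frame `QF` at stage `n ≥ 0`.** -/
theorem LnQ.qf (h : LnQ S V Q n L W Z C A q) :
    QF (S : Subgroup G) (BL (S : Subgroup G) n) V (ZL (S : Subgroup G) n) L W Z C q where
  B2 := (lb S n).Bp
  BS := (lb S n).BS
  wc := wc S n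
  syl := fun R hR hR2 hBR => (lb S n).syl.2.2 R hR hR2 hBR
  sq := (lb S n).sq
  Bc := (lb S n).Bc
  zcB := h.fr.zcB
  Vc := fun v hv w hw => h.fr.Vc hv hw
  WV := h.fr.WV
  CV := h.fr.CV
  ZJV := h.fr.ZJV
  dir := h.fr.dir
  WjC := h.fr.WjC
  blk := h.fr.blk
  nb := fun i => ⟨h.fr.blk i, h.fr.cardZ i⟩
  cardZ := h.fr.cardZ
  Zle := h.fr.Z_le
  split := fun i z hz => by
    obtain ⟨w, hw, c, hc, hcJ, e⟩ := h.fr.split_ZJ i hz
    exact ⟨w, hw, c, hcJ, hc, e⟩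
  LC := h.fr.LC
  root := fun i w hw hwZ z hz => by
    obtain ⟨a, ha, e⟩ := SWQ.ModQ.root h.fr hw hwZ hz
    exact ⟨a, h.fr.AB i ha, e⟩
  norm := fun g hg i => (h.fr.norm_of hg (NO3S.Level.normalizer_le_zc _ (norm_lev S (by omega) hg))).2 i
  co := h.co

/-- the members of `K0`, stage `-1` -/
theorem NegQ.fblk (h : NegQ S V Q L W Z C A q) (i : ι) : BlkGen.FBlk (S : Subgroup G) (L i) (W i) where
  fb := ⟨_, _, h.fr.blk i⟩
  blk := (h.fr.blk i).toBlock (h.fr.cardZ i) (LB.neg S).Bp (LB.neg S).weakNormal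

theorem NegQ.fam0 (h : NegQ S V Q L W Z C A q) : Dich.Fam S (BlkGen.FBlk (S : Subgroup G)) :=
  BlkGen.fam (((NegMod.ZJ_le_sup h.fr).trans (iSup_mono fun i => (h.fr.blk i).ZV)).trans (iSup_le fun i => le_iSup
    (fun i : {x : Subgroup G × Subgroup G // BlkGen.FBlk (S : Subgroup G) x.1 x.2} => i.1.2) ⟨(L i, W i), h.fblk i⟩))

/-- **(Om), stage `-1`**: if `⟨C_G(Z_J), all FF-blocks over B⟩` normalises a nontrivial 2-group, then
`M = N_G(O₂(K0))` contains `N_G(B)`, all `L i` and every subgroup of characteristic 2 over `B`. -/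
theorem NegQ.nonLocK [Nonempty ι] (h : NegQ S V Q L W Z C A q) (hq : 4 ≤ q) {R : Subgroup G}
    (hR : IsPGroup 2 R) (hR1 : R ≠ ⊥)
    (hY : Dich.K0 (S : Subgroup G) (BlkGen.FBlk (S : Subgroup G)) ≤ normalizer (R : Set G)) :
    ∃ O : Subgroup G, IsPGroup 2 O ∧ O ≠ ⊥ ∧ O ≤ bau (S : Subgroup G) ∧
      centralizer (zj (S : Subgroup G) : Set G) ≤ normalizer (O : Set G) ∧ (∀ i, L i ≤ normalizer (O : Set G)) ∧
      normalizer (bau (S : Subgroup G) : Set G) ≤ normalizer (O : Set G) ∧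
      ∀ H : Subgroup G, bau (S : Subgroup G) ≤ H → H ⊓ centralizer (o2 H : Set G) ≤ o2 H →
        H ≤ normalizer (O : Set G) := by
  obtain ⟨ho, hoB, hle⟩ := h.fam0.dich hR hR1 hY
  set O : Subgroup G := o2 (Dich.K0 (S : Subgroup G) (BlkGen.FBlk (S : Subgroup G))) with hO
  have hK : Dich.K0 (S : Subgroup G) (BlkGen.FBlk (S : Subgroup G)) ≤ normalizer (O : Set G) :=
    le_sup_left.trans hle
  have hN : normalizer (bau (S : Subgroup G) : Set G) ≤ normalizer (O : Set G) := le_sup_right.trans hle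
  have hLM : ∀ i, L i ≤ normalizer (O : Set G) := fun i => (Dich.blk_le_K0 (h.fblk i)).trans hK
  have hDM : centralizer (zj (S : Subgroup G) : Set G) ≤ normalizer (O : Set G) := Dich.cent_le_K0.trans hK
  refine ⟨O, isPGroup_o2 _, ho, hoB, hDM, hLM, hN, fun H hB hc => ?_⟩
  refine h.gr.le_of_char2 ‹_› (fun _ => hq) (fun _ _ e => e) ?_ hLM hDM hN hB hc
  intro T Y hT hBT hP hcY hn hZ
  have hJ : ¬ jj T ≤ o2 Y := by
    rw [LemmaK.Main.jj_eq S hT.2.1 hBT]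
    exact hn
  obtain ⟨L', V', h1, -, h3⟩ := Var.exists_blk FF.Glob.ffthm S hT hBT hP hcY hJ hZ
  exact h3.trans (sup_le ((Dich.blk_le_K0 h1).trans hK) ((Dich.two_le S hT.2.1 hBT).trans hN))

/-- **`K0 ≤ ⟨C_G(Z_J), L i : i⟩`**, stage `-1` (`q ≥ 8`). -/
theorem NegQ.K0_le8 [Nonempty ι] (h : NegQ S V Q L W Z C A q) (hq : 8 ≤ q) (h2 : ∀ i : ι, ∃ j, j ≠ i) :
    Dich.K0 (S : Subgroup G) (BlkGen.FBlk (S : Subgroup G)) ≤
      centralizer (zj (S : Subgroup G) : Set G) ⊔ ⨆ i, L i := by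
  refine sup_le le_sup_left (iSup_le ?_)
  rintro ⟨⟨L', V'⟩, ⟨Z', q', hF⟩, hb⟩
  obtain ⟨i, rfl, -, hN, hV, -, h1⟩ := (h.bfr (by omega) h2).blk hF
  obtain ⟨-, hle⟩ := h.qf.uniTwo8 hq hN hV fun z hz hzC => (h1 z hz).1 hzC
  refine hle.trans (sup_le ((le_iSup L i).trans le_sup_right) ((centralizer_le ?_).trans le_sup_left))
  exact_mod_cast (le_sup_right : zj (S : Subgroup G) ≤ W i ⊔ zj (S : Subgroup G))

end Cfsg.Agent.Omega.OM.SwapV.Q
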