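import Cfsg.Agent.Omega.OM.SwapV.Q.UniK
import Cfsg.Agent.Omega.OM.Lev.Low.FrFour

/-!
# `K_0 = ⟨C_G(Z_J), the FF-blocks over B which normalise K₀⟩` over any weakly closed level `K₀`, any `q`

* `FQ`, `KQ` : the family of FF-blocks `L' ≤ N_G(K₀)` over `B = BK S K₀`, and `K_0`;
* `fam`, `norm_KQ`, `L_le` : `N_G(B)` normalises `KQ`, `L i ≤ KQ`;
* `KQ_le` : `KQ ≤ X` if all `C_G(Z_J ∩ C i) ≤ X`; `KQ_le8` : `KQ ≤ X` if `C_G(Z_J), L i ≤ X` and `q ≥ 8`;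
* `par_le` : a minimal parabolic `Y` over `T ≥ B` with `K₀ ≤ O₂(Y)`, `[Ω₁Z(T), Y] ≠ 1` lies in `⟨KQ, N_G(B)⟩`;
* `dich` : if `KQ` normalises a 2-group `≠ 1` then `O = O₂(KQ) ≠ 1`, `O ≤ B`, `⟨KQ, N_G(B)⟩ ≤ N_G(O)`.
-/

set_option autoImplicit false
set_option linter.unusedSectionVars false

namespace Cfsg.Agent.Omega.OM.SwapV.Q.UniK

open Subgroup Cfsg Cfsg.Agent.ZN.ChoiceBase Cfsg.Agent.ZN.ChoiceSit
open Cfsg.Agent.ZN (jj zj bau zc zl o2)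
open Cfsg.Agent.MinSimple.MinParabolic (IsMinPar)
open Cfsg.Agent.Omega.NO3S.Level (nxt Lev)
open Cfsg.Agent.Omega.OM.LevB (FBlk)
open Cfsg.Agent.Omega.OM.Lev.Uni (FrL)
open Cfsg.Agent.Omega.OM.LevD (Fam K0)
open Cfsg.Agent.Omega.OM.SwapK (WL BK ZK)

universe u

variable {G : Type u} [Group G]

/-- The FF-blocks over `B = BK S K₀` which normalise `K₀`. -/
def FQ (S K₀ L' V' : Subgroup G) : Prop := FBlk (BK S K₀) L' V' ∧ L' ≤ normalizer (K₀ : Set G)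

/-- `K_0 = ⟨C_G(Z_J), FQ⟩` -/
noncomputable def KQ (S K₀ : Subgroup G) : Subgroup G := K0 (ZK S K₀) (FQ S K₀)

variable [Finite G] {ι : Type} {S : Sylow 2 G} {K₀ V Q : Subgroup G} {L W Z C A : ι → Subgroup G} {q : ℕ}

theorem cent_le_KQ : centralizer (ZK (S : Subgroup G) K₀ : Set G) ≤ KQ (S : Subgroup G) K₀ := LevD.cent_le_K0

theorem blk_le_KQ {L' V' : Subgroup G} (h : FBlk (BK (S : Subgroup G) K₀) L' V')
    (hn : L' ≤ normalizer (K₀ : Set G)) : L' ≤ KQ (S : Subgroup G) K₀ := LevD.blk_le_K0 (𝓑 := FQ _ _) ⟨h, hn⟩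

/-- the frame's blocks are in the family -/
theorem fblk (wl : WL S K₀) (fr : FrL (BK (S : Subgroup G) K₀) Q V (zc K₀) (ZK (S : Subgroup G) K₀) L W Z C A q)
    (hn : ∀ i, L i ≤ normalizer (K₀ : Set G)) (i : ι) : FQ (S : Subgroup G) K₀ (L i) (W i) :=
  ⟨⟨⟨_, _, fr.blk i⟩, (fr.blk i).toBlock (fr.cardZ i) wl.lb.Bp wl.lb.weakNormal⟩, hn i⟩

theorem L_le (wl : WL S K₀) (fr : FrL (BK (S : Subgroup G) K₀) Q V (zc K₀) (ZK (S : Subgroup G) K₀) L W Z C A q)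
    (hn : ∀ i, L i ≤ normalizer (K₀ : Set G)) (i : ι) : L i ≤ KQ (S : Subgroup G) K₀ :=
  LevD.blk_le_K0 (fblk wl fr hn i)

/-- **`FQ` is a family of blocks.** -/
theorem fam [Finite ι] (wl : WL S K₀)
    (fr : FrL (BK (S : Subgroup G) K₀) Q V (zc K₀) (ZK (S : Subgroup G) K₀) L W Z C A q)
    (hn : ∀ i, L i ≤ normalizer (K₀ : Set G)) :
    Fam (BK (S : Subgroup G) K₀) (ZK (S : Subgroup G) K₀) (FQ (S : Subgroup G) K₀) where
  blk := fun _ _ h => h.1.blk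
  conj := fun n hn' L' V' h => ⟨h.1.conj hn', by
    have h1 := mem_normalizer_iff_cj.1 (wl.norm_B hn')
    have h2 := cj_mono n h.2
    rw [cj_normalizer] at h2
    rwa [h1] at h2⟩
  zj_le := (Cfsg.Agent.Omega.OM.Lev.Low.zj_le fr fun i => ((fr.blk i).ZV.trans (le_iSup W i))).trans (iSup_le fun i => le_iSup
    (fun i : {x : Subgroup G × Subgroup G // FQ (S : Subgroup G) K₀ x.1 x.2} => i.1.2) ⟨(L i, W i), fblk wl fr hn i⟩)

/-- **`N_G(B)` normalises `KQ`.** -/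
theorem norm_KQ [Finite ι] (wl : WL S K₀)
    (fr : FrL (BK (S : Subgroup G) K₀) Q V (zc K₀) (ZK (S : Subgroup G) K₀) L W Z C A q)
    (hn : ∀ i, L i ≤ normalizer (K₀ : Set G)) :
    normalizer (BK (S : Subgroup G) K₀ : Set G) ≤ normalizer (KQ (S : Subgroup G) K₀ : Set G) :=
  LevD.norm_K0 wl.lb (fam wl fr hn)

/-- **`KQ ≤ X` if all `C_G(Z_J ∩ C i) ≤ X`.** -/
theorem KQ_le [Finite ι] [Nonempty ι] (wl : WL S K₀)
    (fr : FrL (BK (S : Subgroup G) K₀) Q V (zc K₀) (ZK (S : Subgroup G) K₀) L W Z C A q) {X : Subgroup G}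
    (hX : ∀ i, centralizer ((ZK (S : Subgroup G) K₀ ⊓ C i : Subgroup G) : Set G) ≤ X) :
    KQ (S : Subgroup G) K₀ ≤ X := by
  refine sup_le ?_ (iSup_le ?_)
  · refine le_trans (centralizer_le ?_) (hX (Classical.arbitrary ι))
    exact_mod_cast (inf_le_left : ZK (S : Subgroup G) K₀ ⊓ C _ ≤ _)
  · rintro ⟨⟨L', V'⟩, h, hn⟩
    obtain ⟨i, -, -, h1, -⟩ := uniK wl fr h hn
    exact le_trans (fun l hl => mem_centralizer_iff.2 fun z hz => ((h1 z hz.1).1 hz.2 l hl).symm) (hX i)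

/-- **`KQ ≤ X` if `C_G(Z_J), L i ≤ X`, `q ≥ 8`.** -/
theorem KQ_le8 [Finite ι] (wl : WL S K₀)
    (fr : FrL (BK (S : Subgroup G) K₀) Q V (zc K₀) (ZK (S : Subgroup G) K₀) L W Z C A q)
    (co : ∀ i, ∃ (F : Type) (_ : Field F) (_ : Finite F) (_ : CharP F 2), Nat.card F = q ∧
      ∃ e : G → F × F, Cor F (S : Subgroup G) (BK (S : Subgroup G) K₀) L W Z i e) (hq : 8 ≤ q) {X : Subgroup G}
    (hD : centralizer (ZK (S : Subgroup G) K₀ : Set G) ≤ X) (hL : ∀ i, L i ≤ X) : KQ (S : Subgroup G) K₀ ≤ X := by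
  refine sup_le hD (iSup_le ?_)
  rintro ⟨⟨L', V'⟩, h, hn⟩
  obtain ⟨i, h3, h4, h5, -⟩ := uniK wl fr h hn
  obtain ⟨-, h6⟩ := (qfK wl fr co).uniTwo8 hq h3 h4 fun z hz hzC => (h5 z hz).1 hzC
  refine h6.trans (sup_le (hL i) ((centralizer_le ?_).trans hD))
  exact_mod_cast (le_sup_right : ZK (S : Subgroup G) K₀ ≤ W i ⊔ ZK (S : Subgroup G) K₀)

/-- **Minimal parabolics of stage `≥ K₀` which move `Ω₁Z(T)` lie in `⟨KQ, N_G(B)⟩`.** -/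
theorem par_le (wl : WL S K₀) {T Y : Subgroup G} (hT : Syl T Y) (hB : BK (S : Subgroup G) K₀ ≤ T)
    (hP : IsMinPar T Y) (hc : Y ⊓ centralizer (o2 Y : Set G) ≤ o2 Y) (hK : K₀ ≤ o2 Y)
    (hZ : ¬ Y ≤ centralizer (zc T : Set G)) :
    Y ≤ KQ (S : Subgroup G) K₀ ⊔ normalizer (BK (S : Subgroup G) K₀ : Set G) := by
  by_cases hn : nxt (S : Subgroup G) K₀ ≤ o2 Y
  · refine ((le_normalizer_o2 Y).trans (wl.lb.nrm _ (isPGroup_o2 Y) hn)).trans ?_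
    exact wl.lb.norm_zj_le.trans (sup_le_sup_right cent_le_KQ _)
  · obtain ⟨L', V', h1, h2, h3⟩ := wl.exists_fblk hT hB hP hc hK hn hZ
    have h4 : L' ≤ normalizer (K₀ : Set G) :=
      h1.trans ((le_normalizer_o2 Y).trans (wl.norm_T (isPGroup_o2 Y) hK))
    exact h3.trans (sup_le ((wl.lb.two_le hT.2.1 hB).trans le_sup_right) ((blk_le_KQ h2 h4).trans le_sup_left))

/-- **If `KQ` normalises a 2-group `≠ 1` then `O₂(KQ) ≠ 1` lies in `B`, and `⟨KQ, N_G(B)⟩` normalises it.** -/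
theorem dich [Finite ι] (wl : WL S K₀)
    (fr : FrL (BK (S : Subgroup G) K₀) Q V (zc K₀) (ZK (S : Subgroup G) K₀) L W Z C A q)
    (hn : ∀ i, L i ≤ normalizer (K₀ : Set G)) {R : Subgroup G} (hR : IsPGroup 2 R) (hR1 : R ≠ ⊥)
    (hK : KQ (S : Subgroup G) K₀ ≤ normalizer (R : Set G)) :
    o2 (KQ (S : Subgroup G) K₀) ≠ ⊥ ∧ o2 (KQ (S : Subgroup G) K₀) ≤ BK (S : Subgroup G) K₀ ∧
      KQ (S : Subgroup G) K₀ ⊔ normalizer (BK (S : Subgroup G) K₀ : Set G) ≤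
        normalizer (o2 (KQ (S : Subgroup G) K₀) : Set G) :=
  (fam wl fr hn).dich wl.lb hR hR1 hK

/-- `O₂(X) ≤ O₂(KQ)` for `X ≥ KQ` with `O₂(X) ≤ C_G(Z_J)` -/
theorem o2_le_KQ {X : Subgroup G} (hX : KQ (S : Subgroup G) K₀ ≤ X)
    (hc : o2 X ≤ centralizer (ZK (S : Subgroup G) K₀ : Set G)) : o2 X ≤ o2 (KQ (S : Subgroup G) K₀) :=
  le_o2 (isPGroup_o2 X) (hc.trans cent_le_KQ) (hX.trans (le_normalizer_o2 X))

end Cfsg.Agent.Omega.OM.SwapV.Q.UniK
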