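import Cfsg.Agent.Omega.OM.SwapV.LowZ
import Cfsg.Agent.Omega.OM.Lev.Low.LowMain

/-!
# (LL) for `q > 2` over `FrL` only (box R, stage `n ≥ 0`)

* `low_four` : `T ≥ B = BL S n` a Sylow 2-subgroup of the minimal parabolic `Y` of characteristic 2, `Y` moves `Ω₁(Z(T))`:
  `lev S n ≤ O₂(Y)`;
* `blk_four` : if moreover `lev S (n+1) ≰ O₂(Y)`: `Y ≤ ⟨L', T⟩` for an FF-block `L' ≤ Y` over `B`.
-/

set_option autoImplicit false

namespace Cfsg.Agent.Omega.OM.SwapV.LowFour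

open Subgroup Cfsg Cfsg.Agent.ZN.ChoiceBase Cfsg.Agent.ZN.ChoiceSit
open Cfsg.Agent.ZN (jj zj bau zc zl o2)
open Cfsg.Agent.MinSimple.MinParabolic (IsMinPar)
open Cfsg.Agent.Omega.NO3S.Level (lev nxt Lev lev_isLev)
open Cfsg.Agent.Omega.OM.Lev.Uni (FrL)
open Cfsg.Agent.Omega.OM.SwapL (ZL BL lb)

universe u

variable {G : Type u} [Group G] [Finite G] {ι : Type} [Finite ι] {S : Sylow 2 G} {V Q : Subgroup G} {n : ℕ}
  {L W Z C A : ι → Subgroup G} {q : ℕ}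

/-- **(LL), `q > 2`, over `FrL`.** -/
theorem low_four
    (h : FrL (BL (S : Subgroup G) n) Q V (zc (lev (S : Subgroup G) n)) (ZL (S : Subgroup G) n) L W Z C A q)
    (hq : 2 < q) {T Y : Subgroup G} (hT : Syl T Y) (hB : BL (S : Subgroup G) n ≤ T) (hP : IsMinPar T Y)
    (hc : Y ⊓ centralizer (o2 Y : Set G) ≤ o2 Y) (hZ : ¬ Y ≤ centralizer (zc T : Set G)) :
    lev (S : Subgroup G) n ≤ o2 Y := by
  by_contra hn
  obtain ⟨j, hj, hlow, hnj⟩ := Lev.Low.exists_stg (S : Subgroup G) hn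
  have hBj : LevB.BL (S : Subgroup G) j ≤ T := (Lev.Low.BL_mono (S : Subgroup G) (by omega : j ≤ n + 1)).trans hB
  obtain ⟨Λ, _, N, c, hy, l, hl⟩ := Lev.Low.exists_ybj S hT hBj hP hc hlow hnj hZ
  have h1 := Lev.Low.no_low h hq hy (LowZ.qv h hT.2.1 hB hj) hB l
  exact hl ((Lev.Low.zc_T_le S hT.2.1 hB).trans h1)

/-- **The block of `Y`, `q > 2`.** -/
theorem blk_four
    (h : FrL (BL (S : Subgroup G) n) Q V (zc (lev (S : Subgroup G) n)) (ZL (S : Subgroup G) n) L W Z C A q)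
    (hq : 2 < q) {T Y : Subgroup G} (hT : Syl T Y) (hB : BL (S : Subgroup G) n ≤ T) (hP : IsMinPar T Y)
    (hc : Y ⊓ centralizer (o2 Y : Set G) ≤ o2 Y) (hn1 : ¬ lev (S : Subgroup G) (n + 1) ≤ o2 Y)
    (hZ : ¬ Y ≤ centralizer (zc T : Set G)) :
    ∃ L' V' : Subgroup G, L' ≤ Y ∧ LevB.FBlk (BL (S : Subgroup G) n) L' V' ∧ Y ≤ L' ⊔ T := by
  have hK := low_four h hq hT hB hP hc hZ
  obtain ⟨L', V', h1, hF, hsup⟩ := LevB.exists_fblk S hT hB hP hc hK hn1 hZ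
  exact ⟨L', V', h1, hF, hsup.trans (by rw [sup_comm])⟩

end Cfsg.Agent.Omega.OM.SwapV.LowFour
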