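import Cfsg.Agent.Omega.OM.SwapV.Q.Def

/-!
# (Om) for `q ≥ 4` over an abstract `V`: pairs, the choice of the pair

* `exists_pair`, `comm_of_pair`, `elab_V`, `PairV.minPar`, `pair_cj`;
* `Sel h X T F` : a pair with `T ≤ S` and `(|Phi(T)|, |C_{Z_J}(T)|)` lexicographically maximal; `exists_sel`.
-/

set_option autoImplicit false
set_option linter.unusedSectionVars false

namespace Cfsg.Agent.Omega.OM.SwapV.Q

open Subgroup Cfsg Cfsg.Agent.ZN.ChoiceBase Cfsg.Agent.ZN.ChoiceSit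
open Cfsg.Agent.ZN (jj zj bau zc zl o2)
open Cfsg.Agent.MinSimple.MinParabolic (IsMinPar)
open Cfsg.Agent.MinSimple.VModule (oddGen oddGen_le)
open Cfsg.Agent.Omega.OM.LevD (LB K0)
open Cfsg.Agent.Omega.OM.WeakCl (WC)
open Cfsg.Agent.Omega.OM.FourF (Act)
open Cfsg.Agent.Omega.OM.Swap.Fam (Fm)
open Cfsg.Agent.Omega.OM.SWQ (exists_fix)

universe u

variable {G : Type u} [Group G] [Finite G]

/-- **(F1)** a conjugate of `B` inside `X` is a conjugate by an element of `X`. -/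
theorem mem_of_cj_B_le {S : Sylow 2 G} {K B ZJ : Subgroup G} (hl : LB S K B ZJ) (hw : WC B) {X : Subgroup G}
    (hSX : (S : Subgroup G) ≤ X) (hN : normalizer (B : Set G) ≤ X) {g : G} (h : cj g B ≤ X) : g ∈ X := by
  have hS : Syl (S : Subgroup G) X := ⟨hSX, S.isPGroup', fun Q _ hQ hle => S.is_maximal' hQ hle⟩
  have h2 : IsPGroup 2 (cj g B) := isPGroup_cj g hl.Bp
  obtain ⟨T, hT, hle⟩ := exists_syl h2 h
  obtain ⟨m, hm, rfl⟩ := syl_conj hS hT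
  have h3 : cj (m⁻¹ * g) B ≤ (S : Subgroup G) := by
    have := cj_mono m⁻¹ hle
    rwa [cj_inv_cj, cj_cj] at this
  have h4 := hw _ S.isPGroup' hl.BS _ h3
  have h5 : m⁻¹ * g ∈ X := hN (mem_normalizer_iff_cj.2 h4)
  have h6 := mul_mem hm h5
  rwa [mul_inv_cancel_left] at h6

variable {ι : Type} [Finite ι] {S : Sylow 2 G} {K B V ZJ : Subgroup G} {L W Z C A : ι → Subgroup G} {q : ι → ℕ}

namespace Gr

variable (h : Gr S K B V ZJ L W Z C A q)
include h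

theorem norm_le : normalizer (B : Set G) ≤ normalizer (V : Set G) := fun g hg => by
  rw [mem_normalizer_iff_cj]
  exact (h.norm g hg).1

theorem Vc {v w : G} (hv : v ∈ V) (hw : w ∈ V) : v * w = w * v := SQ1.Bau.elem_comm h.el v hv w hw

theorem V2 {v : G} (hv : v ∈ V) : v * v = 1 := by
  rw [← pow_two]
  exact SQ1.Bau.elem_sq h.el v hv

theorem cB {b z : G} (hb : b ∈ B) (hz : z ∈ ZJ) : b * z = z * b := (mem_centralizer_iff.1 (h.lb.Bc hb) z hz).symm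

theorem S_norm : (S : Subgroup G) ≤ normalizer (B : Set G) := h.lb.two_le S.isPGroup' h.lb.BS

theorem Z_two (i : ι) : IsPGroup 2 (Z i) := h.lb.Bp.to_le ((h.Zle i).trans h.lb.ZB)

end Gr

/-- `V ≤ O₂(Y)` if `Y` centralises `Ω₁(Z(T))`, `B ≤ T ≤ Y`. -/
theorem V_le_o2 (h : Gr S K B V ZJ L W Z C A q) {T Y : Subgroup G} (hT : IsPGroup 2 T)
    (hB : B ≤ T) (hTY : T ≤ Y) (hY : Y ≤ centralizer (zc T : Set G)) : V ≤ o2 Y := by
  obtain ⟨S', hS'⟩ := hT.exists_le_sylow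
  obtain ⟨g, hg⟩ := MulAction.exists_smul_eq G S S'
  have hg2 : (S' : Subgroup G) = cj g (S : Subgroup G) := by
    rw [← hg, Sylow.coe_subgroup_smul]
    rfl
  have hgN : g ∈ normalizer (B : Set G) := by
    have h1 : cj g⁻¹ B ≤ (S : Subgroup G) := by
      have := cj_mono g⁻¹ ((hB.trans hS').trans hg2.le)
      rwa [cj_inv_cj] at this
    have h2 := h.wc _ S.isPGroup' h.lb.BS _ h1
    have h3 := inv_mem (mem_normalizer_iff_cj.2 h2)
    rwa [inv_inv] at h3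
  have h3 : zc (S' : Subgroup G) ≤ zc T := by
    intro z hz
    have h4 : z ∈ T := by
      rw [hg2, NO3S.Level.zc_cj] at hz
      have h5 : zc (S : Subgroup G) ≤ B := by
        intro y hy
        obtain ⟨h7, h8, h9⟩ := mem_zc.1 hy
        rw [h.lb.eqB]
        exact ⟨h7, mem_centralizer_iff.2 fun x hx => h9 x (h.lb.BS (h.lb.ZB hx))⟩
      have h6 := cj_mono g h5 hz
      rw [cj_eq_of_mem_normalizer hgN] at h6
      exact hB h6
    obtain ⟨h5, h6, h7⟩ := mem_zc.1 hz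
    exact mem_zc.2 ⟨h4, h6, fun y hy => h7 y (hS' hy)⟩
  have h4 : Y ≤ centralizer (zc (S' : Subgroup G) : Set G) := hY.trans (centralizer_le h3)
  have h5 : V ≤ o2 (centralizer (zc (S' : Subgroup G) : Set G)) := by
    have h6 := cj_mono g h.low
    rw [(h.norm g hgN).1, ← pCore_cj, cj_centralizer, ← LemmaK.Main.zc_cj, ← hg2] at h6
    exact h6
  have h6 : V ≤ o2 (centralizer (zc (S' : Subgroup G) : Set G)) ⊓ Y :=
    le_inf h5 ((h.VB.trans hB).trans hTY)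
  refine h6.trans (le_o2 ((isPGroup_o2 _).to_le inf_le_left) inf_le_right ?_)
  intro y hy
  rw [mem_normalizer_iff_cj, cj_inf, cj_eq_of_mem_normalizer (le_normalizer_o2 _ (h4 hy)),
    cj_eq_of_mem_normalizer (le_normalizer hy)]

/-- `LevB.genM` with the weak fixed point property. -/
theorem Gr.genM (h : Gr S K B V ZJ L W Z C A q) {M T H : Subgroup G} (hD : centralizer (ZJ : Set G) ≤ M)
    (hN : normalizer (B : Set G) ≤ M) (hT : Syl T H) (hBT : B ≤ T)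
    (hc : H ⊓ centralizer (o2 H : Set G) ≤ o2 H)
    (hblk : ∀ Y : Subgroup G, IsMinPar T Y → Y ≤ H → ¬ K ≤ o2 Y → ¬ Y ≤ centralizer (zc T : Set G) → Y ≤ M) :
    H ≤ (H ⊓ M) ⊔ ⨆ Y : {Y : Subgroup G // IsMinPar T Y ∧ Y ≤ H ∧ ¬ K ≤ o2 Y ∧
      Y ≤ centralizer (zc T : Set G) ∧ ¬ o2 Y ≤ B}, (Y : Subgroup G) := by
  have hB := h.lb
  have hZM : normalizer (ZJ : Set G) ≤ M := hB.norm_zj_le.trans (sup_le hD hN)
  have hTN : normalizer (T : Set G) ≤ M := (hB.nrm T hT.2.1 (hB.KB.trans hBT)).trans hZM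
  have hTM : T ≤ M := le_normalizer.trans hTN
  refine MinSimple.MinParabolic.le_of_forall hT.1 ?_ fun Y hY hYH => ?_
  · exact le_sup_of_le_left (inf_le_inf_left _ hTN)
  have hcase : Y ≤ M → Y ≤ (H ⊓ M) ⊔ ⨆ Y : {Y : Subgroup G // IsMinPar T Y ∧ Y ≤ H ∧ ¬ K ≤ o2 Y ∧
      Y ≤ centralizer (zc T : Set G) ∧ ¬ o2 Y ≤ B}, (Y : Subgroup G) :=
    fun h => le_sup_of_le_left (le_inf hYH h)
  have hTY : Syl T Y := ⟨hY.le, hT.2.1, fun Q hQ h2 hTQ => hT.2.2 Q (hQ.trans hYH) h2 hTQ⟩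
  by_cases h1 : K ≤ o2 Y
  · exact hcase ((le_normalizer_o2 Y).trans ((hB.nrm _ (isPGroup_o2 Y) h1).trans hZM))
  by_cases h2 : Y ≤ centralizer (zc T : Set G)
  · by_cases h3 : o2 Y ≤ B
    · apply hcase
      have h4 : o2 H ≤ o2 Y := by
        refine le_o2 (isPGroup_o2 H) ((o2_le_syl hT).trans hY.le) (hYH.trans (le_normalizer_o2 H))
      have hcY : Y ⊓ centralizer (o2 Y : Set G) ≤ o2 Y := by
        rintro x ⟨hx, hxc⟩
        exact h4 (hc ⟨hYH hx, centralizer_le (by exact_mod_cast h4) hxc⟩)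
      have h5 : ZJ ≤ zc (o2 Y) := by
        intro z hz
        have hzT : z ∈ T := hBT (hB.ZB hz)
        have hcz : ∀ y ∈ o2 Y, y * z = z * y := fun y hy =>
          (mem_centralizer_iff.1 (hB.Bc (h3 hy)) z hz).symm
        exact mem_zc.2 ⟨hcY ⟨hY.le hzT, mem_centralizer_iff.2 hcz⟩, hB.sq z hz, hcz⟩
      have h6 : ZJ ≤ centralizer (oddGen Y : Set G) :=
        (le_inf le_rfl h5).trans (h.fixPt T Y ⟨hTY, hBT, hY, hcY, h1, h2⟩)
      have h7 : MinSimple.VModule.oddGen Y ≤ M := (le_centralizer_iff.1 h6).trans hD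
      have h8 : MinSimple.VModule.oddGen Y ⊔ T = Y := Dich.oddGen_sup_syl hTY
      rw [← h8]
      exact sup_le h7 hTM
    · exact le_sup_of_le_right (le_iSup (fun Y : {Y : Subgroup G // IsMinPar T Y ∧ Y ≤ H ∧ ¬ K ≤ o2 Y ∧
        Y ≤ centralizer (zc T : Set G) ∧ ¬ o2 Y ≤ B} => (Y : Subgroup G))
        ⟨Y, hY, hYH, h1, h2, h3⟩)
  · exact hcase (hblk Y hY hYH h1 h2)

/-- **Existence of pairs.** -/
theorem exists_pair (h : Gr S K B V ZJ L W Z C A q) {X H : Subgroup G} (hBM : BMV K B X)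
    (hD : centralizer (ZJ : Set G) ≤ X) (hN : normalizer (B : Set G) ≤ X)
    (hB : B ≤ H) (hc : H ⊓ centralizer (o2 H : Set G) ≤ o2 H) (hM : ¬ H ≤ X) :
    ∃ T F : Subgroup G, PairV B V ZJ X T F ∧ F ≤ H := by
  have : Fact (Nat.Prime 2) := ⟨Nat.prime_two⟩
  obtain ⟨T₀, hT₀, hBT₀⟩ := exists_syl h.lb.Bp hB
  have hsylY : ∀ Y : Subgroup G, IsMinPar T₀ Y → Y ≤ H → Syl T₀ Y := fun Y hY hYH =>
    ⟨hY.le, hT₀.2.1, fun Q hQ h2 hTQ => hT₀.2.2 Q (hQ.trans hYH) h2 hTQ⟩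
  have hcY' : ∀ Y : Subgroup G, IsMinPar T₀ Y → Y ≤ H → Y ⊓ centralizer (o2 Y : Set G) ≤ o2 Y := by
    intro Y hY hYH
    have h4 : o2 H ≤ o2 Y :=
      le_o2 (isPGroup_o2 H) ((o2_le_syl hT₀).trans hY.le) (hYH.trans (le_normalizer_o2 H))
    rintro x ⟨hx, hxc⟩
    exact h4 (hc ⟨hYH hx, centralizer_le (by exact_mod_cast h4) hxc⟩)
  have hg := h.genM hD hN hT₀ hBT₀ hc
    fun Y hY hYH => hBM T₀ Y (hsylY Y hY hYH) hBT₀ hY (hcY' Y hY hYH)
  -- the minimal parabolic `Y`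
  obtain ⟨Y, ⟨hYm, hYH, hYK, hYc, -⟩, hYM⟩ : ∃ Y : Subgroup G, (IsMinPar T₀ Y ∧ Y ≤ H ∧
      ¬ K ≤ o2 Y ∧ Y ≤ centralizer (zc T₀ : Set G) ∧ ¬ o2 Y ≤ B) ∧ ¬ Y ≤ X := by
    by_contra hcon
    push Not at hcon
    exact hM (hg.trans (sup_le inf_le_right (iSup_le fun Y => hcon Y.1 Y.2)))
  have hTM : T₀ ≤ X := (h.lb.two_le hT₀.2.1 hBT₀).trans hN
  have hTY : Syl T₀ Y := hsylY Y hYm hYH
  have hcY := hcY' Y hYm hYH
  have hVY : V ≤ o2 Y := V_le_o2 h hT₀.2.1 hBT₀ hYm.le hYc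
  -- `Y₁ = O²(Y) O₂(Y) B`
  set Y₁ : Subgroup G := oddGen Y ⊔ (o2 Y ⊔ B) with hY₁
  have hY₁Y : Y₁ ≤ Y := sup_le (oddGen_le Y) (sup_le (o2_le Y) (hBT₀.trans hYm.le))
  have hOB : IsPGroup 2 (o2 Y ⊔ B : Subgroup G) :=
    hT₀.2.1.to_le (sup_le (o2_le_syl hTY) hBT₀)
  obtain ⟨T, hT, hOT⟩ := exists_syl hOB (le_sup_right : o2 Y ⊔ B ≤ Y₁)
  have hY₁M : ¬ Y₁ ≤ X := by
    intro hle
    apply hYM
    rw [← Dich.oddGen_sup_syl hTY]
    exact sup_le (le_sup_left.trans hle) hTM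
  obtain ⟨F, hF⟩ := (Set.toFinite {K : Subgroup G | T ≤ K ∧ K ≤ Y₁ ∧ ¬ K ≤ X}).exists_minimal
    ⟨Y₁, hT.1, le_rfl, hY₁M⟩
  obtain ⟨hTF, hFY₁, hFM⟩ := hF.prop
  have hFY : F ≤ Y := hFY₁.trans hY₁Y
  have hsyl : Syl T F := ⟨hTF, hT.2.1, fun Q hQ h2 hle => hT.2.2 Q (hQ.trans hFY₁) h2 hle⟩
  have hBT : B ≤ T := le_sup_right.trans hOT
  have hOF : o2 Y ≤ o2 F :=
    le_o2 (isPGroup_o2 Y) ((le_sup_left.trans hOT).trans hTF) (hFY.trans (le_normalizer_o2 Y))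
  refine ⟨T, F, ⟨hsyl, hBT, hFM, fun K' hTK hKF => ?_, hVY.trans hOF, ?_⟩, hFY.trans hYH⟩
  · by_contra hKM
    exact hKF.not_ge (hF.le_of_le ⟨hTK, hKF.le.trans hFY₁, hKM⟩ hKF.le)
  · rintro z ⟨hz, hzc⟩
    have hzB : z ∈ B := h.lb.ZB hz
    have hzO : ∀ y ∈ o2 Y, y * z = z * y := fun y hy => mem_centralizer_iff.1 hzc y (hOF hy)
    have hz1 : z ∈ zc (o2 Y) := by
      refine mem_zc.2 ⟨hcY ⟨hYm.le (hBT₀ hzB), mem_centralizer_iff.2 hzO⟩, h.lb.sq z hz, hzO⟩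
    have hz2 : z ∈ centralizer (oddGen Y : Set G) :=
      h.fixPt T₀ Y ⟨hTY, hBT₀, hYm, hcY, hYK, hYc⟩ ⟨hz, hz1⟩
    have hle : Y₁ ≤ centralizer ({z} : Set G) := by
      refine sup_le (fun y hy => ?_) (sup_le (fun y hy => ?_) fun y hy => ?_) <;>
        rw [mem_centralizer_singleton_iff]
      · exact mem_centralizer_iff.1 hz2 y hy
      · exact hzO y hy
      · exact (mem_centralizer_iff.1 (h.lb.Bc hy) z hz).symm
    rw [mem_centralizer_iff]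
    intro y hy
    exact mem_centralizer_singleton_iff.1 (hle (hFY₁ hy))

/-- `V` commutes with its conjugates under `F`. -/
theorem comm_of_pair (h : Gr S K B V ZJ L W Z C A q) {X T F : Subgroup G} (hp : PairV B V ZJ X T F) {f : G}
    (hf : f ∈ F) {x y : G} (hx : x ∈ V) (hy : y ∈ V) : x * (f * y * f⁻¹) = f * y * f⁻¹ * x := by
  have hV := hp.VO
  have hO : o2 F ≤ T := o2_le_syl hp.syl
  have hcO : cj f (o2 F) = o2 F := cj_eq_of_mem_normalizer (le_normalizer_o2 F hf)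
  have hcO' : cj f⁻¹ (o2 F) = o2 F := cj_eq_of_mem_normalizer (le_normalizer_o2 F (inv_mem hf))
  refine h.noff T hp.syl.2.1 hp.BT f ?_ ?_ x hx y hy
  · have := cj_mono f hV
    rw [hcO] at this
    exact this.trans hO
  · have h1 := cj_mono f hO
    rw [hcO] at h1
    exact hV.trans h1

/-- `⟨V^F⟩` is elementary abelian. -/
theorem elab_V (h : Gr S K B V ZJ L W Z C A q) {X T F : Subgroup G} (hp : PairV B V ZJ X T F) :
    IsElementaryAbelian 2 (NoFF.Basic.V V F) := by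
  have h1 := Swap.elab_iSup (W := fun f : F => cj (f : G) V) (fun f f' x hx y hy => ?_) fun f x hx => ?_
  · exact Swap.elab_of h1.1 h1.2
  · rw [mem_cj] at hx hy
    have h2 := comm_of_pair h hp (mul_mem (inv_mem f.2) f'.2) hx hy
    have e1 : (f : G)⁻¹ * f' * ((f' : G)⁻¹ * y * f') * ((f : G)⁻¹ * f')⁻¹ = (f : G)⁻¹ * y * f := by group
    rw [e1] at h2
    have h3 := congrArg (fun t => (f : G) * t * (f : G)⁻¹) h2
    have e2 : (f : G) * ((f : G)⁻¹ * x * f * ((f : G)⁻¹ * y * f)) * (f : G)⁻¹ = x * y := by group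
    have e3 : (f : G) * ((f : G)⁻¹ * y * f * ((f : G)⁻¹ * x * f)) * (f : G)⁻¹ = y * x := by group
    exact e2.symm.trans (h3.trans e3)
  · rw [mem_cj] at hx
    have h2 := h.V2 hx
    have e : x * x = f * ((f : G)⁻¹ * x * f * ((f : G)⁻¹ * x * f)) * (f : G)⁻¹ := by group
    rw [e, h2]; group

theorem PairV.nK (hl : LB S K B ZJ) {X T F : Subgroup G} (hp : PairV B V ZJ X T F)
    (hZM : normalizer (ZJ : Set G) ≤ X) : ¬ K ≤ o2 F := fun hle =>
  hp.nM ((le_normalizer_o2 F).trans ((hl.nrm _ (isPGroup_o2 F) hle).trans hZM))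

theorem PairV.minPar (hl : LB S K B ZJ) {X T F : Subgroup G} (hp : PairV B V ZJ X T F)
    (hZM : normalizer (ZJ : Set G) ≤ X) : IsMinPar T F := by
  refine ⟨hp.syl.1, fun hle => ?_, F ⊓ X, lt_of_le_of_ne inf_le_left fun e => hp.nM (inf_eq_left.1 e),
    fun K hTK hKF => le_inf hKF.le (hp.min K hTK hKF)⟩
  apply hp.nK hl hZM
  exact (hl.KB.trans hp.BT).trans (le_o2 hp.syl.2.1 hp.syl.1 hle)

/-- Pairs are invariant under conjugation by `N_G(B)`. -/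
theorem pair_cj (h : Gr S K B V ZJ L W Z C A q) {X T F : Subgroup G}
    (hN : normalizer (B : Set G) ≤ X) (hp : PairV B V ZJ X T F) {m : G}
    (hm : m ∈ normalizer (B : Set G)) : PairV B V ZJ X (cj m T) (cj m F) := by
  have hX : cj m X = X := cj_eq_of_mem_normalizer (le_normalizer (hN hm))
  have hX' : cj m⁻¹ X = X := cj_eq_of_mem_normalizer (le_normalizer (inv_mem (hN hm)))
  have hJ := cj_eq_of_mem_normalizer (h.lb.norm_B_le hm)
  refine ⟨ZN.CaseTwo.syl_cj m hp.syl, ?_, fun hle => hp.nM ?_, fun K h1 h2 => ?_, ?_, ?_⟩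
  · have := cj_mono m hp.BT
    rwa [cj_eq_of_mem_normalizer hm] at this
  · have := cj_mono m⁻¹ hle
    rwa [cj_inv_cj, hX'] at this
  · have h3 := hp.min (cj m⁻¹ K) (by
      have := cj_mono m⁻¹ h1
      rwa [cj_inv_cj] at this) (by
      have h4 := cj_mono m⁻¹ h2.le
      rw [cj_inv_cj] at h4
      refine lt_of_le_of_ne h4 fun e => h2.ne ?_
      rw [← e, cj_cj_inv])
    have h4 := cj_mono m h3
    rwa [cj_cj_inv, hX] at h4
  · have := cj_mono m hp.VO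
    rwa [(h.norm m hm).1, ← o2_cj] at this
  · have := cj_mono m hp.fix
    rwa [cj_inf, hJ, cj_centralizer, cj_centralizer, ← o2_cj] at this

namespace Gr

variable (h : Gr S K B V ZJ L W Z C A q)
include h

theorem Z_ne_bot (hq : ∀ i, 1 < q i) (i : ι) : Z i ≠ ⊥ := by
  intro e
  have h1 := h.cardZ i
  rw [e, Subgroup.card_bot] at h1
  have := hq i
  omega

theorem exists_ne (hq : ∀ i, 1 < q i) (i : ι) : ∃ z ∈ Z i, z ≠ 1 := by
  by_contra hcon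
  push Not at hcon
  exact h.Z_ne_bot hq i ((eq_bot_iff_forall _).2 hcon)

theorem Z_inj {i j : ι} {z : G} (hi : z ∈ Z i) (hj : z ∈ Z j) (h1 : z ≠ 1) : i = j := by
  by_contra hne
  apply h1
  have h2 : z ∈ W i ⊓ C i := mem_inf.2 ⟨h.ZW i hi, h.WjC i j hne (h.ZW j hj)⟩
  rwa [h.dir i, mem_bot] at h2

theorem Z_inj' (hq : ∀ i, 1 < q i) {i j : ι} (e : Z i = Z j) : i = j := by
  obtain ⟨z, hz, h1⟩ := h.exists_ne hq i
  exact h.Z_inj hz (e ▸ hz) h1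

/-- an element of `N_G(B)` which centralises an element `≠ 1` of `Z i` normalises `Z i`. -/
theorem fix_of_comm {g : G} (hg : g ∈ normalizer (B : Set G)) {i : ι} {z : G}
    (hz : z ∈ Z i) (h1 : z ≠ 1) (hc : g * z = z * g) : cj g (Z i) = Z i := by
  obtain ⟨j, hj⟩ := (h.norm g hg).2 i
  have h2 : z ∈ Z j := by
    rw [← hj]
    refine ⟨z, hz, ?_⟩
    show g * z * g⁻¹ = z
    rw [hc]; group
  rw [hj, ← h.Z_inj hz h2 h1]

end Gr

/-- The chosen pair. -/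
structure Sel (S : Sylow 2 G) (B V ZJ : Subgroup G) (Z : ι → Subgroup G) (X T F : Subgroup G) : Prop where
  pair : PairV B V ZJ X T F
  TS : T ≤ (S : Subgroup G)
  cen1 : ∀ Y : Subgroup G, Y ≤ ZJ → (∀ i ∈ Phi Z T, ∃ z ∈ Z i, z ≠ 1 ∧ z ∈ Y) →
    (∃ j, j ∉ Phi Z T ∧ ∃ z ∈ Z j, z ≠ 1 ∧ z ∈ Y) → centralizer (Y : Set G) ≤ X
  cen2 : (∀ i, i ∈ Phi Z T) → ∀ Y : Subgroup G, Y ≤ ZJ →
    ZJ ⊓ centralizer (T : Set G) < Y → centralizer (Y : Set G) ≤ X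

theorem exists_sel (h : Gr S K B V ZJ L W Z C A q) (hq : ∀ i, 1 < q i) (hne : Nonempty ι) {X H : Subgroup G}
    (hBM : BMV K B X) (hD : centralizer (ZJ : Set G) ≤ X)
    (hN : normalizer (B : Set G) ≤ X)
    (hB : B ≤ H) (hc : H ⊓ centralizer (o2 H : Set G) ≤ o2 H) (hM : ¬ H ≤ X) :
    ∃ T F : Subgroup G, Sel S B V ZJ Z X T F := by
  classical
  have hJ2 : IsPGroup 2 ZJ := h.lb.Bp.to_le h.lb.ZB
  let μ : Subgroup G → ℕ := fun T =>
    (Phi Z T).ncard * (Nat.card ZJ + 1) + Nat.card ↥(ZJ ⊓ centralizer (T : Set G))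
  have hle : ∀ T : Subgroup G, Nat.card ↥(ZJ ⊓ centralizer (T : Set G)) ≤ Nat.card ZJ := fun T =>
    Subgroup.card_le_of_le inf_le_left
  let s : Set ℕ := {m | ∃ T F : Subgroup G, PairV B V ZJ X T F ∧ μ T = m}
  have hs1 : s.Nonempty := by
    obtain ⟨T, F, hp, -⟩ := exists_pair h hBM hD hN hB hc hM
    exact ⟨_, T, F, hp, rfl⟩
  have hs2 : s.Finite := by
    refine (Set.finite_Iic (Nat.card ι * (Nat.card ZJ + 1) + Nat.card ZJ)).subset ?_
    rintro m ⟨T, F, -, rfl⟩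
    rw [Set.mem_Iic]
    refine Nat.add_le_add (Nat.mul_le_mul_right _ ?_) (hle T)
    rw [← Set.ncard_univ]
    exact Set.ncard_le_ncard (Set.subset_univ _)
  obtain ⟨m₀, hm₀⟩ := hs2.exists_maximal hs1
  obtain ⟨T₀, F₀, hp₀, hμ₀⟩ := hm₀.prop
  have hmax : ∀ T F : Subgroup G, PairV B V ZJ X T F → μ T ≤ μ T₀ := by
    intro T F hp
    rw [hμ₀]
    by_contra hcon
    push Not at hcon
    exact absurd (hm₀.le_of_ge ⟨T, F, hp, rfl⟩ hcon.le) (by omega)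
  -- conjugate into `S`
  have hTN : ∀ T : Subgroup G, IsPGroup 2 T → B ≤ T →
      T ≤ normalizer (B : Set G) := fun T hT hB => h.lb.two_le hT hB
  have hsyl : Syl (S : Subgroup G) (normalizer (B : Set G)) :=
    ZN.CaseTwo.syl_of_sylow S (hTN _ S.isPGroup' h.lb.BS)
  obtain ⟨T₁, hT₁, hTT₁⟩ := exists_syl hp₀.syl.2.1 (hTN _ hp₀.syl.2.1 hp₀.BT)
  obtain ⟨m, hm, hmS⟩ := syl_conj hT₁ hsyl
  have hTS : cj m T₀ ≤ (S : Subgroup G) := by
    rw [← hmS]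
    exact cj_mono m hTT₁
  have hp := pair_cj h hN hp₀ hm
  have hμ : μ T₀ ≤ μ (cj m T₀) := by
    refine Nat.add_le_add (Nat.mul_le_mul_right _ ?_) ?_
    · choose σ hσ using (h.norm m hm).2
      refine Set.ncard_le_ncard_of_injOn σ ?_ ?_ (Set.toFinite _)
      · intro i hi t ht
        rw [mem_cj] at ht
        have h1 : cj (m⁻¹ * t * m) (Z i) = Z i := hi _ ht
        rw [← hσ i, cj_cj]
        conv_rhs => rw [← h1]
        rw [cj_cj]
        congr 1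
        group
      · intro i _ j _ e
        apply h.Z_inj' hq
        have h1 : cj m (Z i) = cj m (Z j) := by rw [hσ i, hσ j, e]
        rw [← cj_inv_cj m (Z i), h1, cj_inv_cj]
    · have h1 : ZJ ⊓ centralizer ((cj m T₀ : Subgroup G) : Set G) = cj m (ZJ ⊓ centralizer (T₀ : Set G)) := by
        rw [cj_inf, cj_centralizer, cj_eq_of_mem_normalizer (h.lb.norm_B_le hm)]
      rw [h1, card_cj]
  generalize cj m T₀ = T at hTS hp hμ
  generalize cj m F₀ = K' at hp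
  have hmax' : ∀ T' F' : Subgroup G, PairV B V ZJ X T' F' → μ T' ≤ μ T := fun T' F' h => (hmax T' F' h).trans hμ
  -- the pair of a centraliser
  have key : ∀ Y : Subgroup G, Y ≤ ZJ → (∃ z ∈ Y, z ≠ 1) → ¬ centralizer (Y : Set G) ≤ X →
      ∃ T' F' : Subgroup G, PairV B V ZJ X T' F' ∧ T' ≤ centralizer (Y : Set G) ∧
        ∀ i, (∃ z ∈ Z i, z ≠ 1 ∧ z ∈ Y) → i ∈ Phi Z T' := by
    intro Y hYJ hY1 hcon
    have hYne : Y ≠ ⊥ := by
      rintro rfl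
      obtain ⟨z, hz, h1⟩ := hY1
      exact h1 (mem_bot.1 hz)
    have hBY : B ≤ centralizer (Y : Set G) :=
      h.lb.Bc.trans (centralizer_le (by exact_mod_cast hYJ))
    obtain ⟨T', F', hp', hle'⟩ := exists_pair h hBM hD hN hBY
      (Swap.char2_cent h.char2 (hJ2.to_le hYJ) hYne) hcon
    refine ⟨T', F', hp', hp'.syl.1.trans hle', ?_⟩
    rintro i ⟨z, hz, h1, hzY⟩ t ht
    refine h.fix_of_comm (hTN T' hp'.syl.2.1 hp'.BT ht) hz h1 ?_
    exact (mem_centralizer_iff.1 (hle' (hp'.syl.1 ht)) z hzY).symm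
  refine ⟨T, K', ⟨hp, hTS, ?_, ?_⟩⟩
  · rintro Y hYJ hPhi ⟨j, hj, hjY⟩
    by_contra hcon
    obtain ⟨z, hz, h1, hzY⟩ := hjY
    obtain ⟨T', F', hp', -, hfix⟩ := key Y hYJ ⟨z, hzY, h1⟩ hcon
    have hsub : insert j (Phi Z T) ⊆ Phi Z T' := by
      rintro i (rfl | hi)
      · exact hfix _ ⟨z, hz, h1, hzY⟩
      · exact hfix i (hPhi i hi)
    have h2 : (Phi Z T).ncard + 1 ≤ (Phi Z T').ncard := by
      rw [← Set.ncard_insert_of_notMem hj (Set.toFinite _)]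
      exact Set.ncard_le_ncard hsub (Set.toFinite _)
    have h3 := hmax' T' F' hp'
    have h4 := Nat.mul_le_mul_right (Nat.card ZJ + 1) h2
    have h5 := hle T
    simp only [μ] at h3
    rw [add_mul, one_mul] at h4
    omega
  · intro hall Y hYJ hlt
    by_contra hcon
    have hne : ∀ i, ∃ z ∈ Z i, z ≠ 1 ∧ z ∈ Y := by
      intro i
      obtain ⟨z, hz, h1, hzT⟩ := exists_fix hp.syl.2.1 (h.Z_two i) (h.Z_ne_bot hq i) fun t ht =>
        mem_normalizer_iff_cj.2 (hall i t ht)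
      exact ⟨z, hz, h1, hlt.le ⟨h.Zle i hz, hzT⟩⟩
    have hY1 : ∃ z ∈ Y, z ≠ 1 := by
      obtain ⟨i⟩ := (inferInstance : Nonempty ι)
      obtain ⟨z, hz, h1, hzY⟩ := hne i
      exact ⟨z, hzY, h1⟩
    obtain ⟨T', F', hp', hT'Y, hfix⟩ := key Y hYJ hY1 hcon
    have h2 : (Phi Z T).ncard ≤ (Phi Z T').ncard :=
      Set.ncard_le_ncard (fun i _ => hfix i (hne i)) (Set.toFinite _)
    have h3 := hmax' T' F' hp'
    have h4 := Nat.mul_le_mul_right (Nat.card ZJ + 1) h2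
    have h5 : Nat.card ↥(ZJ ⊓ centralizer (T : Set G)) < Nat.card Y := by
      refine lt_of_le_of_ne (Subgroup.card_le_of_le hlt.le) fun e => ?_
      exact hlt.ne (Subgroup.eq_of_le_of_card_ge hlt.le e.ge)
    have h6 : Nat.card Y ≤ Nat.card ↥(ZJ ⊓ centralizer (T' : Set G)) :=
      Subgroup.card_le_of_le (le_inf hYJ (le_centralizer_iff.1 hT'Y))
    simp only [μ] at h3
    omega

end Cfsg.Agent.Omega.OM.SwapV.Q
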