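import Cfsg.Agent.Omega.OM.SwapV.Q.CjW
import Cfsg.Agent.Omega.OM.SwapV.Q.Def
import Cfsg.Agent.Omega.OM.Var.Spread

/-!
# Uniqueness of the blocks over `B` for `q ≥ 8`, frame-free

* `QF S B V ZJ L W Z C q` : what is needed of a frame (any stage, any level `(K, X)`);
* `QF.cj_W` : `x ∈ N_G(B)`, `Z_i^x = Z_i`, `x` centralises `Z_J ∩ C i` : `x` normalises `W i` (`q > 2`);
* `QF.V_eq` : an FF-block over `B` with `Z' = Z i`, `V' ≤ W i Z_J`, `Z_J ∩ C i ≤ C(L')` has `V' = W i` (`q > 2`);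
* `QF.uniTwo8` : then `L' ≤ L i ⊔ C_G(W i ⊔ Z_J)` (`q ≥ 8`).
-/

set_option autoImplicit false
set_option linter.unusedSectionVars false

namespace Cfsg.Agent.Omega.OM.SwapV.Q

open Subgroup Cfsg Cfsg.Agent.ZN.ChoiceBase Cfsg.Agent.ZN.ChoiceSit
open Cfsg.Agent.ZN (jj zj bau zc zl o2)
open Cfsg.Agent.Omega.OM.FourF (Act)
open Cfsg.Agent.Omega.OM.WeakCl (WC)
open Cfsg.Agent.Omega.OM.Uni (FB)
open Cfsg.Agent.Omega.OM.UniPlus (NB)
open Cfsg.Agent.Omega.NO3S.EMany.AltQ (Rt sup_eq exists_ne)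
open Cfsg.Agent.Omega.NO3S.EMany.FourDQ (trN)
open Cfsg.Agent.Omega.SQ1.Bau (mem_sup_comm)

universe u

variable {G : Type u} [Group G] [Finite G] {ι : Type}

/-- What is needed of a frame over `B`, `Z_J = Ω₁Z(B)`, `V`. -/
structure QF (S B V ZJ : Subgroup G) (L W Z C : ι → Subgroup G) (q : ℕ) : Prop where
  B2 : IsPGroup 2 B
  BS : B ≤ S
  wc : WC B
  syl : ∀ R : Subgroup G, R ≤ centralizer (ZJ : Set G) → IsPGroup 2 R → B ≤ R → R = B
  sq : ∀ z ∈ ZJ, z ^ 2 = 1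
  Bc : B ≤ centralizer (ZJ : Set G)
  zcB : zc B = ZJ
  Vc : ∀ v ∈ V, ∀ w ∈ V, v * w = w * v
  WV : ∀ i, W i ≤ V
  CV : ∀ i, C i ≤ V
  ZJV : ZJ ≤ V
  dir : ∀ i, W i ⊓ C i = ⊥
  WjC : ∀ i j, i ≠ j → W j ≤ C i
  blk : ∀ i, FB B (L i) (W i) (Z i) q
  nb : ∀ i, NB B (L i) (W i) (Z i) q
  cardZ : ∀ i, Nat.card (Z i) = q
  Zle : ∀ i, Z i ≤ ZJ
  split : ∀ i, ∀ z ∈ ZJ, ∃ w ∈ Z i, ∃ c ∈ ZJ, c ∈ C i ∧ z = w * c
  LC : ∀ i, ∀ l ∈ L i, ∀ z ∈ ZJ, z ∈ C i → l * z = z * l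
  root : ∀ i, ∀ w ∈ W i, w ∉ Z i → ∀ z ∈ Z i, ∃ b ∈ B, b * w * b⁻¹ * w⁻¹ = z
  norm : ∀ g ∈ normalizer (B : Set G), ∀ i, ∃ j, cj g (Z i) = Z j ∧ cj g (W i) ≤ W j ⊔ ZJ
  co : ∀ i, ∃ (F : Type) (_ : Field F) (_ : Finite F) (_ : CharP F 2), Nat.card F = q ∧
    ∃ e : G → F × F, Cor F S B L W Z i e

namespace QF

variable {S B V ZJ : Subgroup G} {L W Z C : ι → Subgroup G} {q : ℕ}

/-- `y ∈ N_G(B)`, a 2-element which centralises `Z_J`, is in `B` -/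
theorem mem_B (h : QF S B V ZJ L W Z C q) {y : G} (hy : y ∈ normalizer (B : Set G))
    (hz : ∀ z ∈ ZJ, y * z = z * y) (h2 : IsPGroup 2 (zpowers y)) : y ∈ B := by
  have h1 : IsPGroup 2 ↥(B ⊔ zpowers y) := h.B2.to_sup_of_normal_left' h2 (zpowers_le.2 hy)
  have h3 : B ⊔ zpowers y ≤ centralizer (ZJ : Set G) :=
    sup_le h.Bc (zpowers_le.2 (mem_centralizer_iff.2 fun z hz' => (hz z hz').symm))
  have h4 := h.syl _ h3 h1 le_sup_left
  rw [← h4]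
  exact mem_sup_right (mem_zpowers y)

section one

variable {F : Type} [Field F] {e : G → F × F}

/-- **One block of the frame.** -/
theorem bk (h : QF S B V ZJ L W Z C q) (i : ι) (hc : Cor F S B L W Z i e) :
    Bk B ZJ (L i) (W i) (Z i) (ZJ ⊓ C i) e where
  B2 := h.B2
  BL := (h.blk i).BL
  syl := (h.blk i).syl
  comm := fun v hv w hw => h.Vc _ (h.WV i hv) _ (h.WV i hw)
  WC := fun w hw c hc => h.Vc _ (h.WV i hw) _ (h.CV i hc.2)
  CC := fun c hc d hd => h.Vc _ (h.CV i hc.2) _ (h.CV i hd.2)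
  sqJ := h.sq
  dir := by
    rw [eq_bot_iff, ← h.dir i]
    exact inf_le_inf_left _ inf_le_right
  ZW := (h.blk i).ZV
  ZJeq := by
    apply le_antisymm
    · intro z hz
      obtain ⟨w, hw, c, hcJ, hc, rfl⟩ := h.split i z hz
      exact mul_mem (mem_sup_left hw) (mem_sup_right ⟨hcJ, hc⟩)
    · exact sup_le (h.Zle i) inf_le_left
  nW := (h.blk i).nV
  LC := fun l hl c hc => h.LC i l hl c hc.1 hc.2
  mem_B := fun y hy hz h2 => h.mem_B hy hz h2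
  mul := hc.mul
  inj := hc.inj
  surj := hc.surj
  memZ := hc.memZ
  bact := fun b hb => by
    have hbZ : ∀ z ∈ Z i, b * z * b⁻¹ = z := fun z hz => by rw [(h.blk i).cZ b hb z hz]; group
    have h1 : cj b (Z i) = Z i := by
      refine Subgroup.eq_of_le_of_card_ge ?_ (by rw [card_cj])
      rintro _ ⟨z, hz, rfl⟩
      show b * z * b⁻¹ ∈ Z i
      rw [hbZ z hz]; exact hz
    obtain ⟨s, l, hs⟩ := hc.act b (h.BS hb) h1
    refine ⟨l, fun w hw => ?_⟩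
    have hs1 : ∀ a : F, s a = a := by
      intro a
      obtain ⟨v, hv, e1⟩ := hc.surj (a, 0)
      have hvZ : v ∈ Z i := (hc.memZ v).2 ⟨hv, by rw [e1]⟩
      have h2 := hs v hv
      rw [hbZ v hvZ, e1] at h2
      have h3 := congrArg Prod.fst h2
      simp only [map_zero, mul_zero, add_zero] at h3
      exact h3.symm
    rw [hs w hw]
    simp only [hs1]
  full := hc.full
  dg := fun l hl => by
    obtain ⟨g, hg, -, ha, -⟩ := hc.sl l 0 0 l⁻¹ (by rw [mul_inv_cancel₀ hl]; ring)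
    refine ⟨g, hg, fun w hw => ?_⟩
    rw [ha w hw]
    ext <;> simp

end one

theorem Z_inj (h : QF S B V ZJ L W Z C q) {i j : ι} (e : Z i = Z j) : i = j := by
  by_contra hne
  have h1 : Z i ≤ W i ⊓ C i := le_inf (h.blk i).ZV (by rw [e]; exact (h.blk j).ZV.trans (h.WjC i j hne))
  rw [h.dir i] at h1
  have h2 := Subgroup.card_le_of_le h1
  rw [Subgroup.card_bot, h.cardZ i] at h2
  have := (h.blk i).one
  omega

/-- **`x ∈ N_G(B)` which fixes `Z i` and centralises `Z_J ∩ C i` normalises `W i`** (`q > 2`). -/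
theorem cj_W (h : QF S B V ZJ L W Z C q) (hq : 2 < q) {i : ι} {x : G}
    (hx : x ∈ normalizer (B : Set G)) (hZ : cj x (Z i) = Z i)
    (hC : ∀ z ∈ ZJ, z ∈ C i → x * z = z * x) : ∀ w ∈ W i, x * w * x⁻¹ ∈ W i := by
  obtain ⟨F, _, _, _, hF, e, hc⟩ := h.co i
  have hb := h.bk i hc
  have hle : W i ⊔ ZJ ≤ W i ⊔ (ZJ ⊓ C i) := by
    refine sup_le le_sup_left ?_
    conv_lhs => rw [hb.ZJeq]
    exact sup_le_sup_right hb.ZW _
  have key : ∀ g ∈ normalizer (B : Set G), cj g (Z i) = Z i → cj g (W i) ≤ W i ⊔ (ZJ ⊓ C i) := by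
    intro g hg hgZ
    obtain ⟨j, hj, h2⟩ := h.norm g hg i
    rw [hgZ] at hj
    have := h.Z_inj hj
    subst this
    exact h2.trans hle
  refine hb.cjW ?_ hx hZ (fun c hc => hC c hc.1 hc.2) (fun w hw => key x hx hZ ⟨w, hw, rfl⟩) (fun w hw => ?_)
  · by_contra hcon
    push Not at hcon
    have := Fintype.ofFinite F
    have h1 : (Set.univ : Set F) ⊆ {0, 1} := fun l _ => by
      by_cases hl : l = 0
      · exact Or.inl hl
      · exact Or.inr (hcon l hl)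
    have h2 := Set.ncard_le_ncard h1 (Set.toFinite _)
    rw [Set.ncard_univ, hF] at h2
    have h3 := Set.ncard_insert_le (0 : F) {1}
    rw [Set.ncard_singleton] at h3
    omega
  · have h1 : cj x⁻¹ (Z i) = Z i := by
      conv_lhs => rw [← hZ]
      exact cj_inv_cj _ _
    have h2 := key x⁻¹ (inv_mem hx) h1 ⟨w, hw, rfl⟩
    have e1 : (MulAut.conj x⁻¹).toMonoidHom w = x⁻¹ * w * x := by simp
    rwa [e1] at h2

theorem cB (h : QF S B V ZJ L W Z C q) {b z : G} (hb : b ∈ B) (hz : z ∈ ZJ) : b * z = z * b :=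
  (mem_centralizer_iff.1 (h.Bc hb) z hz).symm

/-- `[v, B] = Z i` for `v ∈ V' - Z i`, `V' ≤ W i Z_J`. -/
theorem rtV (h : QF S B V ZJ L W Z C q) {i : ι} {L' V' : Subgroup G}
    (hN : NB B L' V' (Z i) q) (hV : V' ≤ W i ⊔ ZJ) : Rt B V' (Z i) := by
  intro v hv hvZ z hz
  obtain ⟨w, hw, c, hc, rfl⟩ := mem_sup_comm (fun a ha b hb => h.Vc _ (h.WV i ha) _ (h.ZJV hb)) (hV hv)
  have hwZ : w ∉ Z i := by
    intro hwZ
    refine hvZ (hN.toMd.mem_Z_iff.2 ⟨hv, fun b hb => ?_⟩)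
    have c1 : Commute b w := (h.blk i).cZ b hb w hwZ
    have c2 : Commute b c := h.cB hb hc
    exact (c1.mul_right c2).eq
  obtain ⟨b, hb, e⟩ := h.root i w hw hwZ z hz
  refine ⟨b, hb, ?_⟩
  have e2 : b * c * b⁻¹ = c := by rw [h.cB hb hc]; group
  calc b * (w * c) * b⁻¹ * (w * c)⁻¹ = b * w * b⁻¹ * (b * c * b⁻¹) * c⁻¹ * w⁻¹ := by group
    _ = b * w * b⁻¹ * w⁻¹ := by rw [e2]; group
    _ = z := e

/-- **`V_{L'} = W i`** (`q > 2`). -/
theorem V_eq (h : QF S B V ZJ L W Z C q) (hq : 2 < q) {i : ι} {L' V' : Subgroup G}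
    (hN : NB B L' V' (Z i) q) (hV : V' ≤ W i ⊔ ZJ)
    (hcen : ∀ z ∈ ZJ, z ∈ C i → ∀ l ∈ L', l * z = z * l) : V' = W i := by
  refine Subgroup.eq_of_le_of_card_ge ?_ (by rw [hN.card, (h.blk i).card])
  -- `[V', N_{L'}(B)] ≤ W i`
  have key : ∀ x ∈ L', x ∈ normalizer (B : Set G) → ∀ v ∈ V', x * v * x⁻¹ * v⁻¹ ∈ W i := by
    intro x hx hxB v hv
    obtain ⟨w, hw, c, hc, rfl⟩ := mem_sup_comm (fun a ha b hb => h.Vc _ (h.WV i ha) _ (h.ZJV hb)) (hV hv)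
    obtain ⟨z, hz, d, hdJ, hd, rfl⟩ := h.split i c hc
    have hxZ : cj x (Z i) = Z i := by
      refine Subgroup.eq_of_le_of_card_ge ?_ (by rw [card_cj])
      rintro _ ⟨z, hz, rfl⟩
      exact hN.nZ hx hxB hz
    have hwz : w * z ∈ W i := mul_mem hw ((h.blk i).ZV hz)
    have h1 : x * (w * z) * x⁻¹ ∈ W i := h.cj_W hq hxB hxZ (fun z hz hzC => hcen z hz hzC x hx) _ hwz
    have h2 : x * d * x⁻¹ = d := by rw [hcen d hdJ hd x hx]; group
    have e : x * (w * (z * d)) * x⁻¹ * (w * (z * d))⁻¹ = x * (w * z) * x⁻¹ * (x * d * x⁻¹) * d⁻¹ * (w * z)⁻¹ := by group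
    rw [e, h2, mul_inv_cancel_right]
    exact mul_mem h1 (inv_mem hwz)
  obtain ⟨k, hk, hne⟩ := exists_ne hN
  rw [← sup_eq hN hk hne]
  refine sup_le (h.blk i).ZV fun y₀ hy₀ => ?_
  by_cases hy01 : y₀ = 1
  · rw [hy01]; exact one_mem _
  -- `y₁ ≠ 1, y₀`
  have hcard : Nat.card (cj k (Z i)) = q := by rw [card_cj, h.cardZ]
  obtain ⟨y₁, hy₁, h1, h2⟩ : ∃ y ∈ cj k (Z i), y ≠ 1 ∧ y ≠ y₀⁻¹ := by
    by_contra hcon
    push Not at hcon
    have h1 : (cj k (Z i) : Set G) ⊆ {1, y₀⁻¹} := by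
      intro x hx
      by_cases hx1 : x = 1
      · exact Or.inl hx1
      · exact Or.inr (hcon x hx hx1)
    have h2 := Set.ncard_le_ncard h1 (Set.toFinite _)
    have h3 : (cj k (Z i) : Set G).ncard = Nat.card (cj k (Z i)) := rfl
    rw [h3, hcard] at h2
    have h4 := Set.ncard_insert_le (1 : G) {y₀⁻¹}
    rw [Set.ncard_singleton] at h4
    omega
  have hy₂ : y₀ * y₁ ∈ cj k (Z i) := mul_mem hy₀ hy₁
  have hy₂1 : y₀ * y₁ ≠ 1 := fun e => h2 (eq_inv_of_mul_eq_one_right e)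
  obtain ⟨x, hx, hxB, hxy⟩ := trN hN h.B2 (h.rtV hN hV) hk hne hy₁ h1 hy₂ hy₂1
  have h3 := key x hx hxB y₁ (hN.cjV hk hy₁)
  have h4 : y₀ = (x * y₁ * x⁻¹ * (y₀ * y₁)⁻¹)⁻¹ * (x * y₁ * x⁻¹ * y₁⁻¹) := by
    have hc : y₁ * y₀ = y₀ * y₁ := hN.comm (hN.cjV hk hy₁) (hN.cjV hk hy₀)
    group
  rw [h4]
  exact mul_mem (inv_mem ((h.blk i).ZV hxy)) h3

/-- **An FF-block `L'` over `B` of index `i` lies in `L i ⊔ C_G(W i ⊔ Z_J)`** (`q ≥ 8`). -/
theorem uniTwo8 (h : QF S B V ZJ L W Z C q) (hq : 8 ≤ q) {i : ι} {L' V' : Subgroup G}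
    (hN : NB B L' V' (Z i) q) (hV : V' ≤ W i ⊔ ZJ) (hcen : ∀ z ∈ ZJ, z ∈ C i → ∀ l ∈ L', l * z = z * l) :
    V' = W i ∧ L' ≤ L i ⊔ centralizer ((W i ⊔ ZJ : Subgroup G) : Set G) := by
  have hVW := h.V_eq (by omega) hN hV hcen
  subst hVW
  refine ⟨rfl, ?_⟩
  obtain ⟨F, _, _, _, hFc, e, hc⟩ := h.co i
  obtain ⟨k, hk, hkW, hka, -⟩ := hc.sl 0 (-1) 1 0 (by ring)
  have h2 := Var.Spread.uniTwo8 h.wc h.B2 (h.nb i) hN
    (⟨hc.mul, hc.inj, hc.surj, hc.memZ⟩ : Var.Spread.Crd (W i) (Z i) e) (by omega) hc.full (k₁ := k) hk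
    (fun u => ?_) (fun R hR hR2 hBR => ?_) (fun z hz => ?_)
  · rwa [h.zcB] at h2
  · constructor
    · intro hu
      rw [mem_cj] at hu
      have h3 := (hc.memZ _).1 hu
      have h4 : u = k * (k⁻¹ * u * k) * k⁻¹ := by group
      have h5 := hka _ h3.1
      rw [← h4] at h5
      refine ⟨?_, ?_⟩
      · rw [h4]
        exact (h.blk i).nV k hk _ h3.1
      · rw [h5]
        simp only
        rw [h3.2]
        ring
    · rintro ⟨hu, hu0⟩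
      rw [mem_cj]
      have h3 : k⁻¹ * u * k ∈ W i := by
        have h4 := (h.blk i).nV k⁻¹ (inv_mem hk) u hu
        rwa [inv_inv] at h4
      refine (hc.memZ _).2 ⟨h3, ?_⟩
      have h4 : u = k * (k⁻¹ * u * k) * k⁻¹ := by group
      have h5 := hka _ h3
      rw [← h4] at h5
      rw [h5] at hu0
      simpa using hu0
  · rw [h.zcB] at hR
    exact h.syl R hR hR2 hBR
  · rw [h.zcB] at hz
    obtain ⟨w, hw, c, hcJ, hc', e1⟩ := h.split i z hz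
    exact ⟨w, hw, c, fun l hl => h.LC i l hl c hcJ hc', fun l hl => hcen c hcJ hc' l hl, e1⟩

end QF

end Cfsg.Agent.Omega.OM.SwapV.Q
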