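import Cfsg.Agent.Omega.OM.SwapV.Q.Max

/-!
# The pairs `PairV` are quiet, and can be conjugated into `S`

Over `LB S K B ZJ`, `B` weakly closed, `Ω₁Z(B) ≤ Z_J` (no `Gr` is needed: these lemmas feed the field `fam`).

* `zcT_le` : `Ω₁Z(T) ≤ Z_J` for a 2-group `T ≥ B`;
* `PairV.quiet` : `F` centralises `Ω₁Z(T)`;
* **`PairV.into_S`** : `T^g ≤ S`, `F^g ≤ C_G(Ω₁Z(S))` for some `g ∈ N_G(B)`.
-/

set_option autoImplicit false
set_option linter.unusedSectionVars false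
set_option linter.unusedTactic false
set_option linter.unreachableTactic false

namespace Cfsg.Agent.Omega.OM.SwapV.Q

open Subgroup Cfsg Cfsg.Agent.ZN.ChoiceBase Cfsg.Agent.ZN.ChoiceSit
open Cfsg.Agent.ZN (jj zj bau zc zl o2)
open Cfsg.Agent.Omega.OM.LevD (LB)
open Cfsg.Agent.Omega.OM.WeakCl (WC)

universe u

variable {G : Type u} [Group G] [Finite G] {S : Sylow 2 G} {K B V ZJ X T F : Subgroup G}

/-- a 2-group `T ≥ B` goes into `S` by an element of `N_G(B)` -/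
theorem exists_into (hl : LB S K B ZJ) (hT : IsPGroup 2 T) (hBT : B ≤ T) :
    ∃ m ∈ normalizer (B : Set G), cj m T ≤ (S : Subgroup G) := by
  have hsyl : Syl (S : Subgroup G) (normalizer (B : Set G)) :=
    ZN.CaseTwo.syl_of_sylow S (hl.two_le S.isPGroup' hl.BS)
  obtain ⟨T₁, hT₁, hTT₁⟩ := exists_syl hT (hl.two_le hT hBT)
  obtain ⟨m, hm, hmS⟩ := syl_conj hT₁ hsyl
  refine ⟨m, hm, ?_⟩
  rw [← hmS]
  exact cj_mono m hTT₁

/-- `Ω₁Z(T) ≤ Z_J` for a 2-group `T ≥ B`, `T ≤ S`. -/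
theorem zcT_le_of_le (hl : LB S K B ZJ) (hzB : zc B ≤ ZJ) (hBT : B ≤ T) (hTS : T ≤ (S : Subgroup G)) :
    zc T ≤ ZJ := by
  intro y hy
  obtain ⟨h7, h8, h9⟩ := mem_zc.1 hy
  have hyB : y ∈ B := by
    rw [hl.eqB]
    exact ⟨hTS h7, mem_centralizer_iff.2 fun x hx => h9 x (hBT (hl.ZB hx))⟩
  exact hzB (mem_zc.2 ⟨hyB, h8, fun b hb => h9 b (hBT hb)⟩)

/-- `Ω₁Z(T) ≤ Z_J` for a 2-group `T ≥ B`. -/
theorem zcT_le (hl : LB S K B ZJ) (hzB : zc B ≤ ZJ) (hT : IsPGroup 2 T) (hBT : B ≤ T) : zc T ≤ ZJ := by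
  obtain ⟨m, hm, hmT⟩ := exists_into hl hT hBT
  have hBm := cj_eq_of_mem_normalizer hm
  have h1 : zc (cj m T) ≤ ZJ := zcT_le_of_le hl hzB (by
    have := cj_mono m hBT
    rwa [hBm] at this) hmT
  have h2 := cj_mono m⁻¹ h1
  rwa [← NO3S.Level.zc_cj, cj_inv_cj, cj_eq_of_mem_normalizer (hl.norm_B_le (inv_mem hm))] at h2

/-- **`F` centralises `Ω₁Z(T)`.** -/
theorem PairV.quiet (hl : LB S K B ZJ) (hzB : zc B ≤ ZJ) (hp : PairV B V ZJ X T F) :
    F ≤ centralizer (zc T : Set G) := by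
  rw [le_centralizer_iff]
  intro z hz
  exact hp.fix ⟨zcT_le hl hzB hp.syl.2.1 hp.BT hz,
    mem_centralizer_iff.2 fun t ht => (mem_zc.1 hz).2.2 t (o2_le_syl hp.syl ht)⟩

/-- Pairs are invariant under conjugation by `N_G(B)`. -/
theorem PairV.cjN (hl : LB S K B ZJ) (hNV : normalizer (B : Set G) ≤ normalizer (V : Set G))
    (hN : normalizer (B : Set G) ≤ X) (hp : PairV B V ZJ X T F) {m : G}
    (hm : m ∈ normalizer (B : Set G)) : PairV B V ZJ X (cj m T) (cj m F) := by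
  have hX : cj m X = X := cj_eq_of_mem_normalizer (le_normalizer (hN hm))
  have hX' : cj m⁻¹ X = X := cj_eq_of_mem_normalizer (le_normalizer (inv_mem (hN hm)))
  have hJ := cj_eq_of_mem_normalizer (hl.norm_B_le hm)
  have hV := cj_eq_of_mem_normalizer (hNV hm)
  have h1 := ZN.CaseTwo.syl_cj m hp.syl
  have h2 : B ≤ cj m T := by
    have := cj_mono m hp.BT
    rwa [cj_eq_of_mem_normalizer hm] at this
  have h3 : ¬ cj m F ≤ X := fun hle => hp.nM (by
    have := cj_mono m⁻¹ hle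
    rwa [cj_inv_cj, hX'] at this)
  have h4 : ∀ K : Subgroup G, cj m T ≤ K → K < cj m F → K ≤ X := fun K h1 h2 => by
    have h3 := hp.min (cj m⁻¹ K) (by
      have := cj_mono m⁻¹ h1
      rwa [cj_inv_cj] at this) (by
      have h4 := cj_mono m⁻¹ h2.le
      rw [cj_inv_cj] at h4
      refine lt_of_le_of_ne h4 fun e => h2.ne ?_
      rw [← e, cj_cj_inv])
    have h4 := cj_mono m h3
    rwa [cj_cj_inv, hX] at h4
  have h5 : V ≤ o2 (cj m F) := by
    have := cj_mono m hp.VO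
    rwa [hV, ← o2_cj] at this
  have h6 : ZJ ⊓ centralizer (o2 (cj m F) : Set G) ≤ centralizer (cj m F : Set G) := by
    have := cj_mono m hp.fix
    rwa [cj_inf, hJ, cj_centralizer, cj_centralizer, ← o2_cj] at this
  constructor <;> first | exact h1 | exact h2 | exact h3 | exact h4 | exact h5 | exact h6 | skip
  all_goals
    have := cj_mono m hp.c2
    rwa [cj_inf, cj_centralizer, ← o2_cj] at this

/-- **A pair can be conjugated into `S`, and then lies in `C_G(Ω₁Z(S))`.** -/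
theorem PairV.into_S (hl : LB S K B ZJ) (hzB : zc B ≤ ZJ) (hNV : normalizer (B : Set G) ≤ normalizer (V : Set G))
    (hN : normalizer (B : Set G) ≤ X) (hp : PairV B V ZJ X T F) :
    ∃ g ∈ normalizer (B : Set G), cj g T ≤ (S : Subgroup G) ∧ PairV B V ZJ X (cj g T) (cj g F) ∧
      cj g F ≤ centralizer (zc (S : Subgroup G) : Set G) := by
  obtain ⟨m, hm, hmT⟩ := exists_into hl hp.syl.2.1 hp.BT
  have hp' := hp.cjN hl hNV hN hm
  refine ⟨m, hm, hmT, hp', (hp'.quiet hl hzB).trans (centralizer_le ?_)⟩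
  intro z hz
  obtain ⟨h7, h8, h9⟩ := mem_zc.1 hz
  have hzJ : z ∈ ZJ := zcT_le_of_le hl hzB hl.BS le_rfl hz
  exact mem_zc.2 ⟨hp'.BT (hl.ZB hzJ), h8, fun t ht => h9 t (hmT ht)⟩

end Cfsg.Agent.Omega.OM.SwapV.Q
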