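import Cfsg.Agent.Omega.OM.SwapV.Q.QF
import Cfsg.Agent.Omega.OM.SwapK.Blk
import Cfsg.Agent.Omega.OM.Lev.UniPlus
import Cfsg.Agent.Omega.OM.SWQ.ModQ

/-!
# UNI+ for the blocks of stage `K₀` over `B = C_S(Ω₁Z(nxt S K₀))`, any weakly closed level `K₀`, any `q`

* `V_le` : an FF-block `L' ≤ N_G(K₀)` over `B` has its module in `Ω₁Z(K₀)`;
* `uniK` : it has an index `i` of the frame `FrL B Q V (zc K₀) ZJ ..`;
* `exists_blkK` : a minimal parabolic `Y` over `T ≥ B` with `K₀ ≤ O₂(Y)`, `nxt S K₀ ≰ O₂(Y)`, `[Ω₁Z(T), Y] ≠ 1` is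
  generated by `T` and such a block;
* `qfK` : the frame `QF` at the level `K₀`; `exists_blkK8` : then `L' ≤ L i ⊔ C_G(W i ⊔ Z_J)` if `q ≥ 8`.
-/

set_option autoImplicit false
set_option linter.unusedSectionVars false

namespace Cfsg.Agent.Omega.OM.SwapV.Q.UniK

open Subgroup Cfsg Cfsg.Agent.ZN.ChoiceBase Cfsg.Agent.ZN.ChoiceSit
open Cfsg.Agent.ZN (jj zj bau zc zl o2)
open Cfsg.Agent.MinSimple.MinParabolic (IsMinPar)
open Cfsg.Agent.Omega.NO3S.Level (nxt Lev)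
open Cfsg.Agent.Omega.OM.LevB (FBlk)
open Cfsg.Agent.Omega.OM.Lev.Uni (FrL)
open Cfsg.Agent.Omega.OM.Uni (FB)
open Cfsg.Agent.Omega.OM.UniPlus (NB)
open Cfsg.Agent.Omega.OM.SwapK (WL BK ZK)
open Cfsg.Agent.Omega.SQ1.Bau (elem_sq)

universe u

variable {G : Type u} [Group G] [Finite G] {ι : Type} {S : Sylow 2 G} {K₀ V Q : Subgroup G}
  {L W Z C A : ι → Subgroup G} {q : ℕ}

/-- the module of a block `L' ≤ N_G(K₀)` lies in `Ω₁Z(K₀)` -/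
theorem V_le (wl : WL S K₀) {L' V' : Subgroup G} (h : FBlk (BK (S : Subgroup G) K₀) L' V')
    (hn : L' ≤ normalizer (K₀ : Set G)) : V' ≤ zc K₀ := by
  have hf : Fact (Nat.Prime 2) := ⟨Nat.prime_two⟩
  obtain ⟨Z', q', hF⟩ := h.fb
  have hBS : BK (S : Subgroup G) K₀ ≤ (S : Subgroup G) := inf_le_left
  have h1 := h.blk.le_centralizer (S.isPGroup'.to_le wl.lev.le) hn
  exact fun v hv => wl.lev.mem_of_comm (hBS (hF.VB hv)) (elem_sq hF.el v hv) fun y hy =>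
    (mem_centralizer_iff.1 (h1 hy) v hv).symm

/-- `N_G(B)` permutes the `Z i` -/
theorem norm [Finite ι] (wl : WL S K₀)
    (fr : FrL (BK (S : Subgroup G) K₀) Q V (zc K₀) (ZK (S : Subgroup G) K₀) L W Z C A q) {g : G}
    (hg : g ∈ normalizer (BK (S : Subgroup G) K₀ : Set G)) :
    cj g V = V ∧ ∀ i, ∃ j, cj g (Z i) = Z j ∧ cj g (W i) ≤ W j ⊔ ZK (S : Subgroup G) K₀ :=
  fr.norm_of hg (NO3S.Level.normalizer_le_zc _ (wl.norm_B hg))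

/-- **UNI+ for the blocks in `N_G(K₀)`.** -/
theorem uniK [Finite ι] (wl : WL S K₀)
    (fr : FrL (BK (S : Subgroup G) K₀) Q V (zc K₀) (ZK (S : Subgroup G) K₀) L W Z C A q) {L' V' : Subgroup G}
    (h : FBlk (BK (S : Subgroup G) K₀) L' V') (hn : L' ≤ normalizer (K₀ : Set G)) :
    ∃ i, NB (BK (S : Subgroup G) K₀) L' V' (Z i) q ∧ V' ≤ W i ⊔ ZK (S : Subgroup G) K₀ ∧
      (∀ z ∈ ZK (S : Subgroup G) K₀, z ∈ C i ↔ ∀ l ∈ L', l * z = z * l) ∧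
        (q = 2 → V' = W i ∧ L' ≤ L i ⊔ centralizer ((W i ⊔ ZK (S : Subgroup G) K₀ : Subgroup G) : Set G)) := by
  have hX := V_le wl h hn
  obtain ⟨⟨Z', q', hF⟩, hb⟩ := h
  obtain ⟨-, i, -, h1, h2, h3, h4⟩ := Cfsg.Agent.Omega.OM.Lev.UniPlus.uniPlusX fr wl.lb.Bp wl.wcB
    (fun g hg j => by obtain ⟨k, hk, -⟩ := (norm wl fr hg).2 j; exact ⟨k, hk⟩) hF hX
  exact ⟨i, h1, h2, h3, h4⟩

/-- **A minimal parabolic of stage `K₀` is generated by `T` and a block with an index.** -/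
theorem exists_blkK [Finite ι] (wl : WL S K₀)
    (fr : FrL (BK (S : Subgroup G) K₀) Q V (zc K₀) (ZK (S : Subgroup G) K₀) L W Z C A q) {T Y : Subgroup G}
    (hT : Syl T Y) (hB : BK (S : Subgroup G) K₀ ≤ T) (hP : IsMinPar T Y)
    (hc : Y ⊓ centralizer (o2 Y : Set G) ≤ o2 Y) (hK : K₀ ≤ o2 Y) (hn : ¬ nxt (S : Subgroup G) K₀ ≤ o2 Y)
    (hZ : ¬ Y ≤ centralizer (zc T : Set G)) :
    ∃ i, ∃ L' V' : Subgroup G, L' ≤ Y ∧ Y ≤ T ⊔ L' ∧ NB (BK (S : Subgroup G) K₀) L' V' (Z i) q ∧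
      V' ≤ W i ⊔ ZK (S : Subgroup G) K₀ ∧
      (∀ z ∈ ZK (S : Subgroup G) K₀, z ∈ C i ↔ ∀ l ∈ L', l * z = z * l) ∧
        (q = 2 → V' = W i ∧ L' ≤ L i ⊔ centralizer ((W i ⊔ ZK (S : Subgroup G) K₀ : Subgroup G) : Set G)) := by
  obtain ⟨L', V', h1, h2, h3⟩ := wl.exists_fblk hT hB hP hc hK hn hZ
  have h4 : L' ≤ normalizer (K₀ : Set G) :=
    h1.trans ((le_normalizer_o2 Y).trans (wl.norm_T (isPGroup_o2 Y) hK))
  obtain ⟨i, h5, h6, h7, h8⟩ := uniK wl fr h2 h4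
  exact ⟨i, L', V', h1, h3, h5, h6, h7, h8⟩

/-- `L' ≤ C_G(Z_J ∩ C i)` -/
theorem exists_cent [Finite ι] (wl : WL S K₀)
    (fr : FrL (BK (S : Subgroup G) K₀) Q V (zc K₀) (ZK (S : Subgroup G) K₀) L W Z C A q) {T Y : Subgroup G}
    (hT : Syl T Y) (hB : BK (S : Subgroup G) K₀ ≤ T) (hP : IsMinPar T Y)
    (hc : Y ⊓ centralizer (o2 Y : Set G) ≤ o2 Y) (hK : K₀ ≤ o2 Y) (hn : ¬ nxt (S : Subgroup G) K₀ ≤ o2 Y)
    (hZ : ¬ Y ≤ centralizer (zc T : Set G)) :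
    ∃ i, Y ≤ T ⊔ centralizer ((ZK (S : Subgroup G) K₀ ⊓ C i : Subgroup G) : Set G) := by
  obtain ⟨i, L', V', -, h2, -, -, h5, -⟩ := exists_blkK wl fr hT hB hP hc hK hn hZ
  exact ⟨i, h2.trans (sup_le_sup_left (fun l hl => mem_centralizer_iff.2 fun z hz =>
    ((h5 z hz.1).1 hz.2 l hl).symm) _)⟩

/-- **The frame `QF` at the level `K₀`.** -/
theorem qfK [Finite ι] (wl : WL S K₀)
    (fr : FrL (BK (S : Subgroup G) K₀) Q V (zc K₀) (ZK (S : Subgroup G) K₀) L W Z C A q)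
    (co : ∀ i, ∃ (F : Type) (_ : Field F) (_ : Finite F) (_ : CharP F 2), Nat.card F = q ∧
      ∃ e : G → F × F, Cor F (S : Subgroup G) (BK (S : Subgroup G) K₀) L W Z i e) :
    QF (S : Subgroup G) (BK (S : Subgroup G) K₀) V (ZK (S : Subgroup G) K₀) L W Z C q where
  B2 := wl.lb.Bp
  BS := wl.lb.BS
  wc := wl.wcB
  syl := fun R hR hR2 hBR => wl.lb.syl.2.2 R hR hR2 hBR
  sq := wl.lb.sq
  Bc := wl.lb.Bc
  zcB := fr.zcB
  Vc := fun v hv w hw => fr.Vc hv hw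
  WV := fr.WV
  CV := fr.CV
  ZJV := fr.ZJV
  dir := fr.dir
  WjC := fr.WjC
  blk := fr.blk
  nb := fun i => ⟨fr.blk i, fr.cardZ i⟩
  cardZ := fr.cardZ
  Zle := fr.Z_le
  split := fun i z hz => by
    obtain ⟨w, hw, c, hc, hcJ, e⟩ := fr.split_ZJ i hz
    exact ⟨w, hw, c, hcJ, hc, e⟩
  LC := fr.LC
  root := fun i w hw hwZ z hz => by
    obtain ⟨a, ha, e⟩ := SWQ.ModQ.root fr hw hwZ hz
    exact ⟨a, fr.AB i ha, e⟩
  norm := fun _ hg i => (norm wl fr hg).2 i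
  co := co

/-- **A minimal parabolic of stage `K₀` lies in `⟨T, L i, C_G(Z_J)⟩`** (`q ≥ 8`). -/
theorem exists_blkK8 [Finite ι] (wl : WL S K₀)
    (fr : FrL (BK (S : Subgroup G) K₀) Q V (zc K₀) (ZK (S : Subgroup G) K₀) L W Z C A q)
    (co : ∀ i, ∃ (F : Type) (_ : Field F) (_ : Finite F) (_ : CharP F 2), Nat.card F = q ∧
      ∃ e : G → F × F, Cor F (S : Subgroup G) (BK (S : Subgroup G) K₀) L W Z i e) (hq : 8 ≤ q) {T Y : Subgroup G}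
    (hT : Syl T Y) (hB : BK (S : Subgroup G) K₀ ≤ T) (hP : IsMinPar T Y)
    (hc : Y ⊓ centralizer (o2 Y : Set G) ≤ o2 Y) (hK : K₀ ≤ o2 Y) (hn : ¬ nxt (S : Subgroup G) K₀ ≤ o2 Y)
    (hZ : ¬ Y ≤ centralizer (zc T : Set G)) :
    ∃ i, Y ≤ T ⊔ (L i ⊔ centralizer (ZK (S : Subgroup G) K₀ : Set G)) := by
  obtain ⟨i, L', V', -, h2, h3, h4, h5, -⟩ := exists_blkK wl fr hT hB hP hc hK hn hZ
  obtain ⟨-, h6⟩ := (qfK wl fr co).uniTwo8 hq h3 h4 fun z hz hzC => (h5 z hz).1 hzC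
  refine ⟨i, h2.trans (sup_le_sup_left (h6.trans (sup_le_sup_left (centralizer_le ?_) _)) _)⟩
  exact_mod_cast (le_sup_right : ZK (S : Subgroup G) K₀ ≤ W i ⊔ ZK (S : Subgroup G) K₀)

end Cfsg.Agent.Omega.OM.SwapV.Q.UniK
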